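import Cfsg.Agent.Lib.Sporadic.HeldUnique.Mate

/-!
# Refuting a candidate action

A product of coded elements and copies of `Y` is evaluated on coded elements by the given action.
When it fixes the centre but no coded element acts in the same way, there is no such `Y`.
-/

set_option autoImplicit false

namespace CfsgLib.Sporadic.HeldUnique

open CosetCert

/-- Witness against a candidate: words for some elements, the steps, the tracked pairs. -/
structure Wit where
  /-- elements with words in the sources of the candidate -/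
  tab : List (ℕ × List ℕ) := []
  /-- the factors: a code with its inverse, or `Y` -/
  steps : List (Option (ℕ × ℕ)) := []
  /-- the tracked elements with their images -/
  used : List (ℕ × ℕ) := []

instance : Inhabited Wit := ⟨{}⟩

variable (D : Mdl)

/-- The product of a word in some codes. -/
noncomputable def evalW (g : List ℕ) (w : List ℕ) : ℕ :=
  w.foldl (fun a j => D.mul a (g.getD j 0)) 0

/-- The image of a tabulated element; `21504` when none is known. -/
noncomputable def imgOf (ps : List (ℕ × ℕ)) : List (ℕ × List ℕ) → ℕ → ℕ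
  | [], _ => 21504
  | (b, w) :: t, a =>
    bif Nat.beq a b && (w.all fun j => Nat.blt j ps.length) && Nat.beq (evalW D (ps.map Prod.fst) w) b
      then evalW D (ps.map Prod.snd) w else imgOf ps t a

/-- The image under a product. -/
noncomputable def track (ps : List (ℕ × ℕ)) (tab : List (ℕ × List ℕ)) : List (Option (ℕ × ℕ)) → ℕ → ℕ
  | [], a => a
  | none :: t, a => imgOf D ps tab (track ps tab t a)
  | some c :: t, a =>
    bif Nat.blt (track ps tab t a) 21504 then D.mul (D.mul c.1 (track ps tab t a)) c.2 else 21504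

/-- The bounds on the codes involved. -/
def inRange (ps : List (ℕ × ℕ)) : Bool :=
  ps.all fun e => Nat.blt e.1 21504 && Nat.blt e.2 21504

/-- The check of a witness. -/
noncomputable def refutes (ps : List (ℕ × ℕ)) (w : Wit) : Bool :=
  inRange ps &&
  ((w.steps.all fun s => s.all fun c => Nat.blt c.1 21504 && Nat.blt c.2 21504 && Nat.beq (D.mul c.1 c.2) 0) &&
  (Nat.beq (track D ps w.tab w.steps 1) 1 &&
  ((w.used.all fun e => Nat.blt e.1 21504 && Nat.blt e.2 21504 && Nat.beq (track D ps w.tab w.steps e.1) e.2) &&
  allBelow (fun l => !(w.used.all fun e =>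
      Nat.beq (D.lmOf l (Nat.div e.1 128)) (D.lmOf (Nat.div e.2 128) l)) ||
    allBelow (fun a => !(w.used.all fun e =>
      Nat.beq (D.mul (a + 128 * l) e.1) (D.mul e.2 (a + 128 * l)))) 128) 168)))

variable {D} {G : Type*} [Group G] {Q : Subgroup G} {z x y : G} {v : ℕ → G}

namespace Mdl.Loc

theorem evalW_val (h : Loc D Q z v x y) (hD : D.Good) (g : List ℕ) (hg : ∀ j, g.getD j 0 < 21504) :
    ∀ w : List ℕ, evalW D g w < 21504 ∧
      D.val v z x y (evalW D g w) = (w.map fun j => D.val v z x y (g.getD j 0)).prod := by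
  intro w
  induction w using List.reverseRecOn with
  | nil => simp [evalW, val_zero D hD.ok]
  | append_singleton t a ih =>
    obtain ⟨hlt, he⟩ := ih
    obtain ⟨e, hl⟩ := mul_spec h.toRels hD hlt (hg a)
    rw [evalW, List.foldl_append, List.foldl_cons, List.foldl_nil, List.map_append, List.prod_append]
    exact ⟨hl, by rw [show List.foldl (fun a j => D.mul a (g.getD j 0)) 0 t = evalW D g t from rfl, ← e,
      he, List.map_singleton, List.prod_singleton]⟩

theorem conj_inv_code (h : Loc D Q z v x y) (hD : D.Good) {c d : ℕ} (hc : c < 21504) (hd : d < 21504)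
    (e : D.mul c d = 0) : (D.val v z x y c)⁻¹ = D.val v z x y d :=
  inv_eq_of_mul_eq_one_right (by rw [h.mul hD hc hd, e, val_zero D hD.ok])

end Mdl.Loc

namespace Mate

variable {Y : G} {ps : List (ℕ × ℕ)}

theorem conj_list (hY : Mate D v z x y Y ps) : ∀ w : List ℕ, (∀ j ∈ w, j < ps.length) →
    Y * (w.map fun j => D.val v z x y ((ps.map Prod.fst).getD j 0)).prod * Y⁻¹ =
      (w.map fun j => D.val v z x y ((ps.map Prod.snd).getD j 0)).prod := by
  intro w
  induction w with
  | nil => simp
  | cons j t ih =>
    intro hw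
    have hj : j < ps.length := hw j List.mem_cons_self
    have := hY.act _ (List.getElem_mem hj)
    simp only [List.map_cons, List.prod_cons, List.getD_eq_getElem _ _ (by simpa using hj : j < (ps.map Prod.fst).length),
      List.getD_eq_getElem _ _ (by simpa using hj : j < (ps.map Prod.snd).length), List.getElem_map]
    rw [← this, ← ih fun i hi => hw i (List.mem_cons_of_mem _ hi)]
    group

theorem getD_lt (hr : inRange ps = true) (j : ℕ) :
    (ps.map Prod.fst).getD j 0 < 21504 ∧ (ps.map Prod.snd).getD j 0 < 21504 := by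
  by_cases hj : j < ps.length
  · have := List.all_eq_true.1 hr _ (List.getElem_mem hj)
    simp only [Bool.and_eq_true, Nat.blt_eq] at this
    simpa [List.getD_eq_getElem?_getD, List.getElem?_map, List.getElem?_eq_getElem hj] using this
  · simp [List.getD_eq_getElem?_getD, List.getElem?_map, List.getElem?_eq_none (not_lt.1 hj)]

theorem imgOf_spec (hY : Mate D v z x y Y ps) (h : Mdl.Loc D Q z v x y) (hD : D.Good)
    (hr : inRange ps = true) : ∀ (tab : List (ℕ × List ℕ)) (a : ℕ), imgOf D ps tab a < 21504 →
    Y * D.val v z x y a * Y⁻¹ = D.val v z x y (imgOf D ps tab a) := by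
  intro tab a
  induction tab with
  | nil => intro hlt; exact absurd hlt (lt_irrefl _)
  | cons e t ih =>
    obtain ⟨b, w⟩ := e
    rw [imgOf]
    rcases hb : (Nat.beq a b && (w.all fun j => Nat.blt j ps.length) &&
      Nat.beq (evalW D (ps.map Prod.fst) w) b) with _ | _
    · exact ih
    · intro _
      simp only [Bool.and_eq_true, Nat.beq_eq, List.all_eq_true, Nat.blt_eq] at hb
      obtain ⟨⟨rfl, hw⟩, he⟩ := hb
      rw [cond_true, (h.evalW_val hD _ (fun j => (getD_lt hr j).2) w).2, ← hY.conj_list w hw,
        ← (h.evalW_val hD _ (fun j => (getD_lt hr j).1) w).2, he]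

end Mate

/-- The product of the steps. -/
def stepProd (D : Mdl) (v : ℕ → G) (z x y Y : G) : List (Option (ℕ × ℕ)) → G
  | [] => 1
  | none :: t => Y * stepProd D v z x y Y t
  | some c :: t => D.val v z x y c.1 * stepProd D v z x y Y t

theorem track_spec (h : Mdl.Loc D Q z v x y) (hD : D.Good) {Y : G} {ps : List (ℕ × ℕ)}
    (hY : Mate D v z x y Y ps) (hr : inRange ps = true) (tab : List (ℕ × List ℕ)) :
    ∀ steps : List (Option (ℕ × ℕ)),
      (∀ c, some c ∈ steps → c.1 < 21504 ∧ c.2 < 21504 ∧ D.mul c.1 c.2 = 0) → ∀ a < 21504,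
      track D ps tab steps a < 21504 → stepProd D v z x y Y steps * D.val v z x y a =
        D.val v z x y (track D ps tab steps a) * stepProd D v z x y Y steps := by
  intro steps
  induction steps with
  | nil => intro _ a _ _; simp [stepProd, track]
  | cons s t ih =>
    intro hs a ha hlt
    have ih' := ih (fun c hc => hs c (List.mem_cons_of_mem _ hc)) a ha
    rcases s with _ | c
    · rw [track] at hlt ⊢
      have hlt' : track D ps tab t a < 21504 := by
        by_contra hn
        have : ∀ tab : List (ℕ × List ℕ), imgOf D ps tab (track D ps tab t a) < 21504 → True :=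
          fun _ _ => trivial
        obtain ⟨b, hb, hb'⟩ : ∃ b, b = track D ps tab t a ∧ ∃ w, (b, w) ∈ tab ∧
            evalW D (ps.map Prod.fst) w = b := by
          refine ⟨_, rfl, ?_⟩
          have key : ∀ (l : List (ℕ × List ℕ)) (u : ℕ), imgOf D ps l u < 21504 →
              ∃ w, (u, w) ∈ l ∧ evalW D (ps.map Prod.fst) w = u := by
            intro l u
            induction l with
            | nil => intro hu; exact absurd hu (lt_irrefl _)
            | cons e l ihl =>
              obtain ⟨b, w⟩ := e
              intro hu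
              rw [imgOf] at hu
              rcases hb : (Nat.beq u b && (w.all fun j => Nat.blt j ps.length) &&
                Nat.beq (evalW D (ps.map Prod.fst) w) b) with _ | _
              · rw [hb] at hu
                obtain ⟨w', hm, he⟩ := ihl hu
                exact ⟨w', List.mem_cons_of_mem _ hm, he⟩
              · simp only [Bool.and_eq_true, Nat.beq_eq] at hb
                obtain ⟨⟨rfl, -⟩, he⟩ := hb
                exact ⟨w, List.mem_cons_self, he⟩
          exact key tab _ hlt
        obtain ⟨w, -, he⟩ := hb'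
        exact hn (hb ▸ he ▸ (h.evalW_val hD _ (fun j => (Mate.getD_lt hr j).1) w).1)
      rw [stepProd, mul_assoc, ih' hlt', ← mul_assoc, ← mul_assoc, ← hY.imgOf_spec h hD hr tab _ hlt]
      group
    · obtain ⟨c1, c2, c0⟩ := hs c List.mem_cons_self
      rw [track] at hlt ⊢
      rcases hb : Nat.blt (track D ps tab t a) 21504 with _ | _
      · rw [hb] at hlt; exact absurd hlt (lt_irrefl _)
      · have hlt' := Nat.blt_eq.mp hb
        obtain ⟨e1, l1⟩ := Mdl.mul_spec h.toRels hD c1 hlt'
        rw [cond_true, stepProd, mul_assoc, ih' hlt', ← (Mdl.mul_spec h.toRels hD l1 c2).1, ← e1,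
          ← h.conj_inv_code hD c1 c2 c0]
        group

theorem mul_div (h : Mdl.Loc D Q z v x y) (hD : D.Good) {i j : ℕ} (hi : i < 21504) (hj : j < 21504) :
    D.mul i j / 128 = D.lmOf (i / 128) (j / 128) := by
  obtain ⟨-, hk, -⟩ := Mdl.word_mul h.toRels hD (j / 128) (by omega) (i / 128) (by omega)
  have hr := qmul_lt _ (qmul_lt _ (Nat.mod_lt i (by norm_num : 0 < 128)) _
    (Mdl.act_lt' hD.ok (show i / 128 < 168 by omega) (Nat.mod_lt j (by norm_num : 0 < 128)))) _ hk
  have e : D.mul i j = 128 * D.lmOf (i / 128) (j / 128) + qmul (qmul (i % 128)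
      (D.actOf (i / 128) (j % 128))) (D.kapOf (i / 128) (j / 128)) := rfl
  omega

/-- **A refuted candidate has no mate.** -/
theorem refutes_false [Finite G] (h : Mdl.Loc D Q z v x y) (hD : D.Good) {Y : G} {ps : List (ℕ × ℕ)}
    (hY : Mate D v z x y Y ps) {w : Wit} (hw : refutes D ps w = true) : False := by
  simp only [refutes, Bool.and_eq_true, Nat.beq_eq, List.all_eq_true] at hw
  obtain ⟨hr, hs, h1, hu, hscan⟩ := hw
  have hs' : ∀ c, some c ∈ w.steps → c.1 < 21504 ∧ c.2 < 21504 ∧ D.mul c.1 c.2 = 0 := fun c hc => by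
    have := hs _ hc
    simp only [Option.all_some, Bool.and_eq_true, Nat.blt_eq, Nat.beq_eq] at this
    exact ⟨this.1.1, this.1.2, this.2⟩
  have hg := track_spec h hD hY hr w.tab w.steps hs'
  have hz : stepProd D v z x y Y w.steps * z = z * stepProd D v z x y Y w.steps := by
    have := hg 1 (by norm_num) (by rw [h1]; norm_num)
    rwa [h1, Mdl.val_z D hD.ok] at this
  obtain ⟨c, hc, hcg⟩ := h.cover hD hz
  have key : ∀ e ∈ w.used, D.mul c e.1 = D.mul e.2 c ∧ e.1 < 21504 ∧ e.2 < 21504 := by
    intro e he
    have hb := hu e he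
    simp only [Bool.and_eq_true, Nat.blt_eq, Nat.beq_eq] at hb
    obtain ⟨⟨e1, e2⟩, e3⟩ := hb
    have hh := hg e.1 e1 (by rw [e3]; exact e2)
    rw [e3, ← hcg, h.mul hD hc e1, h.mul hD e2 hc] at hh
    exact ⟨h.inj hD (Mdl.mul_spec h.toRels hD hc e1).2 (Mdl.mul_spec h.toRels hD e2 hc).2 hh, e1, e2⟩
  have hl : w.used.all (fun e => Nat.beq (D.lmOf (c / 128) (Nat.div e.1 128))
      (D.lmOf (Nat.div e.2 128) (c / 128))) = true := List.all_eq_true.2 fun e he => by
    obtain ⟨k1, k2, k3⟩ := key e he
    rw [Nat.beq_eq, show Nat.div e.1 128 = e.1 / 128 from rfl, show Nat.div e.2 128 = e.2 / 128 from rfl,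
      ← mul_div h hD hc k2, ← mul_div h hD k3 hc, k1]
  have := of_allBelow hscan (c / 128) (by omega)
  rw [hl] at this
  simp only [Bool.not_true, Bool.false_or] at this
  have := of_allBelow this (c % 128) (Nat.mod_lt _ (by norm_num))
  rw [show c % 128 + 128 * (c / 128) = c from Nat.mod_add_div c 128, Bool.not_eq_true'] at this
  rw [List.all_eq_true.2 fun e he => Nat.beq_eq.mpr (key e he).1] at this
  exact Bool.noConfusion this

end CfsgLib.Sporadic.HeldUnique
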