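import Cfsg.Agent.Lib.Sporadic.HeldUnique.BadCore

/-!
# Witnesses against the bad candidates

Machine-generated.
-/

namespace CfsgLib.Sporadic.HeldUnique

/-- Witnesses, in the order of the candidates. -/
def witTwo : List Wit :=
  [
    ⟨[(1, [0, 3, 0, 3, 0, 3]), (4, [1, 3, 2, 3, 3, 1, 3, 2, 3, 3]), (5, [1, 3, 1, 3, 1, 3]), (9472, [3, 0, 3, 4]), (10754, [1, 3, 1, 2, 4, 3, 1, 3]), (10756, [2, 3, 0, 1, 3, 2, 4])],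
      [none, none, some (1848, 1870), some (1848, 1870), none, none],
      [(9472, 10754)]⟩,
    ⟨[(1, [0, 3, 0, 3, 0, 3]), (5, [1, 3, 1, 3, 1, 3]), (64, [3, 1, 3, 3]), (66, [1, 3, 0, 3, 1, 3])],
      [none, some (32, 32), none],
      [(64, 195)]⟩,
    ⟨[(1, [0, 3, 0, 3, 0, 3]), (5, [1, 3, 1, 3, 1, 3]), (16, [1, 3, 1, 3, 3]), (9032, [0, 1, 3, 0, 3, 2, 3, 1])],
      [none, some (224, 226), none],
      [(16, 9036)]⟩,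
    ⟨[(1, [0, 3, 0, 3, 0, 3]), (5, [1, 3, 1, 3, 1, 3]), (9472, [3, 0, 3, 4]), (10819, [3, 1, 2, 4, 3, 1, 3, 1])],
      [none, some (32, 32), none],
      [(9472, 9542)]⟩,
    ⟨[(1, [0, 3, 0, 3, 0, 3]), (2, [1, 3, 0, 1, 3, 1, 3]), (4, [1, 3, 2, 3, 3, 1, 3, 2, 3, 3]), (5, [1, 3, 1, 3, 1, 3]), (65, [0, 3, 1, 3, 3, 0]), (194, [1, 3, 0, 3, 2, 3, 1, 2]), (197, [1, 2, 3, 3, 2, 3, 1]), (9472, [0, 4, 3, 0]), (9479, [4, 3]), (10819, [1, 3, 2, 4, 3, 1, 3])],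
      [none, none, some (14864, 11392), none, some (16168, 19647), none],
      [(9472, 9479), (2, 66)]⟩,
    ⟨[(1, [0, 3, 0, 3, 0, 3]), (5, [1, 3, 1, 3, 1, 3]), (64, [3, 1, 3, 3]), (70, [3, 0, 1, 3, 3])],
      [none, some (9016, 9012), none],
      [(64, 198)]⟩,
    ⟨[(1, [0, 3, 0, 3, 0, 3]), (5, [1, 3, 1, 3, 1, 3]), (80, [1]), (10251, [0, 3, 2, 3, 2, 3])],
      [none, some (176, 183), none],
      [(80, 10251)]⟩,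
    ⟨[(1, [0, 3, 0, 3, 0, 3]), (5, [1, 3, 1, 3, 1, 3]), (9472, [0, 4, 3, 0]), (9478, [0, 3, 0, 3, 0, 4])],
      [none, some (9000, 8996), none],
      [(9472, 9475)]⟩,
    ⟨[(1, [0, 3, 0, 3, 0, 3]), (4, [1, 3, 2, 3, 3, 1, 3, 2, 3, 3]), (5, [1, 3, 1, 3, 1, 3]), (8, [1, 3, 1, 3, 0, 1, 3]), (16, [1, 3, 1, 3, 3]), (9024, [2, 3, 2, 3, 3]), (9041, [1, 3, 1, 3, 2, 3]), (9049, [3, 3, 0, 1, 2, 3]), (17948, [2, 4, 3, 0, 1, 3, 2]), (19457, [1, 3, 1, 4]), (19464, [0, 3, 0, 3, 1, 4, 3]), (19484, [4, 3, 0, 3])],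
      [none, none, some (6298, 5152), none, some (5152, 6298), none],
      [(9024, 17937), (8, 8)]⟩,
    ⟨[(1, [0, 3, 0, 3, 0, 3]), (4, [1, 3, 2, 3, 3, 1, 3, 2, 3, 3]), (5, [1, 3, 1, 3, 1, 3]), (16, [1, 3, 1, 3, 3]), (29, [1, 3, 1, 3, 0, 3]), (9028, [1, 2, 3, 2, 3, 3, 1]), (9029, [1, 3, 3, 2, 3, 1])],
      [none, none, some (5406, 3744), some (3714, 5415), none, none],
      [(16, 9025)]⟩,
    ⟨[(1, [0, 3, 0, 3, 0, 3]), (5, [1, 3, 1, 3, 1, 3]), (64, [3, 1, 3, 3]), (194, [1, 3, 0, 3, 2, 3, 1, 2])],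
      [none, some (32, 32), none],
      [(64, 198)]⟩,
    default,
    default,
    ⟨[(1, [0, 3, 0, 3, 0, 3]), (5, [1, 3, 1, 3, 1, 3]), (64, [3, 1, 3, 3]), (71, [3, 1, 3, 0, 3, 0])],
      [none, some (9000, 8996), none],
      [(64, 194)]⟩,
    ⟨[(1, [0, 3, 0, 3, 0, 3]), (5, [1, 3, 1, 3, 1, 3]), (64, [3, 1, 3, 3]), (194, [1, 3, 0, 3, 2, 3, 1, 2])],
      [none, some (32, 32), none],
      [(64, 198)]⟩,
    ⟨[(1, [0, 3, 0, 3, 0, 3]), (4, [1, 3, 2, 3, 3, 1, 3, 2, 3, 3]), (5, [1, 3, 1, 3, 1, 3]), (20, [0, 3, 3, 1, 3, 0]), (21, [3, 3, 1, 3]), (9025, [3, 3, 2, 3]), (9032, [0, 1, 3, 0, 3, 2, 3, 1]), (17929, [3, 1, 3, 0, 2, 4, 3, 1]), (17949, [2, 4, 3, 0, 1, 3, 2]), (19473, [0, 4, 3, 0, 3, 0]), (19476, [1, 3, 0, 1, 3, 1, 4, 3, 0]), (19477, [1, 4, 3, 1, 3, 1])],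
      [none, none, some (7364, 4352), none, none, some (7410, 4418), none, some (4352, 7364), none, some (4418, 7410), none],
      [(4, 19476)]⟩]

/-- Witnesses, in the order of the candidates. -/
def witFive : List Wit :=
  [
    ⟨[(1, [0, 3, 1, 3, 3, 0, 3, 1, 3, 3]), (2, [2, 3, 2, 3, 1, 2, 3]), (6, [2, 3, 2, 3, 2, 3]), (7, [0, 3, 0, 3, 0, 3]), (10, [3, 3, 0, 1, 3]), (136, [3, 3, 0, 2, 3]), (140, [3, 3, 0, 1, 2, 3]), (143, [0, 3, 0, 3, 2, 3]), (9055, [1, 4, 3, 0, 3, 1]), (10325, [0, 3, 0, 3, 0, 1, 2, 4, 3]), (10326, [4, 3, 2, 3]), (10330, [2, 3, 2, 3, 0, 1, 4, 3])],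
      [none, none, some (12209, 14688), none, none, some (20018, 16432), some (12209, 14688), none, some (16432, 20018), none, some (14688, 12209), none],
      [(2, 10328)]⟩,
    ⟨[(1, [0, 3, 1, 3, 3, 0, 3, 1, 3, 3]), (6, [2, 3, 2, 3, 2, 3]), (7, [0, 3, 0, 3, 0, 3]), (48, [0]), (119, [1, 3, 0, 3, 0, 3]), (10866, [1, 3, 2, 3, 3, 0, 3, 3, 2, 3]), (10867, [0, 1, 2])],
      [none, none, some (10083, 11266), some (8714, 8828), none, none],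
      [(48, 10869)]⟩,
    default,
    ⟨[(1, [0, 3, 1, 3, 3, 0, 3, 1, 3, 3]), (7, [0, 3, 0, 3, 0, 3]), (8, [0, 1, 3, 0, 3, 3, 1]), (142, [2, 3, 2, 3, 0, 3])],
      [none, some (9552, 9492), none],
      [(8, 142)]⟩,
    default,
    ⟨[(1, [0, 3, 1, 3, 3, 0, 3, 1, 3, 3]), (7, [0, 3, 0, 3, 0, 3]), (8, [0, 1, 3, 0, 3, 3, 1]), (12, [3, 0, 3, 1, 3, 0])],
      [none, some (9552, 9492), none],
      [(8, 142)]⟩,
    ⟨[(1, [0, 3, 1, 3, 3, 0, 3, 1, 3, 3]), (6, [2, 3, 2, 3, 2, 3]), (7, [0, 3, 0, 3, 0, 3]), (62, [0, 3, 3, 0, 3]), (122, [0, 3, 1, 3, 0, 3]), (9474, [3, 2, 3, 3]), (17721, [1, 3, 0, 3, 1, 4]), (17727, [3, 1, 4, 3, 0, 3, 0])],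
      [none, none, some (6959, 4114), none, some (4114, 6959), none],
      [(9474, 17720)]⟩,
    ⟨[(1, [0, 3, 1, 3, 3, 0, 3, 1, 3, 3]), (6, [2, 3, 2, 3, 2, 3]), (7, [0, 3, 0, 3, 0, 3]), (8, [0, 1, 3, 0, 3, 3, 1]), (10, [3, 3, 0, 1, 3]), (14, [3, 3, 0, 3]), (141, [3, 0, 3, 1, 2, 3, 0])],
      [none, none, some (12209, 14688), some (14672, 12240), none, none],
      [(8, 138)]⟩,
    ⟨[(1, [0, 3, 1, 3, 3, 0, 3, 1, 3, 3]), (7, [0, 3, 0, 3, 0, 3]), (1808, [1, 2, 3, 2, 3, 2, 3, 4]), (3109, [0, 1, 2, 4])],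
      [none, some (24, 24), none],
      [(1808, 3170)]⟩,
    ⟨[(1, [0, 3, 1, 3, 3, 0, 3, 1, 3, 3]), (7, [0, 3, 0, 3, 0, 3]), (48, [0]), (112, [0, 1])],
      [none, some (154, 159), none],
      [(48, 10802)]⟩,
    ⟨[(1, [0, 3, 1, 3, 3, 0, 3, 1, 3, 3]), (7, [0, 3, 0, 3, 0, 3]), (1808, [1, 2, 3, 2, 3, 2, 3, 4]), (3109, [0, 1, 2, 4])],
      [none, some (24, 24), none],
      [(1808, 1888)]⟩,
    ⟨[(1, [0, 3, 1, 3, 3, 0, 3, 1, 3, 3]), (7, [0, 3, 0, 3, 0, 3]), (8, [0, 1, 3, 0, 3, 3, 1]), (142, [2, 3, 2, 3, 0, 3])],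
      [none, some (9552, 9492), none],
      [(8, 142)]⟩,
    ⟨[(1, [0, 3, 1, 3, 3, 0, 3, 1, 3, 3]), (7, [0, 3, 0, 3, 0, 3]), (9040, [0, 1, 4, 3, 0, 3, 0, 1]), (10329, [0, 2, 3, 0, 2, 4])],
      [none, some (32, 32), none],
      [(9040, 9055)]⟩,
    ⟨[(1, [0, 3, 1, 3, 3, 0, 3, 1, 3, 3]), (6, [2, 3, 2, 3, 2, 3]), (7, [0, 3, 0, 3, 0, 3]), (8, [0, 1, 3, 0, 3, 3, 1]), (10, [3, 3, 0, 1, 3]), (138, [2, 3, 2, 3, 0, 1, 3]), (140, [3, 3, 0, 1, 2, 3])],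
      [none, none, some (1664, 1748), some (1664, 1748), none, none],
      [(8, 141)]⟩,
    ⟨[(1, [0, 3, 1, 3, 3, 0, 3, 1, 3, 3]), (7, [0, 3, 0, 3, 0, 3]), (9040, [0, 1, 4, 3, 0, 3, 0, 1]), (9055, [0, 1, 3, 0, 1, 4])],
      [none, some (9504, 9571), none],
      [(9040, 9055)]⟩,
    ⟨[(1, [0, 3, 1, 3, 3, 0, 3, 1, 3, 3]), (7, [0, 3, 0, 3, 0, 3]), (48, [0]), (10804, [2, 3, 0, 3, 0, 3])],
      [none, some (152, 156), none],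
      [(48, 10803)]⟩]

end CfsgLib.Sporadic.HeldUnique
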