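import Cfsg.Agent.Lib.Sporadic.HeldUnique.Mate

/-!
# The sixteen candidate actions for each class of four-groups
-/

namespace CfsgLib.Sporadic.HeldUnique

/-- The candidates for the class of `4`. -/
def candTwo : List (List (ℕ × ℕ)) :=
  [
    [(10, 10324), (80, 84), (10240, 10255), (11011, 11011), (1738, 1738)],
    [(10, 10324), (80, 94), (10240, 10245), (11011, 11011), (1738, 1738)],
    [(10, 10324), (80, 10240), (10240, 91), (11011, 11011), (1738, 1738)],
    [(10, 10324), (80, 10250), (10240, 81), (11011, 11011), (1738, 1738)],
    [(10, 10324), (80, 84), (10240, 10255), (11011, 11011), (1739, 1739)],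
    [(10, 10324), (80, 94), (10240, 10245), (11011, 11011), (1739, 1739)],
    [(10, 10324), (80, 10240), (10240, 91), (11011, 11011), (1739, 1739)],
    [(10, 10324), (80, 10250), (10240, 81), (11011, 11011), (1739, 1739)],
    [(10, 10324), (80, 84), (10240, 10255), (11011, 11011), (1742, 1742)],
    [(10, 10324), (80, 94), (10240, 10245), (11011, 11011), (1742, 1742)],
    [(10, 10324), (80, 10240), (10240, 91), (11011, 11011), (1742, 1742)],
    [(10, 10324), (80, 10250), (10240, 81), (11011, 11011), (1742, 1742)],
    [(10, 10324), (80, 84), (10240, 10255), (11011, 11011), (1743, 1743)],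
    [(10, 10324), (80, 94), (10240, 10245), (11011, 11011), (1743, 1743)],
    [(10, 10324), (80, 10240), (10240, 91), (11011, 11011), (1743, 1743)],
    [(10, 10324), (80, 10250), (10240, 81), (11011, 11011), (1743, 1743)]]

/-- The candidates for the class of `6`. -/
def candFive : List (List (ℕ × ℕ)) :=
  [
    [(48, 54), (64, 10820), (10754, 71), (11408, 11408), (1872, 1872)],
    [(48, 119), (64, 10820), (10754, 71), (11408, 11408), (1872, 1872)],
    [(48, 10804), (64, 10820), (10754, 71), (11408, 11408), (1872, 1872)],
    [(48, 10869), (64, 10820), (10754, 71), (11408, 11408), (1872, 1872)],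
    [(48, 54), (64, 10820), (10754, 71), (11408, 11408), (1873, 1873)],
    [(48, 119), (64, 10820), (10754, 71), (11408, 11408), (1873, 1873)],
    [(48, 10804), (64, 10820), (10754, 71), (11408, 11408), (1873, 1873)],
    [(48, 10869), (64, 10820), (10754, 71), (11408, 11408), (1873, 1873)],
    [(48, 54), (64, 10820), (10754, 71), (11408, 11408), (1878, 1878)],
    [(48, 119), (64, 10820), (10754, 71), (11408, 11408), (1878, 1878)],
    [(48, 10804), (64, 10820), (10754, 71), (11408, 11408), (1878, 1878)],
    [(48, 10869), (64, 10820), (10754, 71), (11408, 11408), (1878, 1878)],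
    [(48, 54), (64, 10820), (10754, 71), (11408, 11408), (1879, 1879)],
    [(48, 119), (64, 10820), (10754, 71), (11408, 11408), (1879, 1879)],
    [(48, 10804), (64, 10820), (10754, 71), (11408, 11408), (1879, 1879)],
    [(48, 10869), (64, 10820), (10754, 71), (11408, 11408), (1879, 1879)]]

end CfsgLib.Sporadic.HeldUnique
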