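import Mathlib
import Cfsg.Agent.Lib.Sporadic.HeldUnique.OrthoData
import Cfsg.Agent.Lib.Sporadic.CosetCertBelow

/-!
# The orthogonal group of degree six over two elements as the symmetric group of degree eight

Vectors are numbers below 64; the form is the number of common bits of the two halves. The even
subsets of eight points modulo complement give the same space. Pairs of permutations satisfying
`x² = y³ = (xy)⁷ = [x,y]⁴ = 1` are classified up to conjugation and inversion of `y`.
-/

set_option autoImplicit false
set_option maxRecDepth 100000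
set_option Elab.async false

namespace CfsgLib.Sporadic.HeldUnique.Ortho

open CfsgLib.Sporadic.CosetCert

/-- The form. -/
def qv (v : ℕ) : Bool :=
  xor (v.testBit 0 && v.testBit 3) (xor (v.testBit 1 && v.testBit 4) (v.testBit 2 && v.testBit 5))

/-- The bilinear form. -/
def pol (a b : ℕ) : Bool := xor (qv (a ^^^ b)) (xor (qv a) (qv b))

/-- The subset of a vector, as a mask. -/
def mask (v : ℕ) : ℕ :=
  (List.range 6).foldl (fun m k => bif v.testBit k then m ^^^ basisMask.getD k 0 else m) 0

/-- The subset of a vector. -/
def vm (v : ℕ) : Fin 8 → Bool := fun i => (mask v).testBit i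

/-- The number of a subset. -/
def num (x : Fin 8 → Bool) : ℕ :=
  (List.ofFn fun i : Fin 8 => bif x i then 2 ^ (i : ℕ) else 0).sum

/-- The vector of a subset. -/
def co (x : Fin 8 → Bool) : ℕ := coTab.getD (num x) 0

/-- An entry of a packed permutation. -/
def app (n i : ℕ) : ℕ := Nat.land (Nat.shiftRight n (3 * i)) 7

/-- The packed pair is a permutation and its inverse. -/
noncomputable def okPair (g h : ℕ) : Bool :=
  allBelow (fun i => Nat.beq (app g (app h i)) i && Nat.beq (app h (app g i)) i) 8

/-- All extensions of a partial injection satisfy `P`. -/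
noncomputable def forallInj (P : ℕ → Bool) : ℕ → ℕ → ℕ → Bool
  | 0, _, acc => P acc
  | k + 1, used, acc => allBelow (fun j => Nat.testBit used j ||
      forallInj P k (Nat.lor used (2 ^ j)) (acc + j * 8 ^ (7 - k))) 8

/-- The check for an involution. -/
noncomputable def invCheck (n : ℕ) : Bool :=
  !(allBelow (fun i => Nat.beq (app n (app n i)) i) 8) ||
    allBelow (fun i => Nat.beq (app n i) i) 8 ||
    invTab.any fun e => Nat.beq e.1 n && (Nat.blt e.2.1 4 && okPair e.2.2.1 e.2.2.2 &&
      allBelow (fun i => Nat.beq (app e.2.2.1 (app (repCode.getD e.2.1 0) i))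
        (app n (app e.2.2.1 i))) 8)

theorem inv_all : forallInj invCheck 8 0 0 = true := by decide +kernel

/-- Composition of packed permutations at a point, over a word. -/
def appW (w : List ℕ) (i : ℕ) : ℕ := w.foldr (fun n j => app n j) i

/-- The relations at all points. -/
noncomputable def relCheck (x y : ℕ) : Bool :=
  allBelow (fun i => Nat.beq (appW [y, y, y] i) i) 8 &&
  (allBelow (fun i => Nat.beq (appW [x, y, x, y, x, y, x, y, x, y, x, y, x, y] i) i) 8 &&
  allBelow (fun i => Nat.beq
    (appW [x, y, x, y, y, x, y, x, y, y, x, y, x, y, y, x, y, x, y, y] i) i) 8)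

/-- The check for a pair. -/
noncomputable def pairCheck (r n : ℕ) : Bool :=
  !(relCheck (repCode.getD r 0) n) || allBelow (fun i => Nat.beq (app n i) i) 8 ||
    allBelow (fun i => Nat.beq (app (repCode.getD r 0) (app n i)) i) 8 ||
    pairTab.any fun e => Nat.beq e.1 r && (Nat.beq e.2.1 n && ((Nat.beq e.2.2.2.1 1 || Nat.beq e.2.2.2.1 2) &&
      (okPair e.2.2.2.2.1 e.2.2.2.2.2 &&
      (allBelow (fun i => Nat.beq (app e.2.2.2.2.1 (app (classCode.getD e.2.2.2.1 (0, 0)).1 i))
        (app (repCode.getD r 0) (app e.2.2.2.2.1 i))) 8 &&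
      allBelow (fun i => Nat.beq (app e.2.2.2.2.1 (app (classCode.getD e.2.2.2.1 (0, 0)).2 i))
        (appW (bif e.2.2.1 then [n, n] else [n]) (app e.2.2.2.2.1 i))) 8))))

theorem pair_all0 : forallInj (pairCheck 0) 8 0 0 = true := by decide +kernel

theorem pair_all1 : forallInj (pairCheck 1) 8 0 0 = true := by decide +kernel

theorem pair_all2 : forallInj (pairCheck 2) 8 0 0 = true := by decide +kernel

theorem pair_all3 : forallInj (pairCheck 3) 8 0 0 = true := by decide +kernel

/-- The check of a transversal. -/
noncomputable def levelCheck (i : ℕ) : Bool :=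
  allBelow (fun w => qv w || Nat.blt w (2 ^ i) ||
    !(allBelow (fun j => pol (2 ^ j) w == pol (2 ^ j) (2 ^ i)) i) ||
    levelTab.any fun e => Nat.beq e.1 i && (Nat.beq e.2.1 w && okPair e.2.2.1 e.2.2.2)) 64

theorem level_all : allBelow levelCheck 6 = true := by decide +kernel

/-- The action, by the packed inverse. -/
def actC (gi v : ℕ) : ℕ := co fun i => (mask v).testBit (app gi i)

theorem level_act : levelTab.all (fun e =>
    Nat.beq (actC e.2.2.2 (2 ^ e.1)) e.2.1 &&
      allBelow (fun j => Nat.beq (actC e.2.2.2 (2 ^ j)) (2 ^ j)) e.1) = true := by decide +kernel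

end CfsgLib.Sporadic.HeldUnique.Ortho
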