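import Mathlib
import Cfsg.Agent.Lib.Sporadic.HeldUnique.OrthoChecks

/-!
# The orthogonal group of degree six over two elements as the symmetric group of degree eight

Vectors are numbers below 64; the form is the number of common bits of the two halves. The even
subsets of eight points modulo complement give the same space. Pairs of permutations satisfying
`x² = y³ = (xy)⁷ = [x,y]⁴ = 1` are classified up to conjugation and inversion of `y`.
-/

set_option autoImplicit false
set_option maxRecDepth 100000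
set_option Elab.async false

namespace CfsgLib.Sporadic.HeldUnique.Ortho

open Equiv CfsgLib.Sporadic.CosetCert

theorem allBelow_intro {p : ℕ → Bool} : ∀ {n : ℕ}, (∀ i < n, p i = true) → allBelow p n = true
  | 0, _ => rfl
  | n + 1, h => by
    show (p n && allBelow p n) = true
    rw [h n n.lt_succ_self, allBelow_intro fun i hi => h i (hi.trans n.lt_succ_self)]
    rfl

/-- The cardinality of a subset. -/
def wt (x : Fin 8 → Bool) : ℕ := (Finset.univ.filter fun i => x i = true).card

theorem wt_comp (x : Fin 8 → Bool) (σ : Perm (Fin 8)) : wt (fun i => x (σ i)) = wt x :=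
  Finset.card_equiv σ fun i => by simp

theorem vm_co : ∀ x : Fin 8 → Bool, wt x % 2 = 0 →
    (vm (co x) = x ∨ vm (co x) = fun i => !x i) ∧ (co fun i => !x i) = co x ∧ co x < 64 ∧
      qv (co x) = decide (wt x / 2 % 2 = 1) := by decide +kernel

theorem co_vm : ∀ v < 64, co (vm v) = v ∧ wt (vm v) % 2 = 0 := by decide +kernel

theorem vm_xor : ∀ a < 64, ∀ b < 64, (vm (a ^^^ b) = fun i => xor (vm a i) (vm b i)) := by
  decide +kernel

theorem wt_xor : ∀ a < 64, ∀ b < 64, wt (fun i => xor (vm a i) (vm b i)) % 2 = 0 := by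
  intro a ha b hb
  rw [← vm_xor a ha b hb]
  exact (co_vm _ (Nat.xor_lt_two_pow (n := 6) ha hb)).2

/-- The action of a permutation on the vectors. -/
def act (σ : Perm (Fin 8)) (v : ℕ) : ℕ := co fun i => vm v (σ.symm i)

theorem even_act (σ : Perm (Fin 8)) {v : ℕ} (hv : v < 64) : wt (fun i => vm v (σ.symm i)) % 2 = 0 := by
  rw [wt_comp]; exact (co_vm v hv).2

theorem act_lt (σ : Perm (Fin 8)) {v : ℕ} (hv : v < 64) : act σ v < 64 :=
  (vm_co _ (even_act σ hv)).2.2.1

theorem act_one {v : ℕ} (hv : v < 64) : act 1 v = v := (co_vm v hv).1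

theorem qv_act (σ : Perm (Fin 8)) {v : ℕ} (hv : v < 64) : qv (act σ v) = qv v := by
  rw [act, (vm_co _ (even_act σ hv)).2.2.2, wt_comp, ← (vm_co _ (co_vm v hv).2).2.2.2, (co_vm v hv).1]

theorem act_mul (σ τ : Perm (Fin 8)) {v : ℕ} (hv : v < 64) : act (σ * τ) v = act σ (act τ v) := by
  have h := vm_co _ (even_act τ hv)
  have e : (fun i => vm v ((σ * τ).symm i)) = fun i => (fun j => vm v (τ.symm j)) (σ.symm i) := rfl
  rw [act, act, e]
  rcases h.1 with h1 | h1
  · rw [act, h1]
  · rw [act, h1]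
    exact ((vm_co _ (by rw [wt_comp (fun j => vm v (τ.symm j)) σ.symm]; exact even_act τ hv)).2.1).symm

theorem co_compl {x : Fin 8 → Bool} (hx : wt x % 2 = 0) : (co fun i => !x i) = co x :=
  (vm_co x hx).2.1

theorem wt_xor' {x y : Fin 8 → Bool} (hx : wt x % 2 = 0) (hy : wt y % 2 = 0) :
    wt (fun i => xor (x i) (y i)) % 2 = 0 ∧ co (fun i => xor (x i) (y i)) = co x ^^^ co y := by
  obtain ⟨hx1, -, hx3, -⟩ := vm_co x hx
  obtain ⟨hy1, -, hy3, -⟩ := vm_co y hy
  have hab := vm_xor _ hx3 _ hy3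
  have hev := wt_xor _ hx3 _ hy3
  have hlt := Nat.xor_lt_two_pow (n := 6) hx3 hy3
  have key : co (fun i => xor (vm (co x) i) (vm (co y) i)) = co x ^^^ co y := by
    rw [← hab]; exact (co_vm _ hlt).1
  have hc : ∀ w : Fin 8 → Bool, wt (fun i => !w i) % 2 = wt w % 2 := by decide +kernel
  rcases hx1 with a | a <;> rcases hy1 with b | b <;> rw [a, b] at key hev
  · exact ⟨hev, key⟩
  · have e : (fun i => xor (x i) (!y i)) = fun i => !xor (x i) (y i) := by
      funext i; cases x i <;> cases y i <;> rfl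
    rw [e] at key hev
    rw [hc] at hev
    exact ⟨hev, by rw [← key, co_compl hev]⟩
  · have e : (fun i => xor (!x i) (y i)) = fun i => !xor (x i) (y i) := by
      funext i; cases x i <;> cases y i <;> rfl
    rw [e] at key hev
    rw [hc] at hev
    exact ⟨hev, by rw [← key, co_compl hev]⟩
  · have e : (fun i => xor (!x i) (!y i)) = fun i => xor (x i) (y i) := by
      funext i; cases x i <;> cases y i <;> rfl
    rw [e] at key hev
    exact ⟨hev, key⟩

theorem act_xor (σ : Perm (Fin 8)) {a b : ℕ} (ha : a < 64) (hb : b < 64) :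
    act σ (a ^^^ b) = act σ a ^^^ act σ b := by
  rw [act, act, act, vm_xor a ha b hb]
  exact (wt_xor' (even_act σ ha) (even_act σ hb)).2

theorem act_injective {σ : Perm (Fin 8)} (h : ∀ v < 64, act σ v = v) : σ = 1 := by
  have two : ∀ i j : Fin 8, i ≠ j → σ i = i ∨ σ i = j := by
    intro i j hij
    set x : Fin 8 → Bool := fun k => decide (k = i ∨ k = j) with hx
    have h2 : ∀ i j : Fin 8, i ≠ j → wt (fun k => decide (k = i ∨ k = j)) = 2 := by decide +kernel
    have hw : wt x = 2 := h2 i j hij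
    obtain ⟨hm, -, hlt, -⟩ := vm_co x (by rw [hw])
    have hv := h _ hlt
    have he : wt (fun k => x (σ.symm k)) % 2 = 0 := by rw [wt_comp, hw]
    have hs : co (fun k => x (σ.symm k)) = co x := by
      rcases hm with hm | hm <;> rw [act, hm] at hv
      · exact hv
      · rw [co_compl he] at hv; exact hv
    have hxx : ((fun k => x (σ.symm k)) = x) := by
      obtain ⟨hm', -, -, -⟩ := vm_co _ he
      rw [hs] at hm'
      have hne : ∀ y : Fin 8 → Bool, wt y = 2 → wt (fun k => !y k) ≠ 2 := by decide +kernel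
      rcases hm with hm | hm <;> rcases hm' with hm' | hm' <;> rw [hm] at hm'
      · exact hm'.symm
      · exact absurd (hm' ▸ hw) (hne _ (by rw [wt_comp, hw]))
      · exact absurd (by rw [hm', wt_comp, hw]) (hne x hw)
      · funext k
        have := congrFun hm' k
        simpa using this.symm
    have := congrFun hxx (σ i)
    simpa [hx] using this.symm
  have ex : ∀ i : Fin 8, ∃ j k : Fin 8, i ≠ j ∧ i ≠ k ∧ j ≠ k := by decide
  ext i : 1
  obtain ⟨j, k, hj, hk, hjk⟩ := ex i
  rcases two i j hj with a | a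
  · exact a
  · rcases two i k hk with b | b
    · exact b
    · exact absurd (a.symm.trans b) hjk

theorem act_ext {σ τ : Perm (Fin 8)} (h : ∀ v < 64, act σ v = act τ v) : σ = τ := by
  rw [← mul_inv_eq_one]
  refine inv_injective ?_
  rw [mul_inv_rev, inv_inv, inv_one]
  refine act_injective fun v hv => ?_
  have hlt := act_lt σ⁻¹ hv
  rw [act_mul τ σ⁻¹ hv, ← h _ hlt, ← act_mul σ σ⁻¹ hv, mul_inv_cancel, act_one hv]

theorem split_bit : ∀ a < 64, a = 0 ∨ ∃ j < 6, 2 ^ j ≤ a ∧ (2 ^ j ^^^ a) < a := by decide +kernel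

theorem linear_ext {f g : ℕ → ℕ} (hf : ∀ a < 64, ∀ b < 64, f (a ^^^ b) = f a ^^^ f b)
    (hg : ∀ a < 64, ∀ b < 64, g (a ^^^ b) = g a ^^^ g b) {i : ℕ} (hi : i ≤ 6)
    (h : ∀ j < i, f (2 ^ j) = g (2 ^ j)) : ∀ a < 2 ^ i, f a = g a := by
  intro a
  induction a using Nat.strong_induction_on with
  | _ a ih =>
    intro ha
    have h64 : a < 64 := lt_of_lt_of_le ha (Nat.pow_le_pow_right (by norm_num) hi)
    rcases split_bit a h64 with rfl | ⟨j, hj, hle, hlt⟩
    · have e1 := hf 0 (by norm_num) 0 (by norm_num)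
      have e2 := hg 0 (by norm_num) 0 (by norm_num)
      simp only [Nat.xor_self] at e1 e2
      rw [e1, e2]
    · have hji : j < i := by
        by_contra hc
        exact absurd (hle.trans_lt ha) (not_lt.2 (Nat.pow_le_pow_right (by norm_num) (not_lt.1 hc)))
      have hp : 2 ^ j < 64 := hle.trans_lt h64
      have e : a = 2 ^ j ^^^ (2 ^ j ^^^ a) := by rw [← Nat.xor_assoc, Nat.xor_self, Nat.zero_xor]
      rw [e, hf _ hp _ (hlt.trans h64), hg _ hp _ (hlt.trans h64), h j hji,
        ih _ hlt (hlt.trans ha)]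

/-- The code of a permutation. -/
def code (σ : Perm (Fin 8)) : ℕ :=
  (σ 0 : ℕ) + 8 * (σ 1 : ℕ) + 8 ^ 2 * (σ 2 : ℕ) + 8 ^ 3 * (σ 3 : ℕ) + 8 ^ 4 * (σ 4 : ℕ) +
    8 ^ 5 * (σ 5 : ℕ) + 8 ^ 6 * (σ 6 : ℕ) + 8 ^ 7 * (σ 7 : ℕ)

theorem app_code (σ : Perm (Fin 8)) (i : Fin 8) : app (code σ) i = σ i := by
  have key : ∀ n j : ℕ, app n j = n / 8 ^ j % 8 := fun n j => by
    show (n >>> (3 * j)) &&& (2 ^ 3 - 1) = _
    rw [Nat.and_two_pow_sub_one_eq_mod, Nat.shiftRight_eq_div_pow, pow_mul]
    norm_num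
  have h := fun k : Fin 8 => (σ k).isLt
  rw [key, code]
  fin_cases i <;> simp <;> have := h 0 <;> have := h 1 <;> have := h 2 <;> have := h 3 <;>
    have := h 4 <;> have := h 5 <;> have := h 6 <;> have := h 7 <;> omega

theorem app_lt (n i : ℕ) : app n i < 8 := Nat.lt_succ_of_le Nat.and_le_right

/-- The permutation of a packed pair. -/
def toPerm (g h : ℕ) (e : okPair g h = true) : Perm (Fin 8) where
  toFun i := ⟨app g i, app_lt _ _⟩
  invFun i := ⟨app h i, app_lt _ _⟩
  left_inv i := Fin.ext (by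
    have := of_allBelow e i i.isLt
    simp only [Bool.and_eq_true, Nat.beq_eq] at this
    exact this.2)
  right_inv i := Fin.ext (by
    have := of_allBelow e i i.isLt
    simp only [Bool.and_eq_true, Nat.beq_eq] at this
    exact this.1)

theorem app_toPerm (g h : ℕ) (e : okPair g h = true) (i : Fin 8) :
    ((toPerm g h e i : Fin 8) : ℕ) = app g i := rfl

theorem forallInj_spec (P : ℕ → Bool) (σ : Perm (Fin 8)) : ∀ k, k ≤ 8 → ∀ used acc,
    (∀ j : Fin 8, used.testBit (σ j) = true → (j : ℕ) < 8 - k) →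
    acc = ∑ j ∈ Finset.univ.filter (fun j : Fin 8 => (j : ℕ) < 8 - k), (σ j : ℕ) * 8 ^ (j : ℕ) →
    forallInj P k used acc = true → P (∑ j : Fin 8, (σ j : ℕ) * 8 ^ (j : ℕ)) = true := by
  intro k
  induction k with
  | zero =>
    intro _ used acc _ hacc h
    rw [forallInj, hacc] at h
    simpa using h
  | succ k ih =>
    intro hk used acc hused hacc h
    have hi : 7 - k < 8 := by omega
    set i : Fin 8 := ⟨7 - k, hi⟩ with hidef
    have h1 := of_allBelow h (σ i) (σ i).isLt
    rw [Bool.or_eq_true] at h1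
    rcases h1 with h1 | h1
    · have := hused i h1
      simp [hidef] at this
      try omega
    · refine ih (by omega) _ _ (fun j hj => ?_) ?_ h1
      · rw [show Nat.lor used (2 ^ (σ i : ℕ)) = used ||| 2 ^ (σ i : ℕ) from rfl, Nat.testBit_lor,
          Bool.or_eq_true] at hj
        rcases hj with hj | hj
        · have := hused j hj; omega
        · rw [Nat.testBit_two_pow, decide_eq_true_eq] at hj
          have : j = i := σ.injective (Fin.ext hj.symm)
          rw [this, hidef]; simp; try omega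
      · have e : Finset.univ.filter (fun j : Fin 8 => (j : ℕ) < 8 - k) =
            insert i (Finset.univ.filter fun j : Fin 8 => (j : ℕ) < 8 - (k + 1)) := by
          ext j
          simp [hidef, Fin.ext_iff]
          omega
        rw [e, Finset.sum_insert (by simp [hidef]; try omega), hacc, add_comm]

theorem of_forallInj {P : ℕ → Bool} (h : forallInj P 8 0 0 = true) (σ : Perm (Fin 8)) :
    P (code σ) = true := by
  have e : (∑ j : Fin 8, (σ j : ℕ) * 8 ^ (j : ℕ)) = code σ := by
    rw [Fin.sum_univ_eight, code]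
    simp
    ring
  rw [← e]
  exact forallInj_spec P σ 8 le_rfl 0 0 (fun j hj => by simp at hj) (by simp) h

theorem rep_ok : ∀ r < 4, okPair (repCode.getD r 0) (repCode.getD r 0) = true := by decide +kernel

/-- The four involutions. -/
noncomputable def rep (r : Fin 4) : Perm (Fin 8) :=
  toPerm (repCode.getD r 0) (repCode.getD r 0) (rep_ok r r.isLt)

theorem exists_rep {σ : Perm (Fin 8)} (h2 : σ * σ = 1) (h1 : σ ≠ 1) :
    ∃ (r : Fin 4) (g : Perm (Fin 8)), σ = g * rep r * g⁻¹ := by
  have h := of_forallInj inv_all σ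
  simp only [invCheck, Bool.or_eq_true, Bool.not_eq_true'] at h
  rcases h with (h | h) | h
  · have : allBelow (fun i => Nat.beq (app (code σ) (app (code σ) i)) i) 8 = true := by
      have hb : ∀ i < 8, Nat.beq (app (code σ) (app (code σ) i)) i = true := fun i hi => by
        rw [app_code σ ⟨i, hi⟩, app_code σ (σ ⟨i, hi⟩), ← Perm.mul_apply, h2, Nat.beq_eq]
        rfl
      exact allBelow_intro hb
    rw [h] at this; exact absurd this Bool.false_ne_true
  · refine absurd (Perm.ext fun i => Fin.ext ?_) h1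
    have := Nat.eq_of_beq_eq_true (of_allBelow h i i.isLt)
    rw [app_code] at this
    exact this
  · obtain ⟨⟨n, r, g, gi⟩, -, he⟩ := List.any_eq_true.1 h
    simp only [Bool.and_eq_true, Nat.beq_eq, Nat.blt_eq] at he
    obtain ⟨rfl, ⟨⟨hr, hok⟩, hconj⟩⟩ := he
    refine ⟨⟨r, hr⟩, toPerm g gi hok, eq_mul_inv_of_mul_eq (Perm.ext fun i => Fin.ext ?_)⟩
    have := Nat.eq_of_beq_eq_true (of_allBelow hconj i i.isLt)
    rw [show app g (i : ℕ) = ((toPerm g gi hok i : Fin 8) : ℕ) from rfl, app_code] at this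
    exact this.symm

theorem class_ok : ∀ k < 3, okPair (classCode.getD k (0, 0)).1 (classInv.getD k (0, 0)).1 = true ∧
    okPair (classCode.getD k (0, 0)).2 (classInv.getD k (0, 0)).2 = true := by decide +kernel

/-- The first generator of a class. -/
def clX (k : Fin 3) : Perm (Fin 8) :=
  toPerm (classCode.getD k (0, 0)).1 (classInv.getD k (0, 0)).1 (class_ok k k.isLt).1

/-- The second generator of a class. -/
def clY (k : Fin 3) : Perm (Fin 8) :=
  toPerm (classCode.getD k (0, 0)).2 (classInv.getD k (0, 0)).2 (class_ok k k.isLt).2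

theorem appW_cons (σ : Perm (Fin 8)) (w : List ℕ) (τ : Perm (Fin 8)) (i : Fin 8)
    (h : appW w i = τ i) : appW (code σ :: w) i = (σ * τ) i := by
  rw [appW, List.foldr_cons, ← appW, h, app_code]; rfl

theorem appW_prod : ∀ (l : List (Perm (Fin 8))) (i : Fin 8),
    appW (l.map code) i = ((l.prod i : Fin 8) : ℕ)
  | [], _ => rfl
  | σ :: l, i => by rw [List.map_cons, List.prod_cons]; exact appW_cons σ _ _ i (appW_prod l i)

theorem code_rep (r : Fin 4) : code (rep r) = repCode.getD r 0 := by revert r; decide +kernel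

theorem code_clX (k : Fin 3) : code (clX k) = (classCode.getD k (0, 0)).1 := by revert k; decide +kernel

theorem code_clY (k : Fin 3) : code (clY k) = (classCode.getD k (0, 0)).2 := by revert k; decide +kernel

/-- **Classification of pairs.** -/
theorem exists_class {σ τ : Perm (Fin 8)} (h2 : σ * σ = 1) (h1 : σ ≠ 1) (h3 : τ * τ * τ = 1)
    (ht : τ ≠ 1) (hn : σ * τ ≠ 1) (h7 : (σ * τ) ^ 7 = 1) (h4 : (σ * τ * σ * τ⁻¹) ^ 4 = 1) :
    ∃ (k : Fin 3) (g : Perm (Fin 8)), k ≠ 0 ∧ σ = g * clX k * g⁻¹ ∧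
      (τ = g * clY k * g⁻¹ ∨ τ⁻¹ = g * clY k * g⁻¹) := by
  obtain ⟨r, c, rfl⟩ := exists_rep h2 h1
  set ρ : Perm (Fin 8) := c⁻¹ * τ * c with hρ
  have hτ : τ = c * ρ * c⁻¹ := by rw [hρ]; group
  have hρi : ρ⁻¹ = ρ * ρ := by
    have : ρ * ρ * ρ = 1 := by
      rw [show ρ * ρ * ρ = c⁻¹ * (τ * τ * τ) * c by rw [hρ]; group, h3]; group
    exact inv_eq_of_mul_eq_one_right (by rwa [← mul_assoc])
  have e3 : ρ * ρ * ρ = 1 := by
    rw [show ρ * ρ * ρ = c⁻¹ * (τ * τ * τ) * c by rw [hρ]; group, h3]; group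
  have e7 : (rep r * ρ) ^ 7 = 1 := by
    have : c * (rep r * ρ) * c⁻¹ = c * rep r * c⁻¹ * τ := by rw [hρ]; group
    rw [← this, conj_pow] at h7
    exact conj_eq_one_iff.1 h7
  have e4 : (rep r * ρ * rep r * ρ⁻¹) ^ 4 = 1 := by
    have : c * (rep r * ρ * rep r * ρ⁻¹) * c⁻¹ =
        c * rep r * c⁻¹ * τ * (c * rep r * c⁻¹) * τ⁻¹ := by rw [hρ]; group
    rw [← this, conj_pow] at h4
    exact conj_eq_one_iff.1 h4
  have hrel : relCheck (repCode.getD r 0) (code ρ) = true := by
    have fix : ∀ l : List (Perm (Fin 8)), l.prod = 1 →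
        allBelow (fun i => Nat.beq (appW (l.map code) i) i) 8 = true := fun l hl =>
      allBelow_intro fun i hi => by rw [appW_prod l ⟨i, hi⟩, hl, Nat.beq_eq]; rfl
    rw [← code_rep]
    simp only [relCheck, Bool.and_eq_true]
    refine ⟨fix [ρ, ρ, ρ] (by simpa [mul_assoc] using e3),
      fix [rep r, ρ, rep r, ρ, rep r, ρ, rep r, ρ, rep r, ρ, rep r, ρ, rep r, ρ] ?_,
      fix [rep r, ρ, rep r, ρ, ρ, rep r, ρ, rep r, ρ, ρ, rep r, ρ, rep r, ρ, ρ, rep r, ρ, rep r, ρ, ρ] ?_⟩
    · simp only [pow_succ, pow_zero, one_mul] at e7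
      simpa [mul_assoc] using e7
    · rw [hρi] at e4
      simp only [pow_succ, pow_zero, one_mul] at e4
      simpa [mul_assoc] using e4
  have h : pairCheck r (code ρ) = true := by
    fin_cases r
    exacts [of_forallInj pair_all0 ρ, of_forallInj pair_all1 ρ, of_forallInj pair_all2 ρ,
      of_forallInj pair_all3 ρ]
  simp only [pairCheck, hrel, Bool.not_true, Bool.false_or, Bool.or_eq_true] at h
  rcases h with (h | h) | h
  · refine absurd ?_ ht
    have : ρ = 1 := Perm.ext fun i => Fin.ext (by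
      have := Nat.eq_of_beq_eq_true (of_allBelow h i i.isLt)
      rw [app_code] at this; exact this)
    rw [hτ, this]; group
  · refine absurd ?_ hn
    have : rep r * ρ = 1 := Perm.ext fun i => Fin.ext (by
      have := Nat.eq_of_beq_eq_true (of_allBelow h i i.isLt)
      rw [app_code, ← code_rep, app_code] at this; exact this)
    rw [hτ, show c * rep r * c⁻¹ * (c * ρ * c⁻¹) = c * (rep r * ρ) * c⁻¹ by group, this]; group
  · obtain ⟨⟨r', n, f, k, g, gi⟩, -, he⟩ := List.any_eq_true.1 h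
    simp only [Bool.and_eq_true, Bool.or_eq_true, Nat.beq_eq] at he
    obtain ⟨rfl, rfl, hk, hok, hx, hy⟩ := he
    have hk3 : k < 3 := by omega
    set w : Perm (Fin 8) := toPerm g gi hok with hw
    have ex : rep r = w * clX ⟨k, hk3⟩ * w⁻¹ := eq_mul_inv_of_mul_eq <| Perm.ext fun i => Fin.ext (by
      have := Nat.eq_of_beq_eq_true (of_allBelow hx i i.isLt)
      rw [← code_clX ⟨k, hk3⟩, app_code, ← code_rep, show app g (i : ℕ) = ((w i : Fin 8) : ℕ) from rfl,
        app_code] at this
      exact this.symm)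
    refine ⟨⟨k, hk3⟩, c * w, fun h0 => by simp [Fin.ext_iff] at h0; omega, by rw [ex]; group, ?_⟩
    cases f
    · have ey : ρ = w * clY ⟨k, hk3⟩ * w⁻¹ := eq_mul_inv_of_mul_eq <| Perm.ext fun i => Fin.ext (by
        have := Nat.eq_of_beq_eq_true (of_allBelow hy i i.isLt)
        rw [← code_clY ⟨k, hk3⟩, app_code, show app g (i : ℕ) = ((w i : Fin 8) : ℕ) from rfl] at this
        simp only [cond_false, appW, List.foldr_cons, List.foldr_nil, app_code] at this
        exact this.symm)
      left; rw [hτ, ey]; group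
    · have ey : ρ * ρ = w * clY ⟨k, hk3⟩ * w⁻¹ := eq_mul_inv_of_mul_eq <| Perm.ext fun i => Fin.ext (by
        have := Nat.eq_of_beq_eq_true (of_allBelow hy i i.isLt)
        rw [← code_clY ⟨k, hk3⟩, app_code, show app g (i : ℕ) = ((w i : Fin 8) : ℕ) from rfl] at this
        simp only [cond_true, appW, List.foldr_cons, List.foldr_nil, app_code] at this
        exact this.symm)
      right
      rw [hτ, show (c * ρ * c⁻¹)⁻¹ = c * ρ⁻¹ * c⁻¹ by group, hρi, ey]; group

theorem act_toPerm (g gi : ℕ) (e : okPair g gi = true) (v : ℕ) : act (toPerm g gi e) v = actC gi v := rfl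

/-- **Every isometry is a permutation.** -/
theorem exists_perm {f : ℕ → ℕ} (hlt : ∀ v < 64, f v < 64)
    (hlin : ∀ a < 64, ∀ b < 64, f (a ^^^ b) = f a ^^^ f b) (hq : ∀ v < 64, qv (f v) = qv v)
    (hinj : ∀ a < 64, ∀ b < 64, f a = f b → a = b) :
    ∃ σ : Perm (Fin 8), ∀ v < 64, f v = act σ v := by
  suffices H : ∀ i ≤ 6, ∃ σ : Perm (Fin 8), ∀ j < i, f (2 ^ j) = act σ (2 ^ j) by
    obtain ⟨σ, hσ⟩ := H 6 le_rfl
    exact ⟨σ, fun v hv => linear_ext hlin (fun a ha b hb => act_xor σ ha hb) le_rfl hσ v hv⟩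
  intro i
  induction i with
  | zero => exact fun _ => ⟨1, fun j hj => absurd hj (Nat.not_lt_zero j)⟩
  | succ i ih =>
    intro hi
    obtain ⟨σ, hσ⟩ := ih (by omega)
    have h2i : 2 ^ i < 64 := lt_of_lt_of_le (Nat.pow_lt_pow_right (by norm_num) (by omega : i < 6)) le_rfl
    let ψ : ℕ → ℕ := fun v => act σ⁻¹ (f v)
    have ψlin : ∀ a < 64, ∀ b < 64, ψ (a ^^^ b) = ψ a ^^^ ψ b := fun a ha b hb => by
      simp only [ψ, hlin a ha b hb, act_xor _ (hlt a ha) (hlt b hb)]
    have ψq : ∀ v < 64, qv (ψ v) = qv v := fun v hv => by simp only [ψ, qv_act _ (hlt v hv), hq v hv]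
    have ψinj : ∀ a < 64, ∀ b < 64, ψ a = ψ b → a = b := fun a ha b hb e => hinj a ha b hb (by
      have := congrArg (act σ) e
      simp only [ψ] at this
      rwa [← act_mul _ _ (hlt a ha), ← act_mul _ _ (hlt b hb), mul_inv_cancel, act_one (hlt a ha),
        act_one (hlt b hb)] at this)
    have ψfix : ∀ j < i, ψ (2 ^ j) = 2 ^ j := fun j hj => by
      have hp : 2 ^ j < 64 := lt_trans (Nat.pow_lt_pow_right (by norm_num) hj) h2i
      simp only [ψ, hσ j hj, ← act_mul _ _ hp, inv_mul_cancel, act_one hp]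
    set w := ψ (2 ^ i) with hw
    have hw64 : w < 64 := act_lt _ (hlt _ h2i)
    have hlow : ∀ a < 2 ^ i, ψ a = a := linear_ext ψlin (fun a _ b _ => rfl) (by omega) ψfix
    have hnb : ¬ w < 2 ^ i := fun hc => by
      have := ψinj w hw64 _ h2i (by rw [hlow w hc, hw])
      omega
    have hqw : qv w = false := by
      rw [hw, ψq _ h2i]
      have : ∀ i < 6, qv (2 ^ i) = false := by decide
      exact this i (by omega)
    have hpol : allBelow (fun j => pol (2 ^ j) w == pol (2 ^ j) (2 ^ i)) i = true :=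
      allBelow_intro fun j hj => by
        have hp : 2 ^ j < 64 := lt_trans (Nat.pow_lt_pow_right (by norm_num) hj) h2i
        rw [beq_iff_eq, pol, pol, hw]
        conv_lhs => rw [← ψfix j hj]
        rw [← ψlin _ hp _ h2i, ψq _ (Nat.xor_lt_two_pow (n := 6) hp h2i), ψq _ h2i, ψq _ hp]
    have hc := of_allBelow (of_allBelow level_all i (by omega)) w hw64
    simp only [hqw, hpol, Bool.false_or, Bool.not_true, Bool.or_false, Bool.or_eq_true, Nat.blt_eq, hnb,
      false_or] at hc
    obtain ⟨⟨i', w', g, gi⟩, hmem, he⟩ := List.any_eq_true.1 hc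
    simp only [Bool.and_eq_true, Nat.beq_eq] at he
    obtain ⟨rfl, rfl, hok⟩ := he
    have hact := List.all_eq_true.1 level_act _ hmem
    simp only [Bool.and_eq_true, Nat.beq_eq] at hact
    refine ⟨σ * toPerm g gi hok, fun j hj => ?_⟩
    have hp : 2 ^ j < 64 := lt_of_lt_of_le (Nat.pow_lt_pow_right (by norm_num) (by omega : j < 6)) le_rfl
    rw [act_mul _ _ hp, act_toPerm]
    rcases Nat.lt_or_ge j i' with hji | hji
    · rw [Nat.eq_of_beq_eq_true (of_allBelow hact.2 j hji)]
      exact hσ j hji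
    · have : j = i' := by omega
      subst this
      rw [hact.1, hw]
      simp only [ψ, ← act_mul _ _ (hlt _ hp), mul_inv_cancel, act_one (hlt _ hp)]

end CfsgLib.Sporadic.HeldUnique.Ortho
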