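import Cfsg.Agent.Lib.Sporadic.HeldUnique.Local
import Cfsg.Agent.Lib.Sporadic.HeldUnique.Ortho

/-!
# Conjugation on the extraspecial group in coordinates
-/

set_option autoImplicit false
set_option maxRecDepth 100000
set_option linter.style.haveILetI false

namespace CfsgLib.Sporadic.HeldUnique

open CfsgLib.ThreeTransp.Extraspecial (Extra)
open Equiv CosetCert Ortho

variable {G : Type*} [Group G] [Finite G]

/-- The setting: a frame of a large extraspecial group of order 128 in the centraliser of `z`. -/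
structure Setting (Q : Subgroup G) (z : G) (v : ℕ → G) : Prop where
  frame : Frame Q z v
  extra : Extra Q z
  card_Q : Nat.card Q = 128
  norm : ∀ g : G, g * z = z * g → ∀ q ∈ Q, g * q * g⁻¹ ∈ Q
  cent : ∀ g : G, g * z = z * g → (∀ q ∈ Q, g * q = q * g) → g ∈ Q

theorem half_qmul : ∀ a < 128, ∀ b < 128, qmul a b / 2 = a / 2 ^^^ b / 2 := by decide +kernel

theorem qmul_self : ∀ a < 128, qmul a a = if qv (a / 2) then 1 else 0 := by decide +kernel

theorem qmul_swap : ∀ a < 128, ∀ b < 128,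
    qmul a b = qmul (qmul b a) (if pol (a / 2) (b / 2) then 1 else 0) := by decide +kernel

theorem code_parity : ∀ c < 128, c = 2 * (c / 2) ∨ c = qmul (2 * (c / 2)) 1 := by decide +kernel

theorem half_one : ∀ c < 128, qmul c 1 / 2 = c / 2 ∧ qmul c 1 < 128 := by decide +kernel

theorem exists_pol : ∀ m < 64, ∃ e < 64, ∀ i < 6, pol e (2 ^ i) = m.testBit i := by decide +kernel

theorem exists_bits (f : ℕ → Bool) : ∃ m < 64, ∀ i < 6, m.testBit i = f i := by
  refine ⟨(f 0).toNat + 2 * (f 1).toNat + 4 * (f 2).toNat + 8 * (f 3).toNat + 16 * (f 4).toNat +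
    32 * (f 5).toNat, ?_, fun i hi => ?_⟩
  · cases f 0 <;> cases f 1 <;> cases f 2 <;> cases f 3 <;> cases f 4 <;> cases f 5 <;> decide
  · interval_cases i <;> cases f 0 <;> cases f 1 <;> cases f 2 <;> cases f 3 <;> cases f 4 <;>
      cases f 5 <;> decide

theorem pow_code_lt {i : ℕ} (hi : i < 7) : 2 ^ i < 128 :=
  lt_of_lt_of_le (Nat.pow_lt_pow_right (by norm_num) hi) (by norm_num)

namespace Setting

variable {Q : Subgroup G} {z : G} {v : ℕ → G}

theorem z_ne (h : Setting Q z v) : z ≠ 1 := h.extra.z_ne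

/-- The code of an element of the group. -/
noncomputable def cod (v : ℕ → G) (z u : G) : ℕ :=
  Classical.epsilon fun a => a < 128 ∧ qe v z a = u

theorem cod_spec (h : Setting Q z v) {u : G} (hu : u ∈ Q) :
    cod v z u < 128 ∧ qe v z (cod v z u) = u :=
  Classical.epsilon_spec (p := fun a => a < 128 ∧ qe v z a = u)
    (h.frame.qe_surj h.z_ne h.card_Q hu)

theorem cod_qe (h : Setting Q z v) {a : ℕ} (ha : a < 128) : cod v z (qe v z a) = a :=
  h.frame.qe_inj h.z_ne (h.cod_spec (h.frame.qe_mem a)).1 ha (h.cod_spec (h.frame.qe_mem a)).2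

theorem cod_z (h : Setting Q z v) : cod v z z = 1 := by
  have e := h.cod_qe (a := 1) (by norm_num)
  rwa [Frame.qe_z_code] at e

theorem cod_mul (h : Setting Q z v) {u w : G} (hu : u ∈ Q) (hw : w ∈ Q) :
    cod v z (u * w) = qmul (cod v z u) (cod v z w) := by
  obtain ⟨hu1, hu2⟩ := h.cod_spec hu
  obtain ⟨hw1, hw2⟩ := h.cod_spec hw
  conv_lhs => rw [← hu2, ← hw2, h.frame.qe_mul _ hu1 _ hw1]
  exact h.cod_qe (qmul_lt _ hu1 _ hw1)

theorem qe_bit (h : Setting Q z v) (b : Bool) :
    qe v z (if b then 1 else 0) = bif b then z else 1 := by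
  cases b <;> simp [Frame.qe_one, Frame.qe_z_code]

theorem bit_inj (h : Setting Q z v) {b c : Bool} (e : (bif b then z else 1) = bif c then z else 1) :
    b = c := by
  cases b <;> cases c <;> simp at e ⊢ <;> exact absurd e (by simpa [eq_comm] using h.z_ne)

/-- The vector of a conjugate. -/
noncomputable def phi (v : ℕ → G) (z g : G) (w : ℕ) : ℕ := cod v z (g * qe v z (2 * w) * g⁻¹) / 2

theorem phi_code (h : Setting Q z v) {g : G} (hg : g * z = z * g) {c : ℕ} (hc : c < 128) :
    cod v z (g * qe v z c * g⁻¹) / 2 = phi v z g (c / 2) := by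
  have h2 : 2 * (c / 2) < 128 := by omega
  have hm := h.norm g hg _ (h.frame.qe_mem (2 * (c / 2)))
  rcases code_parity c hc with e | e
  · rw [phi, ← e]
  · have hz : g * qe v z c * g⁻¹ = g * qe v z (2 * (c / 2)) * g⁻¹ * z := by
      conv_lhs => rw [e, ← h.frame.qe_mul _ h2 1 (by norm_num), Frame.qe_z_code]
      calc g * (qe v z (2 * (c / 2)) * z) * g⁻¹
          = g * qe v z (2 * (c / 2)) * (z * g⁻¹) := by group
        _ = g * qe v z (2 * (c / 2)) * (g⁻¹ * z) := by rw [(Commute.inv_left hg).eq]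
        _ = _ := by group
    have hcz : cod v z z = 1 := h.cod_z
    rw [hz, h.cod_mul hm h.extra.z_mem, hcz, (half_one _ (h.cod_spec hm).1).1, phi]

theorem phi_lt (h : Setting Q z v) {g : G} (hg : g * z = z * g) (w : ℕ) : phi v z g w < 64 := by
  have := (h.cod_spec (h.norm g hg _ (h.frame.qe_mem (2 * w)))).1
  unfold phi; omega

theorem phi_xor (h : Setting Q z v) {g : G} (hg : g * z = z * g) {a b : ℕ} (ha : a < 64) (hb : b < 64) :
    phi v z g (a ^^^ b) = phi v z g a ^^^ phi v z g b := by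
  have h2a : 2 * a < 128 := by omega
  have h2b : 2 * b < 128 := by omega
  have hm := fun c => h.norm g hg _ (h.frame.qe_mem c)
  have e := h.phi_code hg (qmul_lt _ h2a _ h2b)
  rw [half_qmul _ h2a _ h2b, Nat.mul_div_cancel_left _ two_pos, Nat.mul_div_cancel_left _ two_pos] at e
  rw [← e, ← h.frame.qe_mul _ h2a _ h2b,
    show g * (qe v z (2 * a) * qe v z (2 * b)) * g⁻¹ =
      g * qe v z (2 * a) * g⁻¹ * (g * qe v z (2 * b) * g⁻¹) by group,
    h.cod_mul (hm _) (hm _), half_qmul _ (h.cod_spec (hm _)).1 _ (h.cod_spec (hm _)).1]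
  rfl

theorem phi_qv (h : Setting Q z v) {g : G} (hg : g * z = z * g) {a : ℕ} (ha : a < 64) :
    qv (phi v z g a) = qv a := by
  have h2a : 2 * a < 128 := by omega
  obtain ⟨hc, hce⟩ := h.cod_spec (h.norm g hg _ (h.frame.qe_mem (2 * a)))
  refine h.bit_inj ?_
  have e1 := h.frame.qe_mul _ hc _ hc
  have e2 := h.frame.qe_mul _ h2a _ h2a
  rw [qmul_self _ hc, h.qe_bit, hce] at e1
  rw [qmul_self _ h2a, h.qe_bit, Nat.mul_div_cancel_left _ two_pos] at e2
  show (bif qv (cod v z (g * qe v z (2 * a) * g⁻¹) / 2) then z else 1) = _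
  rw [← e1, show g * qe v z (2 * a) * g⁻¹ * (g * qe v z (2 * a) * g⁻¹) =
    g * (qe v z (2 * a) * qe v z (2 * a)) * g⁻¹ by group, e2]
  cases qv a <;> simp [hg]

theorem phi_comp (h : Setting Q z v) {g k : G} (hg : g * z = z * g) (hk : k * z = z * k) (w : ℕ) :
    phi v z (g * k) w = phi v z g (phi v z k w) := by
  obtain ⟨hc, hce⟩ := h.cod_spec (h.norm k hk _ (h.frame.qe_mem (2 * w)))
  have e := h.phi_code hg hc
  rw [hce] at e
  show _ = phi v z g (cod v z (k * qe v z (2 * w) * k⁻¹) / 2)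
  rw [← e, phi, show g * k * qe v z (2 * w) * (g * k)⁻¹ = g * (k * qe v z (2 * w) * k⁻¹) * g⁻¹ by group]

theorem phi_one (h : Setting Q z v) {w : ℕ} (hw : w < 64) : phi v z 1 w = w := by
  rw [phi, one_mul, inv_one, mul_one, h.cod_qe (by omega), Nat.mul_div_cancel_left _ two_pos]

theorem exists_perm (h : Setting Q z v) {g : G} (hg : g * z = z * g) :
    ∃ σ : Perm (Fin 8), ∀ w < 64, phi v z g w = act σ w := by
  refine Ortho.exists_perm (fun w _ => h.phi_lt hg w) (fun a ha b hb => h.phi_xor hg ha hb)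
    (fun a ha => h.phi_qv hg ha) fun a ha b hb e => ?_
  have hg' : g⁻¹ * z = z * g⁻¹ := Commute.inv_left hg
  have := congrArg (phi v z g⁻¹) e
  rwa [← h.phi_comp hg' hg, ← h.phi_comp hg' hg, inv_mul_cancel, h.phi_one ha, h.phi_one hb] at this

/-- The permutation of an element. -/
noncomputable def perm (v : ℕ → G) (z g : G) : Perm (Fin 8) :=
  Classical.epsilon fun σ => ∀ w < 64, phi v z g w = act σ w

theorem perm_spec (h : Setting Q z v) {g : G} (hg : g * z = z * g) :
    ∀ w < 64, phi v z g w = act (perm v z g) w :=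
  Classical.epsilon_spec (p := fun σ => ∀ w < 64, phi v z g w = act σ w) (h.exists_perm hg)

theorem perm_mul (h : Setting Q z v) {g k : G} (hg : g * z = z * g) (hk : k * z = z * k) :
    perm v z (g * k) = perm v z g * perm v z k := by
  refine act_ext fun w hw => ?_
  have hgk : g * k * z = z * (g * k) := Commute.mul_left hg hk
  rw [← h.perm_spec hgk w hw, h.phi_comp hg hk, act_mul _ _ hw, h.perm_spec hk w hw,
    h.perm_spec hg _ (act_lt _ hw)]

theorem perm_of_mem (h : Setting Q z v) {g : G} (hg : g ∈ Q) : perm v z g = 1 := by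
  have hgz : g * z = z * g := (h.extra.z_comm hg).symm
  refine act_ext fun w hw => ?_
  have hq := h.frame.qe_mem (2 * w)
  have hc := h.cod_spec hg
  rw [← h.perm_spec hgz w hw, act_one hw, phi]
  rcases h.extra.conj_cases hq hg with e | e
  · rw [e, h.cod_qe (by omega), Nat.mul_div_cancel_left _ two_pos]
  · have hcz : cod v z z = 1 := h.cod_z
    rw [e, h.cod_mul hq h.extra.z_mem, hcz, h.cod_qe (by omega), (half_one _ (by omega)).1,
      Nat.mul_div_cancel_left _ two_pos]

/-- Conjugation by `g` is the given map of codes. -/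
def Conj (v : ℕ → G) (z g : G) (f : ℕ → ℕ) : Prop :=
  ∀ a < 128, g * qe v z a = qe v z (f a) * g

theorem Conj.mul {g k : G} {f f' : ℕ → ℕ} (h1 : Conj v z g f) (h2 : Conj v z k f')
    (hlt : ∀ a < 128, f' a < 128) : Conj v z (g * k) (f ∘ f') := fun a ha => by
  rw [mul_assoc, h2 a ha, ← mul_assoc, h1 _ (hlt a ha), mul_assoc]; rfl

theorem iterate_lt {f : ℕ → ℕ} (hlt : ∀ a < 128, f a < 128) :
    ∀ n, ∀ a < 128, f^[n] a < 128 := by
  intro n
  induction n with
  | zero => exact fun a ha => ha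
  | succ n ih => intro a ha; rw [Function.iterate_succ_apply]; exact ih _ (hlt a ha)

theorem Conj.inv {g : G} {f : ℕ → ℕ} (h1 : Conj v z g f) (hlt : ∀ a < 128, f a < 128) {n : ℕ}
    (hn : ∀ a < 128, f^[n + 1] a = a) : Conj v z g⁻¹ (f^[n]) := fun a ha => by
  have := h1 _ (iterate_lt hlt n a ha)
  rw [← Function.iterate_succ_apply' f n a, hn a ha] at this
  rw [inv_mul_eq_iff_eq_mul, ← mul_assoc, this, mul_assoc, mul_inv_cancel, mul_one]

theorem Conj.congr {g : G} {f f' : ℕ → ℕ} (h1 : Conj v z g f) (e : ∀ a < 128, f a = f' a) :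
    Conj v z g f' := fun a ha => by rw [h1 a ha, e a ha]

theorem Conj.comm {g : G} {f : ℕ → ℕ} (h1 : Conj v z g f) (e : f 1 = 1) : g * z = z * g := by
  have := h1 1 (by norm_num)
  rwa [e, Frame.qe_z_code] at this

theorem conj_qe (h : Setting Q z v) {r : ℕ} (hr : r < 128) :
    Conj v z (qe v z r) (fun a => qmul (qmul r a) (qinv r)) := fun a ha => by
  have hi : qinv r < 128 ∧ qmul (qinv r) r = 0 :=
    (show ∀ r < 128, qinv r < 128 ∧ qmul (qinv r) r = 0 by decide +kernel) r hr
  have hra := qmul_lt _ hr _ ha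
  rw [← h.frame.qe_mul _ hra _ hi.1, mul_assoc, h.frame.qe_mul _ hi.1 _ hr, hi.2, Frame.qe_one,
    mul_one, h.frame.qe_mul _ hr _ ha]

/-- An element acting as a coded element is that element up to the centre. -/
theorem eq_of_conj (h : Setting Q z v) {g : G} (hg : g * z = z * g) {r : ℕ} (hr : r < 128)
    (hc : Conj v z g (fun a => qmul (qmul r a) (qinv r))) :
    g = qe v z r ∨ g = qe v z (qmul r 1) := by
  have hq := h.conj_qe hr
  have hcomm : ∀ q ∈ Q, (qe v z r)⁻¹ * g * q = q * ((qe v z r)⁻¹ * g) := fun q hqQ => by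
    obtain ⟨a, ha, rfl⟩ := h.frame.qe_surj h.z_ne h.card_Q hqQ
    have h1 := hc a ha
    have h2 := hq a ha
    rw [mul_assoc, h1, ← mul_assoc, ← mul_assoc]
    congr 1
    rw [inv_mul_eq_iff_eq_mul, ← mul_assoc, h2, mul_assoc, mul_inv_cancel, mul_one]
  have hmem := h.cent _ (Commute.mul_left (Commute.inv_left (h.frame.qe_z r)) hg) hcomm
  rcases h.extra.mem_center_cases hmem hcomm with e | e
  · exact Or.inl (inv_mul_eq_one.1 e).symm
  · refine Or.inr ?_
    have e2 := h.frame.qe_mul _ hr 1 (by norm_num)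
    rw [Frame.qe_z_code] at e2
    rw [← e2, ← inv_mul_eq_iff_eq_mul]
    exact e

theorem conj_mul_z {g : G} {f : ℕ → ℕ} (h1 : Conj v z g f) (h : Setting Q z v)
    : Conj v z (g * z) f := fun a ha => by
  rw [mul_assoc, ← h.frame.qe_z, ← mul_assoc, h1 a ha, mul_assoc]

/-- A homomorphism of codes agreeing on the generators is the conjugation. -/
theorem conj_of_gens (h : Setting Q z v) {g : G} {f : ℕ → ℕ} (hlt : ∀ a < 128, f a < 128)
    (hom : ∀ i < 7, ∀ a < 128, f (qmul (2 ^ i) a) = qmul (f (2 ^ i)) (f a)) (h0 : f 0 = 0)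
    (hgen : ∀ i < 7, g * qe v z (2 ^ i) = qe v z (f (2 ^ i)) * g) : Conj v z g f := by
  have hdec : ∀ a < 128, a = 0 ∨ ∃ i < 7, qmul (2 ^ i) a < a ∧ qmul (2 ^ i) (qmul (2 ^ i) a) = a := by
    decide +kernel
  intro a
  induction a using Nat.strong_induction_on with
  | _ a ih =>
    intro ha
    rcases hdec a ha with rfl | ⟨i, hi, hla, e⟩
    · rw [h0, Frame.qe_one, mul_one, one_mul]
    · have hb : qmul (2 ^ i) a < 128 := hla.trans ha
      have hp := pow_code_lt hi
      have e2 := hom i hi _ hb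
      rw [e] at e2
      conv_lhs => rw [← e, ← h.frame.qe_mul _ hp _ hb, ← mul_assoc, hgen i hi, mul_assoc,
        ih _ hla hb, ← mul_assoc, h.frame.qe_mul _ (hlt _ hp) _ (hlt _ hb), ← e2]

/-- Exact lifts. -/
theorem exists_conj_fix (h : Setting Q z v) {g : G} (hg : g * z = z * g) {f : ℕ → ℕ}
    (hlt : ∀ a < 128, f a < 128)
    (hom : ∀ i < 7, ∀ a < 128, f (qmul (2 ^ i) a) = qmul (f (2 ^ i)) (f a)) (h0 : f 0 = 0) (h1 : f 1 = 1)
    (hphi : ∀ i < 6, phi v z g (2 ^ i) = f (2 ^ (i + 1)) / 2) :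
    ∃ q ∈ Q, Conj v z (g * q) f := by
  have hp : ∀ i < 6, 2 ^ (i + 1) < 128 := fun i hi => pow_code_lt (by omega)
  let c : ℕ → ℕ := fun i => cod v z (g * qe v z (2 ^ (i + 1)) * g⁻¹)
  have hc : ∀ i < 6, c i < 128 ∧ qe v z (c i) = g * qe v z (2 ^ (i + 1)) * g⁻¹ := fun i hi =>
    h.cod_spec (h.norm g hg _ (h.frame.qe_mem _))
  have hhalf : ∀ i < 6, c i / 2 = f (2 ^ (i + 1)) / 2 := fun i hi => by
    show cod v z _ / 2 = _
    rw [h.phi_code hg (hp i hi), pow_succ, Nat.mul_div_cancel _ two_pos, hphi i hi, pow_succ]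
  obtain ⟨m, hm, hmb⟩ := exists_bits fun i => !decide (c i = f (2 ^ (i + 1)))
  obtain ⟨e, he, hpol⟩ := exists_pol m hm
  refine ⟨qe v z (2 * e), h.frame.qe_mem _, h.conj_of_gens hlt hom h0 fun i hi => ?_⟩
  have h2e : 2 * e < 128 := by omega
  rcases i with _ | j
  · rw [pow_zero, h1, Frame.qe_z_code]
    exact Commute.mul_left hg (h.frame.qe_z _)
  · have hj : j < 6 := by omega
    have hb := hp j hj
    obtain ⟨hc1, hc2⟩ := hc j hj
    have sw : qe v z (2 * e) * qe v z (2 ^ (j + 1)) =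
        qe v z (2 ^ (j + 1)) * qe v z (2 * e) * (bif pol e (2 ^ j) then z else 1) := by
      rw [h.frame.qe_mul _ h2e _ hb, qmul_swap _ h2e _ hb, Nat.mul_div_cancel_left _ two_pos, pow_succ,
        Nat.mul_div_cancel _ two_pos, ← h.frame.qe_mul _ (qmul_lt _ (by omega) _ h2e) _ (by split <;> norm_num),
        ← pow_succ, ← h.frame.qe_mul _ hb _ h2e, h.qe_bit]
    have hbit : ∀ a < 128, ∀ b < 128, a / 2 = b / 2 → a ≠ b → qmul a 1 = b := by decide +kernel
    calc g * qe v z (2 * e) * qe v z (2 ^ (j + 1))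
        = g * (qe v z (2 * e) * qe v z (2 ^ (j + 1))) := mul_assoc _ _ _
      _ = g * qe v z (2 ^ (j + 1)) * g⁻¹ * (g * qe v z (2 * e)) * (bif pol e (2 ^ j) then z else 1) := by
          rw [sw]; group
      _ = qe v z (c j) * (g * qe v z (2 * e)) * (bif pol e (2 ^ j) then z else 1) := by rw [hc2]
      _ = qe v z (c j) * (bif pol e (2 ^ j) then z else 1) * (g * qe v z (2 * e)) := by
          have : Commute (g * qe v z (2 * e)) (bif pol e (2 ^ j) then z else 1) := by
            cases pol e (2 ^ j)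
            · exact Commute.one_right _
            · exact Commute.mul_left hg (h.frame.qe_z _)
          rw [mul_assoc, this.eq, ← mul_assoc]
      _ = qe v z (f (2 ^ (j + 1))) * (g * qe v z (2 * e)) := by
          congr 1
          rw [hpol j hj, hmb j hj]
          by_cases hce : c j = f (2 ^ (j + 1))
          · simp [hce]
          · simp only [hce, decide_false, Bool.not_false, cond_true]
            have e2 := h.frame.qe_mul _ hc1 1 (by norm_num)
            rw [Frame.qe_z_code] at e2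
            rw [e2, hbit _ hc1 _ (hlt _ hb) (hhalf j hj) hce]

/-- The frame moved by a permutation. -/
theorem exists_frame_act (h : Setting Q z v) (σ : Perm (Fin 8)) :
    ∃ v' : ℕ → G, Setting Q z v' ∧ ∀ a < 128, cod v z (qe v' z a) / 2 = act σ (a / 2) := by
  have hlt : ∀ i < 6, act σ (2 ^ i) < 64 := fun i hi =>
    act_lt σ (lt_of_lt_of_le (Nat.pow_lt_pow_right (by norm_num) hi) le_rfl)
  let v' : ℕ → G := fun i => qe v z (2 * act σ (2 ^ i))
  have h2lt : ∀ i < 6, 2 * act σ (2 ^ i) < 128 := fun i hi => by have := hlt i hi; omega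
  have hswap : ∀ i < 6, ∀ j < 6, v' i * v' j =
      v' j * v' i * (bif pol (2 ^ i) (2 ^ j) then z else 1) := fun i hi j hj => by
    have hpi : 2 ^ i < 64 := lt_of_lt_of_le (Nat.pow_lt_pow_right (by norm_num) hi) le_rfl
    have hpj : 2 ^ j < 64 := lt_of_lt_of_le (Nat.pow_lt_pow_right (by norm_num) hj) le_rfl
    have e : pol (act σ (2 ^ i)) (act σ (2 ^ j)) = pol (2 ^ i) (2 ^ j) := by
      rw [pol, pol, ← act_xor σ hpi hpj, qv_act σ (Nat.xor_lt_two_pow (n := 6) hpi hpj), qv_act σ hpi,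
        qv_act σ hpj]
    show qe v z _ * qe v z _ = qe v z _ * qe v z _ * _
    rw [h.frame.qe_mul _ (h2lt i hi) _ (h2lt j hj), qmul_swap _ (h2lt i hi) _ (h2lt j hj),
      Nat.mul_div_cancel_left _ two_pos, Nat.mul_div_cancel_left _ two_pos, e,
      ← h.frame.qe_mul _ (qmul_lt _ (h2lt j hj) _ (h2lt i hi)) _ (by split <;> norm_num),
      ← h.frame.qe_mul _ (h2lt j hj) _ (h2lt i hi), h.qe_bit]
  have hd : ∀ i < 6, qv (2 ^ i) = false ∧ ∀ j < 6,
      (i ≠ j + 3 → j ≠ i + 3 → pol (2 ^ i) (2 ^ j) = false) ∧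
      (i = j + 3 → pol (2 ^ i) (2 ^ j) = true) := by decide +kernel
  have hF : Frame Q z v' :=
    { z_sq := h.frame.z_sq
      z_comm := fun i _ => h.frame.qe_z _
      mem := fun i _ => h.frame.qe_mem _
      z_mem := h.frame.z_mem
      sq := fun i hi => by
        show qe v z _ * qe v z _ = 1
        rw [h.frame.qe_mul _ (h2lt i hi) _ (h2lt i hi), qmul_self _ (h2lt i hi),
          Nat.mul_div_cancel_left _ two_pos,
          qv_act σ (lt_of_lt_of_le (Nat.pow_lt_pow_right (by norm_num) hi) le_rfl), (hd i hi).1]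
        simp [Frame.qe_one]
      comm := fun i hi j hj h1 h2 => by
        rw [hswap i hi j hj, ((hd i hi).2 j hj).1 h1 h2]; simp
      pair := fun i hi => by
        rw [hswap (i + 3) (by omega) i (by omega), ((hd (i + 3) (by omega)).2 i (by omega)).2 rfl]; simp }
  refine ⟨v', ⟨hF, h.extra, h.card_Q, h.norm, h.cent⟩, ?_⟩
  have hdec : ∀ a < 128, a = 0 ∨ ∃ i < 7, qmul (2 ^ i) a < a ∧ qmul (2 ^ i) (qmul (2 ^ i) a) = a := by
    decide +kernel
  intro a
  induction a using Nat.strong_induction_on with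
  | _ a ih =>
    intro ha
    rcases hdec a ha with rfl | ⟨i, hi, hla, e⟩
    · rw [Frame.qe_one, ← Frame.qe_one v z, h.cod_qe (by norm_num), Nat.zero_div]
      have := act_xor σ (show 0 < 64 by norm_num) (show 0 < 64 by norm_num)
      simp only [Nat.xor_self] at this
      exact this.symm
    · have hb : qmul (2 ^ i) a < 128 := hla.trans ha
      have hp := pow_code_lt hi
      have key : cod v z (qe v' z (2 ^ i)) / 2 = act σ (2 ^ i / 2) := by
        rcases i with _ | j
        · rw [pow_zero, Frame.qe_z_code, h.cod_z]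
          have := act_xor σ (show 0 < 64 by norm_num) (show 0 < 64 by norm_num)
          simp only [Nat.xor_self] at this
          exact this.symm
        · rw [Frame.qe_two_pow v' z (by omega : j < 6), pow_succ, Nat.mul_div_cancel _ two_pos]
          show cod v z (qe v z _) / 2 = _
          rw [h.cod_qe (h2lt j (by omega)), Nat.mul_div_cancel_left _ two_pos]
      conv_lhs => rw [← e, ← hF.qe_mul _ hp _ hb]
      rw [h.cod_mul (hF.qe_mem _) (hF.qe_mem _),
        half_qmul _ (h.cod_spec (hF.qe_mem _)).1 _ (h.cod_spec (hF.qe_mem _)).1, key, ih _ hla hb,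
        ← act_xor σ (by omega) (by omega), ← half_qmul _ hp _ hb, e]

end Setting

end CfsgLib.Sporadic.HeldUnique
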