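import Cfsg.Agent.Lib.Sporadic.HeldUnique.Part
import Cfsg.Agent.Lib.ThreeTransp.Extraspecial

/-!
# Coordinates on an extraspecial group of order 128 of plus type

An element is coded by a number below `128`: bit 0 for the centre, bits 1-3 and 4-6 for the two halves.
-/

set_option autoImplicit false
set_option maxRecDepth 100000
set_option linter.style.haveILetI false

namespace CfsgLib.Sporadic.HeldUnique

open CfsgLib.ThreeTransp.Extraspecial (Extra)

/-- The bit of the centre produced by reordering a product. -/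
def qbit (a b : ℕ) : Bool :=
  xor (a.testBit 4 && b.testBit 1) (xor (a.testBit 5 && b.testBit 2) (a.testBit 6 && b.testBit 3))

/-- The product of two codes. -/
def qmul (a b : ℕ) : ℕ := Nat.xor (Nat.xor a b) (bif qbit a b then 1 else 0)

/-- The inverse of a code. -/
def qinv (a : ℕ) : ℕ := Nat.xor a (bif qbit a a then 1 else 0)

theorem qmul_lt : ∀ a < 128, ∀ b < 128, qmul a b < 128 := by decide +kernel

variable {G : Type*} [Group G]

/-- The letters `0, …, 5` for the basis and `6` for the centre. -/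
def qletters (v : ℕ → G) (z : G) (i : ℕ) : G := if i < 6 then v i else z

/-- The word of a code. -/
def qword (a : ℕ) : List ℕ :=
  ((List.range 6).filter fun i => a.testBit (i + 1)) ++ (if a.testBit 0 then [6] else [])

/-- The element of a code. -/
def qe (v : ℕ → G) (z : G) (a : ℕ) : G := wp (qletters v z) (qword a)

/-- A frame: three commuting pairs of non-commuting involutions, with the centre `z`. -/
structure Frame (Q : Subgroup G) (z : G) (v : ℕ → G) : Prop where
  z_sq : z * z = 1
  z_comm : ∀ i < 6, v i * z = z * v i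
  mem : ∀ i < 6, v i ∈ Q
  z_mem : z ∈ Q
  sq : ∀ i < 6, v i * v i = 1
  comm : ∀ i < 6, ∀ j < 6, i ≠ j + 3 → j ≠ i + 3 → v i * v j = v j * v i
  pair : ∀ i < 3, v (i + 3) * v i = v i * v (i + 3) * z

namespace Frame

variable {Q : Subgroup G} {z : G} {v : ℕ → G}

theorem qe_mem (h : Frame Q z v) (a : ℕ) : qe v z a ∈ Q :=
  wp_mem _ fun x _ => by
    rw [qletters]
    split_ifs with hx
    exacts [h.mem x hx, h.z_mem]

theorem qletters_z_comm (h : Frame Q z v) (x : ℕ) : qletters v z x * z = z * qletters v z x := by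
  rw [qletters]
  split_ifs with hx
  exacts [h.z_comm x hx, rfl]

theorem qe_z (h : Frame Q z v) (a : ℕ) : qe v z a * z = z * qe v z a := by
  rw [qe]
  generalize qword a = w
  induction w with
  | nil => simp [wp]
  | cons x t ih => rw [wp, mul_assoc, ih, ← mul_assoc, h.qletters_z_comm, mul_assoc]

/-- Moving a letter to the right into an increasing word. -/
def ins (i : ℕ) : List ℕ → List ℕ × Bool
  | [] => ([i], false)
  | j :: t =>
    if i = j then (t, false) else if i < j then (i :: j :: t, false)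
    else ((j :: (ins i t).1), xor (decide (i = j + 3)) (ins i t).2)

theorem ins_spec (h : Frame Q z v) : ∀ (w : List ℕ), (∀ j ∈ w, j < 6) → ∀ i < 6,
    v i * wp (qletters v z) w = wp (qletters v z) (ins i w).1 * (bif (ins i w).2 then z else 1) := by
  intro w
  induction w with
  | nil => intro _ i hi; simp [ins, wp, qletters, hi]
  | cons j t ih =>
    intro hw i hi
    have hj : j < 6 := hw j List.mem_cons_self
    have hlj : qletters v z j = v j := if_pos hj
    rw [ins]
    split_ifs with h1 h2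
    · subst h1
      rw [wp, hlj, ← mul_assoc, h.sq i hi, one_mul, cond_false, mul_one]
    · simp [wp, qletters, hi]
    · have iht := ih (fun k hk => hw k (List.mem_cons_of_mem _ hk)) i hi
      rw [wp, hlj, ← mul_assoc]
      by_cases h3 : i = j + 3
      · subst h3
        rw [h.pair j (by omega), mul_assoc (v j * v (j + 3)), show z * wp (qletters v z) t =
          wp (qletters v z) t * z by
            have : ∀ u, z * wp (qletters v z) u = wp (qletters v z) u * z := fun u => by
              induction u with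
              | nil => simp [wp]
              | cons x u ihu => rw [wp, ← mul_assoc, ← h.qletters_z_comm, mul_assoc, ihu, mul_assoc]
            exact this t, ← mul_assoc, mul_assoc (v j), iht, wp, hlj]
        simp only [decide_true, Bool.true_xor]
        cases (ins (j + 3) t).2 <;> simp [mul_assoc, h.z_sq]
      · rw [h.comm i hi j hj h3 (by omega), mul_assoc, iht, wp, hlj]
        simp [h3, mul_assoc]

theorem step_ok : ∀ i < 6, ∀ a < 128,
    (ins i ((List.range 6).filter fun j => a.testBit (j + 1))).1 =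
      ((List.range 6).filter fun j => (qmul (2 ^ (i + 1)) a).testBit (j + 1)) ∧
    xor (ins i ((List.range 6).filter fun j => a.testBit (j + 1))).2 (a.testBit 0) =
      (qmul (2 ^ (i + 1)) a).testBit 0 := by decide +kernel

theorem qe_eq (v : ℕ → G) (z : G) (a : ℕ) : qe v z a =
    wp (qletters v z) ((List.range 6).filter fun j => a.testBit (j + 1)) *
      (bif a.testBit 0 then z else 1) := by
  rw [qe, qword, wp_append]
  cases a.testBit 0 <;> simp [wp, qletters]

theorem letter_mul (h : Frame Q z v) {i : ℕ} (hi : i < 6) {a : ℕ} (ha : a < 128) :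
    v i * qe v z a = qe v z (qmul (2 ^ (i + 1)) a) := by
  have hlt : ∀ j ∈ (List.range 6).filter fun j => a.testBit (j + 1), j < 6 :=
    fun j hj => List.mem_range.1 (List.mem_filter.1 hj).1
  obtain ⟨e1, e2⟩ := step_ok i hi a ha
  rw [qe_eq, qe_eq, ← mul_assoc, h.ins_spec _ hlt i hi, e1, ← e2, mul_assoc]
  congr 1
  cases (ins i ((List.range 6).filter fun j => a.testBit (j + 1))).2 <;> cases a.testBit 0 <;>
    simp [h.z_sq]

theorem assoc_ok : ∀ a < 128, ∀ b < 128, ∀ i < 7,
    qmul (qmul (2 ^ i) a) b = qmul (2 ^ i) (qmul a b) := by decide +kernel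

theorem z_mul_qe (h : Frame Q z v) {a : ℕ} (ha : a < 128) : z * qe v z a = qe v z (qmul 1 a) := by
  have hb : ∀ a < 128, (∀ j < 6, (qmul 1 a).testBit (j + 1) = a.testBit (j + 1)) ∧
      (qmul 1 a).testBit 0 = !a.testBit 0 := by decide +kernel
  rw [← h.qe_z, qe_eq, qe_eq, List.filter_congr (q := fun j => a.testBit (j + 1))
    (fun j hj => (hb a ha).1 j (List.mem_range.1 hj)) , (hb a ha).2, mul_assoc]
  cases a.testBit 0 <;> simp [h.z_sq]

theorem qe_one (v : ℕ → G) (z : G) : qe v z 0 = 1 := by simp [qe, qword, wp]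

theorem qe_mul (h : Frame Q z v) : ∀ a < 128, ∀ b < 128, qe v z a * qe v z b = qe v z (qmul a b) := by
  have hdec : ∀ a < 128, a = 0 ∨ ∃ i < 7, qmul (2 ^ i) a < a ∧ qmul (2 ^ i) (qmul (2 ^ i) a) = a := by
    decide +kernel
  have h0 : ∀ b < 128, qmul 0 b = b := by decide +kernel
  intro a
  induction a using Nat.strong_induction_on with
  | _ a ih =>
    intro ha b hb
    rcases hdec a ha with rfl | ⟨i, hi, hlt, e⟩
    · rw [qe_one, one_mul, h0 b hb]
    · have ha' : qmul (2 ^ i) a < 128 := hlt.trans ha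
      have key : ∀ c < 128, qe v z (qmul (2 ^ i) c) = (if i = 0 then z else v (i - 1)) * qe v z c :=
        fun c hc => by
          rcases i with _ | i
          · rw [if_pos rfl, pow_zero, h.z_mul_qe hc]
          · rw [if_neg (Nat.succ_ne_zero _), Nat.add_sub_cancel, h.letter_mul (by omega) hc]
      conv_lhs => rw [← e]
      rw [key _ ha', mul_assoc, ih _ hlt ha' b hb, ← key _ (qmul_lt _ ha' _ hb),
        ← assoc_ok _ ha' b hb i hi, e]

theorem qe_two_pow (v : ℕ → G) (z : G) {i : ℕ} (hi : i < 6) : qe v z (2 ^ (i + 1)) = v i := by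
  have : qword (2 ^ (i + 1)) = [i] := by revert i; decide +kernel
  simp [qe, this, wp, qletters, hi]

theorem qe_z_code (v : ℕ → G) (z : G) : qe v z 1 = z := by
  simp [qe, show qword 1 = [6] by decide +kernel, wp, qletters]

end Frame

/-- The two elements commute up to the given bit of the centre. -/
def Tw (z x y : G) (b : Bool) : Prop := x * y = y * x * (bif b then z else 1)

section Tw

variable {z x y w : G} {b c : Bool}

theorem Tw.mul_right (h1 : Tw z x y b) (h2 : Tw z x w c) (hw : w * z = z * w) (hz : z * z = 1) :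
    Tw z x (y * w) (xor b c) := by
  unfold Tw at *
  have hb : (bif b then z else 1) * w = w * (bif b then z else 1) := by cases b <;> simp [hw]
  rw [← mul_assoc, h1, mul_assoc (y * x), hb, ← mul_assoc, mul_assoc y x w, h2]
  cases b <;> cases c <;> simp [mul_assoc, hz]

theorem Tw.symm (h : Tw z x y b) (hz : z * z = 1) : Tw z y x b := by
  unfold Tw at *
  rw [h]
  cases b <;> simp [mul_assoc, hz]

theorem Tw.mul_left (h1 : Tw z y x b) (h2 : Tw z w x c) (hw : w * z = z * w) (hz : z * z = 1) :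
    Tw z (y * w) x (xor b c) :=
  ((h1.symm hz).mul_right (h2.symm hz) hw hz).symm hz

theorem Tw.sq (h : Tw z x y b) (hx : x * x = (bif c then z else 1)) (hy : y * y = 1) (hc : x * z = z * x)
    (hd : y * z = z * y) (hz : z * z = 1) : x * y * (x * y) = (bif xor b c then z else 1) := by
  unfold Tw at h
  have h' : y * x = x * y * (bif b then z else 1) := by rw [h]; cases b <;> simp [mul_assoc, hz]
  calc x * y * (x * y) = x * (y * x) * y := by group
    _ = x * x * (y * y) * (bif b then z else 1) := by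
      rw [h']
      cases b <;> simp [mul_assoc, hd] <;> rw [hy, mul_one, ← hd, ← mul_assoc, hy, one_mul]
    _ = _ := by rw [hx, hy]; cases b <;> cases c <;> simp [hz]

end Tw

variable [Finite G] {Q : Subgroup G} {z : G}

/-- A subgroup of order sixteen of involutions contains the centre. -/
theorem mem_of_elem (h : Extra Q z) (hQ : Nat.card Q = 128) {A : Subgroup Q}
    (hA : Cfsg.IsElementaryAbelian 2 A) (hcard : Nat.card A = 16) : (⟨z, h.z_mem⟩ : Q) ∈ A := by
  have hcentral : ∀ x y : Q, x⁻¹ * y * x * y⁻¹ ∈ Subgroup.center Q := fun x y => by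
    rw [← h.ext.1.2.2, _root_.commutator_def]
    simpa [commutatorElement_def] using
      Subgroup.commutator_mem_commutator (Subgroup.mem_top x⁻¹) (Subgroup.mem_top y)
  by_contra hz
  have d := Cfsg.Agent.S2880.double_count A hcentral h.ext.2
  have hbot : A ⊓ Subgroup.center Q = ⊥ := by
    rw [Subgroup.eq_bot_iff_forall]
    rintro x ⟨hxA, hxc⟩
    rcases h.eq_one_or_z_of_mem_center hxc with e | e
    · exact Subtype.ext e
    · refine absurd ?_ hz
      have hx' : x = (⟨z, h.z_mem⟩ : Q) := Subtype.ext e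
      exact hx' ▸ hxA
  rw [hbot, Subgroup.card_bot, one_mul, hQ, hcard] at d
  haveI := hA.1
  have hle : A ≤ Subgroup.centralizer (A : Set Q) := Subgroup.le_centralizer A
  have := Nat.le_of_dvd Nat.card_pos (Subgroup.card_dvd_of_le hle)
  rw [hcard] at this
  omega

/-- A frame exists when there is an elementary abelian subgroup of order sixteen. -/
theorem exists_frame (h : Extra Q z) (hQ : Nat.card Q = 128)
    (hplus : ∃ A : Subgroup Q, Cfsg.IsElementaryAbelian 2 A ∧ Nat.card A = 16) :
    ∃ v, Frame Q z v := by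
  classical
  obtain ⟨A, hA, hAc⟩ := hplus
  set B := A.map Q.subtype with hB
  have hBc : Nat.card B = 16 := by rw [hB, Subgroup.card_map_of_injective Q.subtype_injective, hAc]
  have hBQ : B ≤ Q := Subgroup.map_subtype_le _
  have hzB : z ∈ B := ⟨⟨z, h.z_mem⟩, mem_of_elem h hQ hA hAc, rfl⟩
  have hcomm : ∀ a ∈ B, ∀ b ∈ B, a * b = b * a := by
    rintro _ ⟨a, ha, rfl⟩ _ ⟨b, hb, rfl⟩
    haveI := hA.1
    have := mul_comm' (⟨a, ha⟩ : A) ⟨b, hb⟩
    exact congrArg (fun x : A => ((x : Q) : G)) this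
  have hsq : ∀ a ∈ B, a * a = 1 := by
    rintro _ ⟨a, ha, rfl⟩
    have := congrArg Subtype.val (hA.2 a ha)
    simpa [pow_two] using this
  -- choose a basis over the centre
  let span : (l : List G) → Subgroup G := fun l => Subgroup.closure {x | x = z ∨ x ∈ l}
  have hspan : ∀ l : List G, (∀ x ∈ l, x ∈ B) → span l ≤ B ∧ Nat.card (span l) ≤ 2 ^ (l.length + 1) := by
    intro l
    induction l with
    | nil =>
      intro _
      have e : span [] = Subgroup.zpowers z := by
        rw [Subgroup.zpowers_eq_closure]; simp [span]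
      refine ⟨e ▸ Subgroup.zpowers_le.2 hzB, ?_⟩
      rw [e, Nat.card_zpowers]
      exact Nat.le_of_dvd (by norm_num) (orderOf_dvd_of_pow_eq_one (by simp [pow_two, h.z_sq]))
    | cons a l ih =>
      intro hl
      obtain ⟨hle, hc⟩ := ih fun x hx => hl x (List.mem_cons_of_mem _ hx)
      have hle' : span (a :: l) ≤ B := by
        refine (Subgroup.closure_le _).2 ?_
        rintro x (rfl | hx)
        exacts [hzB, hl x hx]
      refine ⟨hle', ?_⟩
      have hmem : ∀ x ∈ span (a :: l), x ∈ span l ∨ a * x ∈ span l := by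
        intro x hx
        induction hx using Subgroup.closure_induction with
        | mem x hx =>
          rcases hx with rfl | hx
          · exact Or.inl (Subgroup.subset_closure (Or.inl rfl))
          · rcases List.mem_cons.1 hx with rfl | hx
            · exact Or.inr (by rw [hsq x (hl x List.mem_cons_self)]; exact one_mem _)
            · exact Or.inl (Subgroup.subset_closure (Or.inr hx))
        | one => exact Or.inl (one_mem _)
        | mul x y hx hy ihx ihy =>
          have hax : a * x = x * a := hcomm _ (hl a List.mem_cons_self) _ (hle' hx)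
          rcases ihx with h1 | h1 <;> rcases ihy with h2 | h2
          · exact Or.inl (mul_mem h1 h2)
          · right; rw [← mul_assoc, hax, mul_assoc]; exact mul_mem h1 h2
          · right; rw [← mul_assoc]; exact mul_mem h1 h2
          · left
            have := mul_mem h1 h2
            rwa [hax, mul_assoc, ← mul_assoc a, hsq a (hl a List.mem_cons_self), one_mul] at this
        | inv x hx ihx =>
          rwa [inv_eq_of_mul_eq_one_right (hsq x (hle' hx))]
      have : Nat.card (span (a :: l)) ≤ Nat.card ((span l) × Bool) := by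
        refine Nat.card_le_card_of_injective (fun x => if hx : (x : G) ∈ span l then (⟨x, hx⟩, true)
          else (⟨a * x, (hmem x x.2).resolve_left hx⟩, false)) ?_
        intro x y e
        simp only at e
        split_ifs at e <;> simp_all [Prod.ext_iff]
      rw [Nat.card_prod, show Nat.card Bool = 2 by simp] at this
      rw [List.length_cons, pow_succ]
      omega
  have pick : ∀ l : List G, (∀ x ∈ l, x ∈ B) → l.length ≤ 2 → ∃ a ∈ B, a ∉ span l := by
    intro l hl hlen
    by_contra hne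
    push Not at hne
    have h1 := Nat.le_of_dvd Nat.card_pos (Subgroup.card_dvd_of_le (show B ≤ span l from hne))
    have h2 := (hspan l hl).2
    have : (2 : ℕ) ^ (l.length + 1) ≤ 2 ^ 3 := Nat.pow_le_pow_right (by norm_num) (by omega)
    omega
  obtain ⟨e0, he0, hn0⟩ : ∃ a ∈ B, a ∉ span [] := pick [] (by simp) (by simp)
  obtain ⟨e1, he1, hn1⟩ : ∃ a ∈ B, a ∉ span [e0] := pick [e0] (by simp [he0]) (by simp)
  obtain ⟨e2, he2, hn2⟩ : ∃ a ∈ B, a ∉ span [e0, e1] := pick [e0, e1] (by simp [he0, he1]) (by simp)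
  have zs : ∀ l, z ∈ span l := fun l => Subgroup.subset_closure (Or.inl rfl)
  have ls : ∀ {l : List G} {x : G}, x ∈ l → x ∈ span l := fun hx => Subgroup.subset_closure (Or.inr hx)
  have hz2 := h.z_sq
  have zc : ∀ x ∈ Q, x * z = z * x := fun x hx => (h.z_comm hx).symm
  have dich : ∀ x ∈ Q, ∀ y ∈ Q, ∃ b, Tw z x y b := by
    intro x hx y hy
    rcases h.conj_cases hy hx with c | c
    · exact ⟨false, by simp only [Tw, cond_false, mul_one]; exact mul_inv_eq_iff_eq_mul.1 c⟩
    · refine ⟨true, ?_⟩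
      calc x * y = x * y * x⁻¹ * x := by group
        _ = y * x * z := by rw [c, mul_assoc, mul_assoc, zc x hx]
  have sepz : ∀ l, (∀ x ∈ l, x ∈ B) → ∀ a ∈ B, a ∉ span l → ∃ f ∈ Q, (∀ x ∈ l, Tw z f x false) ∧
      Tw z f a true := by
    intro l hl a ha han
    obtain ⟨f, hf, hfc, hfa⟩ := h.sep ((hspan l hl).1.trans hBQ) (zs l) (hBQ ha) han
    refine ⟨f, hf, fun x hx => by simpa [Tw] using hfc x (ls hx), ?_⟩
    obtain ⟨b, hb⟩ := dich f hf a (hBQ ha)
    cases b
    · exact absurd (by simpa [Tw] using hb) hfa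
    · exact hb
  have hBB : ∀ a ∈ B, ∀ b ∈ B, Tw z a b false := fun a ha b hb => by simpa [Tw] using hcomm a ha b hb
  obtain ⟨f2, hf2, c2, a22⟩ := sepz [e0, e1] (by simp [he0, he1]) e2 he2 hn2
  obtain ⟨f1, hf1, c1, a11⟩ := sepz [e0] (by simp [he0]) e1 he1 hn1
  obtain ⟨f0, hf0, -, a00⟩ := sepz [] (by simp) e0 he0 hn0
  have a20 := c2 e0 (by simp); have a21 := c2 e1 (by simp); have a10 := c1 e0 (by simp)
  -- make the pairs orthogonal
  obtain ⟨d2, hd2, b22, b21, b20⟩ : ∃ d ∈ B, Tw z f2 d true ∧ Tw z f1 d false ∧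
      (∃ b, Tw z f0 d b) := by
    obtain ⟨b, hb⟩ := dich f1 hf1 e2 (hBQ he2)
    cases b
    · exact ⟨e2, he2, a22, hb, dich f0 hf0 e2 (hBQ he2)⟩
    · exact ⟨e2 * e1, B.mul_mem he2 he1, a22.mul_right a21 (zc _ (hBQ he1)) hz2,
        hb.mul_right a11 (zc _ (hBQ he1)) hz2, dich f0 hf0 _ (hBQ (B.mul_mem he2 he1))⟩
  obtain ⟨d1, hd1, g21, g11, g01⟩ : ∃ d ∈ B, Tw z f2 d false ∧ Tw z f1 d true ∧ Tw z f0 d false := by
    obtain ⟨b, hb⟩ := dich f0 hf0 e1 (hBQ he1)
    cases b
    · exact ⟨e1, he1, a21, a11, hb⟩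
    · exact ⟨e1 * e0, B.mul_mem he1 he0, a21.mul_right a20 (zc _ (hBQ he0)) hz2,
        a11.mul_right a10 (zc _ (hBQ he0)) hz2, hb.mul_right a00 (zc _ (hBQ he0)) hz2⟩
  obtain ⟨d, hd, g22, g12, g02⟩ : ∃ d ∈ B, Tw z f2 d true ∧ Tw z f1 d false ∧ Tw z f0 d false := by
    obtain ⟨b, hb⟩ := b20
    cases b
    · exact ⟨d2, hd2, b22, b21, hb⟩
    · exact ⟨d2 * e0, B.mul_mem hd2 he0, b22.mul_right a20 (zc _ (hBQ he0)) hz2,
        b21.mul_right a10 (zc _ (hBQ he0)) hz2, hb.mul_right a00 (zc _ (hBQ he0)) hz2⟩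
  -- make the partners involutions
  have fix : ∀ f ∈ Q, ∀ e ∈ B, Tw z f e true → ∃ f', f' ∈ Q ∧ f' * f' = 1 ∧
      ∀ a ∈ B, ∀ b, Tw z f a b → Tw z f' a b := by
    intro f hf e he hfe
    rcases h.sq_cases hf with c | c
    · exact ⟨f, hf, c, fun _ _ _ hab => hab⟩
    · refine ⟨f * e, Q.mul_mem hf (hBQ he), ?_, fun a ha b hab => ?_⟩
      · simpa using hfe.sq (c := true) c (hsq e he) (zc f hf) (zc e (hBQ he)) hz2
      · simpa using hab.mul_left (hBB e he a ha) (zc e (hBQ he)) hz2
  obtain ⟨k0, hk0, q0, t0⟩ := fix f0 hf0 e0 he0 a00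
  obtain ⟨k1, hk1, q1, t1⟩ := fix f1 hf1 d1 hd1 g11
  obtain ⟨k2, hk2, q2, t2⟩ := fix f2 hf2 d hd g22
  -- make the partners commute
  have orth : ∀ f ∈ Q, f * f = 1 → ∀ g ∈ Q, ∀ e ∈ B, Tw z g e true → Tw z f e false →
      ∃ f', f' ∈ Q ∧ f' * f' = 1 ∧ Tw z f' g false ∧ (∀ a ∈ B, ∀ b, Tw z f a b → Tw z f' a b) ∧
        ∀ x ∈ Q, Tw z e x false → ∀ b, Tw z f x b → Tw z f' x b := by
    intro f hf hff g hg e he hge hfe
    obtain ⟨b, hb⟩ := dich f hf g hg
    cases b
    · exact ⟨f, hf, hff, hb, fun _ _ _ hab => hab, fun _ _ _ _ hab => hab⟩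
    · refine ⟨f * e, Q.mul_mem hf (hBQ he), ?_, ?_, fun a ha b hab => ?_, fun x _ hex b hab => ?_⟩
      · simpa using hfe.sq (c := false) (by simpa using hff) (hsq e he) (zc f hf) (zc e (hBQ he)) hz2
      · simpa using hb.mul_left (hge.symm hz2) (zc e (hBQ he)) hz2
      · simpa using hab.mul_left (hBB e he a ha) (zc e (hBQ he)) hz2
      · simpa using hab.mul_left hex (zc e (hBQ he)) hz2
  have u00 := t0 e0 he0 _ a00; have u01 := t0 d1 hd1 _ g01; have u02 := t0 d hd _ g02
  have u10 := t1 e0 he0 _ a10; have u11 := t1 d1 hd1 _ g11; have u12 := t1 d hd _ g12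
  have u20 := t2 e0 he0 _ a20; have u21 := t2 d1 hd1 _ g21; have u22 := t2 d hd _ g22
  obtain ⟨m1, hm1, r1, o10, v1, -⟩ := orth k1 hk1 q1 k0 hk0 e0 he0 u00 u10
  obtain ⟨n2, hn2, r2, o20, w2, -⟩ := orth k2 hk2 q2 k0 hk0 e0 he0 u00 u20
  obtain ⟨m2, hm2, s2, o21, v2, x2⟩ := orth n2 hn2 r2 m1 hm1 d1 hd1 (v1 d1 hd1 _ u11) (w2 d1 hd1 _ u21)
  have o20' := x2 k0 hk0 (u01.symm hz2) _ o20
  have U10 := v1 e0 he0 _ u10; have U11 := v1 d1 hd1 _ u11; have U12 := v1 d hd _ u12
  have U20 := v2 e0 he0 _ (w2 e0 he0 _ u20); have U21 := v2 d1 hd1 _ (w2 d1 hd1 _ u21)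
  have U22 := v2 d hd _ (w2 d hd _ u22)
  refine ⟨fun i => [e0, d1, d, k0, m1, m2].getD i 1, ?_⟩
  have hB0 := hBB e0 he0 d1 hd1; have hB1 := hBB e0 he0 d hd; have hB2 := hBB d1 hd1 d hd
  simp only [Tw, cond_false, mul_one, cond_true] at u00 u01 u02 U10 U11 U12 U20 U21 U22 o10 o20' o21 hB0 hB1 hB2
  refine ⟨hz2, fun i hi => ?_, fun i hi => ?_, h.z_mem, fun i hi => ?_, fun i hi j hj h1 h2 => ?_, fun i hi => ?_⟩
  · interval_cases i <;> simp only [List.getD_cons_zero, List.getD_cons_succ]
    exacts [zc _ (hBQ he0), zc _ (hBQ hd1), zc _ (hBQ hd), zc _ hk0, zc _ hm1, zc _ hm2]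
  · interval_cases i <;> simp only [List.getD_cons_zero, List.getD_cons_succ]
    exacts [hBQ he0, hBQ hd1, hBQ hd, hk0, hm1, hm2]
  · interval_cases i <;> simp only [List.getD_cons_zero, List.getD_cons_succ]
    exacts [hsq _ he0, hsq _ hd1, hsq _ hd, q0, r1, s2]
  · interval_cases i <;> interval_cases j <;> first
      | omega
      | ((simp only [List.getD_cons_zero, List.getD_cons_succ]) <;> first
          | rfl
          | assumption
          | exact Eq.symm (by assumption))
  · interval_cases i <;> simp only [List.getD_cons_zero, List.getD_cons_succ]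
    exacts [u00, U11, U22]

end CfsgLib.Sporadic.HeldUnique
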