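import Cfsg.Agent.Lib.Sporadic.HeldUnique.Models
import Cfsg.Agent.Lib.Sporadic.HeldUnique.FusionDataA0
import Cfsg.Agent.Lib.Sporadic.HeldUnique.FusionDataA1
import Cfsg.Agent.Lib.Sporadic.HeldUnique.FusionDataB0
import Cfsg.Agent.Lib.Sporadic.HeldUnique.FusionDataB1

/-!
# Fusion in a simple group of the order of the Held group

Three of the four models of the centraliser are impossible; in the remaining one both classes of
size 14 are conjugate to the central involution.
-/

set_option autoImplicit false
set_option maxRecDepth 100000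

namespace CfsgLib.Sporadic.HeldUnique.Fusion

open CosetCert

variable {G : Type*} [Group G] [Finite G] [IsSimpleGroup G] {Q : Subgroup G} {z : G} {v : ℕ → G}
  {x y : G}

theorem no_A1 (hG : Nat.card G = 4030387200) (h : Mdl.Loc MA1.mdl Q z v x y) : False := by
  obtain ⟨b, hbK, hb0, hb⟩ := exists_fused h MA1.good FA1.tab_ok
  have hc := consistent_of_fused h MA1.good FA1.tab_ok hG hb hb0 hbK
  have hall : allBelow (fun b => !FA1.tab.consistent b) (2 ^ 5) = true := by decide +kernel
  have := of_allBelow hall b hbK
  simp [hc] at this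

theorem no_B1 (hG : Nat.card G = 4030387200) (h : Mdl.Loc MB1.mdl Q z v x y) : False := by
  obtain ⟨b, hbK, hb0, hb⟩ := exists_fused h MB1.good FB1.tab_ok
  have hc := consistent_of_fused h MB1.good FB1.tab_ok hG hb hb0 hbK
  have hall : allBelow (fun b => !FB1.tab.consistent b) (2 ^ 4) = true := by decide +kernel
  have := of_allBelow hall b hbK
  simp [hc] at this

theorem no_B0 (hG : Nat.card G = 4030387200) (h : Mdl.Loc MB0.mdl Q z v x y) : False := by
  obtain ⟨b, hbK, hb0, hb⟩ := exists_fused h MB0.good FB0.tab_ok
  have hc := consistent_of_fused h MB0.good FB0.tab_ok hG hb hb0 hbK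
  have hall : allBelow (fun b => !FB0.tab.consistent b || Nat.beq b 3) (2 ^ 5) = true := by
    decide +kernel
  have := of_allBelow hall b hbK
  simp [hc] at this
  subst this
  exact not_fused h MB0.good FB0.tab_ok hG hb
    (l := [1, 2, 3, 4, 5, 6, 7, 8, 9, 10, 11, 12, 13, 14, 15])
    (by decide +kernel) (by decide +kernel) (by decide +kernel) (by decide +kernel) (by decide +kernel)

/-- In the remaining model both classes of size 14 are conjugate to the central involution. -/
theorem fused_A0 (hG : Nat.card G = 4030387200) (h : Mdl.Loc MA0.mdl Q z v x y) :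
    IsConj z (MA0.mdl.val v z x y 4) ∧ IsConj z (MA0.mdl.val v z x y 6) := by
  obtain ⟨b, hbK, hb0, hb⟩ := exists_fused h MA0.good FA0.tab_ok
  have hc := consistent_of_fused h MA0.good FA0.tab_ok hG hb hb0 hbK
  have hall : allBelow (fun b => !FA0.tab.consistent b || Nat.beq b 5 || Nat.beq b 9 ||
      (Nat.testBit b 2 && Nat.testBit b 3)) (2 ^ 8) = true := by decide +kernel
  have := of_allBelow hall b hbK
  simp [hc] at this
  rcases this with (rfl | rfl) | ⟨b2, b3⟩
  · exact (not_fused h MA0.good FA0.tab_ok hG hb
      (l := [1, 4, 5, 16, 17, 20, 21, 64, 65, 68, 69, 80, 81, 84, 85])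
      (by decide +kernel) (by decide +kernel) (by decide +kernel) (by decide +kernel)
      (by decide +kernel)).elim
  · exact (not_fused h MA0.good FA0.tab_ok hG hb
      (l := [1, 6, 7, 10, 11, 12, 13, 112, 113, 118, 119, 122, 123, 124, 125])
      (by decide +kernel) (by decide +kernel) (by decide +kernel) (by decide +kernel)
      (by decide +kernel)).elim
  · have hK := FA0.tab_ok
    have key : ∀ k < 8, b.testBit k = true →
        IsConj z (MA0.mdl.val v z x y (FA0.tab.rep k)) := by
      intro k hk hbk
      obtain ⟨hr, hr2, hcls⟩ := rep_spec hK (show k < FA0.tab.K from hk)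
      refine (fused_iff h MA0.good hK hb hbK (val_comm h MA0.good) ?_ hr rfl).2 (by rw [hcls]; exact hbk)
      rw [h.mul MA0.good hr hr, hr2, Mdl.val_zero _ MA0.good.ok]
    exact ⟨key 2 (by norm_num) b2, key 3 (by norm_num) b3⟩

end CfsgLib.Sporadic.HeldUnique.Fusion
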