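import Cfsg.Agent.Lib.Sporadic.HeldUnique.Local
import Cfsg.Agent.Lib.Involution.ZStar.Main

/-!
# Fusion of involutions of a model in a simple group of the order of the Held group

`Tab` records the classes of involutions of a model with conjugating codes and, for each class `k`,
the numbers of square roots of `z` and of the representative `w` in `P = C(z, w)`, and the classes
of `(x, z x, w x)` for the involutions `x` of `P`.  If `w` is conjugate to `z`, an element carrying
`w` to `z` carries `z` to a representative `w'` and these numbers are exchanged; `consistent` is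
this necessary condition on the set of classes conjugate to `z`.
-/

set_option autoImplicit false
set_option linter.style.haveILetI false
set_option linter.unusedSectionVars false

namespace CfsgLib.Sporadic.HeldUnique.Fusion

open CosetCert

/-- The data of the involutions of a model. -/
structure Tab where
  /-- representatives of the classes, the first being `z` -/
  reps : List ℕ
  /-- each involution, its class and a code conjugating it to the representative -/
  ents : List (ℕ × ℕ × ℕ)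
  /-- square roots of `z` and of the representative in `P` -/
  sig : List (ℕ × ℕ)
  /-- the bits at the representatives -/
  rmask : ℕ
  /-- the square roots of each representative in the model -/
  roots : List (List ℕ)
  /-- classes of `x`, `z x`, `w x` for the involutions `x` of `P` -/
  trip : List (List (ℕ × ℕ × ℕ))

variable (D : Mdl) (T : Tab)

/-- A representative. -/
def Tab.rep (k : ℕ) : ℕ := T.reps.getD k 0

/-- The number of classes. -/
def Tab.K : ℕ := T.reps.length

/-- The class of an involution (`99` for the other codes). -/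
def Tab.cls (i : ℕ) : ℕ :=
  match T.ents.find? fun e => Nat.beq e.1 i with
  | some e => e.2.1
  | none => 99

/-- Two codes commute. -/
noncomputable def comm (i j : ℕ) : Bool := Nat.beq (D.mul i j) (D.mul j i)

/-- What is asked of a code `i` with square `s`: an involution is an entry, a square root of a
representative is listed. -/
def Tab.sqOK (i s : ℕ) : Bool :=
  bif Nat.beq s 0 then Nat.beq i 0 || Nat.blt (T.cls i) T.K
  else !Nat.testBit T.rmask s ||
    (List.range T.K).all fun k => !Nat.beq s (T.rep k) || (T.roots.getD k []).contains i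

/-- The data are right. -/
structure Tab.OK : Prop where
  reps_ok : T.rep 0 = 1 ∧ 0 < T.K ∧ T.K ≤ 99 ∧ D.mul 1 1 = 0 ∧
    allBelow (fun k => Nat.blt (T.rep k) 21504 && Nat.beq (D.mul (T.rep k) (T.rep k)) 0 &&
      Nat.beq (T.cls (T.rep k)) k) T.K = true
  ents_ok : T.ents.all (fun e => Nat.blt e.1 21504 && !Nat.beq e.1 0 &&
    Nat.beq (D.mul e.1 e.1) 0 && Nat.blt e.2.1 T.K && Nat.blt e.2.2 21504 &&
    Nat.beq (D.mul e.2.2 e.1) (D.mul (T.rep e.2.1) e.2.2)) = true
  rmask_ok : allBelow (fun k => Nat.testBit T.rmask (T.rep k)) T.K = true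
  nodup : (T.ents.map Prod.fst).Nodup
  complete : allBelow (fun i => T.sqOK i (D.mul i i)) 21504 = true
  roots_ok : allBelow (fun k => (T.roots.getD k []).all fun i =>
    Nat.blt i 21504 && Nat.beq (D.mul i i) (T.rep k)) T.K = true
  roots_nodup : ∀ k < T.K, (T.roots.getD k []).Nodup
  sig_ok : allBelow (fun k => Nat.beq k 0 ||
    (Nat.beq ((T.roots.getD 0 []).countP fun i => comm D i (T.rep k)) (T.sig.getD k (0, 0)).1 &&
      Nat.beq (T.roots.getD k []).length (T.sig.getD k (0, 0)).2)) T.K = true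
  trip_ok : allBelow (fun k => Nat.beq k 0 ||
    (T.ents.filter fun e => comm D e.1 (T.rep k)).map
        (fun e => (e.2.1, T.cls (D.mul 1 e.1), T.cls (D.mul (T.rep k) e.1))) ==
      T.trip.getD k []) T.K = true

/-- A list whose consecutive terms increase. -/
def increasing : List ℕ → Bool
  | a :: b :: t => Nat.blt a b && increasing (b :: t)
  | _ => true

theorem nodup_of_increasing {l : List ℕ} (hl : increasing l = true) : l.Nodup := by
  suffices h : l.Pairwise (· < ·) from h.imp fun hab => Nat.ne_of_lt hab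
  induction l with
  | nil => exact List.Pairwise.nil
  | cons a t ih =>
    rcases t with - | ⟨b, t⟩
    · exact List.pairwise_singleton _ _
    · simp only [increasing, Bool.and_eq_true, Nat.blt_eq] at hl
      have hp := ih hl.2
      refine List.pairwise_cons.2 ⟨fun c hc => ?_, hp⟩
      rcases List.mem_cons.1 hc with rfl | hc
      exacts [hl.1, hl.1.trans ((List.pairwise_cons.1 hp).1 c hc)]

/-- The count of triples selected by a set of classes. -/
def Tab.cnt (k : ℕ) (p : ℕ × ℕ × ℕ → Bool) : ℕ := (T.trip.getD k []).countP p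

/-- Class `j` may be the image of class `k`. -/
def Tab.exchanged (b k j : ℕ) : Bool :=
  Nat.beq (T.sig.getD k (0, 0)).1 (T.sig.getD j (0, 0)).2 &&
  Nat.beq (T.sig.getD k (0, 0)).2 (T.sig.getD j (0, 0)).1 &&
  Nat.beq (T.cnt k fun t => Nat.testBit b t.1 && Nat.testBit b t.2.1)
    (T.cnt j fun t => Nat.testBit b t.1 && Nat.testBit b t.2.2) &&
  Nat.beq (T.cnt k fun t => Nat.testBit b t.1 && Nat.testBit b t.2.2)
    (T.cnt j fun t => Nat.testBit b t.1 && Nat.testBit b t.2.1)

/-- A set of classes can be the set of classes conjugate to `z`. -/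
def Tab.consistent (b : ℕ) : Bool :=
  Nat.testBit b 0 && !Nat.beq b 1 && (List.range T.K).all fun k => Nat.beq k 0 ||
    !Nat.testBit b k || (List.range T.K).any fun j =>
      !Nat.beq j 0 && Nat.testBit b j && T.exchanged b k j

variable {D T}
variable {G : Type*} [Group G] [Finite G] {Q : Subgroup G} {z : G} {v : ℕ → G} {x y : G}

theorem mem_ents (hT : T.OK D) {e : ℕ × ℕ × ℕ} (he : e ∈ T.ents) :
    e.1 < 21504 ∧ e.1 ≠ 0 ∧ D.mul e.1 e.1 = 0 ∧ e.2.1 < T.K ∧ e.2.2 < 21504 ∧
      D.mul e.2.2 e.1 = D.mul (T.rep e.2.1) e.2.2 := by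
  have := List.all_eq_true.1 hT.ents_ok e he
  simp only [Bool.and_eq_true, Nat.blt_eq, Nat.beq_eq, Bool.not_eq_true', ← Bool.not_eq_true] at this
  tauto

theorem rep_spec (hT : T.OK D) {k : ℕ} (hk : k < T.K) :
    T.rep k < 21504 ∧ D.mul (T.rep k) (T.rep k) = 0 ∧ T.cls (T.rep k) = k := by
  have := of_allBelow hT.reps_ok.2.2.2.2 k hk
  simp only [Bool.and_eq_true, Nat.blt_eq, Nat.beq_eq] at this
  exact ⟨this.1.1, this.1.2, this.2⟩

theorem rep_lt (hT : T.OK D) {k : ℕ} (hk : k < T.K) : T.rep k < 21504 := (rep_spec hT hk).1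

theorem cls_ent (hT : T.OK D) {e : ℕ × ℕ × ℕ} (he : e ∈ T.ents) : T.cls e.1 = e.2.1 := by
  unfold Tab.cls
  cases hf : T.ents.find? fun e' => Nat.beq e'.1 e.1 with
  | none => exact absurd (List.find?_eq_none.1 hf e he) (by simp)
  | some e' =>
    rw [List.inj_on_of_nodup_map hT.nodup (List.mem_of_find?_eq_some hf) he
      (Nat.eq_of_beq_eq_true (List.find?_some (p := fun e' : ℕ × ℕ × ℕ => Nat.beq e'.1 e.1) hf))]

theorem exists_ent (hT : T.OK D) {i : ℕ} (hi : i < 21504) (h0 : i ≠ 0) (h2 : D.mul i i = 0) :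
    ∃ e ∈ T.ents, e.1 = i := by
  have := of_allBelow hT.complete i hi
  rw [h2, Tab.sqOK] at this
  have h : T.cls i < T.K := by
    simpa [h0] using this
  unfold Tab.cls at h
  cases hf : T.ents.find? fun e => Nat.beq e.1 i with
  | none => rw [hf] at h; have := hT.reps_ok.2.2.1; simp only at h; omega
  | some e => exact ⟨e, List.mem_of_find?_eq_some hf,
      Nat.eq_of_beq_eq_true (List.find?_some (p := fun e : ℕ × ℕ × ℕ => Nat.beq e.1 i) hf)⟩

theorem mem_roots (hT : T.OK D) {k i : ℕ} (hk : k < T.K) :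
    i ∈ T.roots.getD k [] ↔ i < 21504 ∧ D.mul i i = T.rep k := by
  refine ⟨fun hi => ?_, fun ⟨hi, e⟩ => ?_⟩
  · have := List.all_eq_true.1 (of_allBelow hT.roots_ok k hk) i hi
    simpa only [Bool.and_eq_true, Nat.blt_eq, Nat.beq_eq] using this
  · have h0 : T.rep k ≠ 0 := by
      intro e0
      have h1 := (rep_spec hT hk).2.2
      rw [e0] at h1
      unfold Tab.cls at h1
      cases hf : T.ents.find? fun e => Nat.beq e.1 0 with
      | none => rw [hf] at h1; have := hT.reps_ok.2.2.1; simp only at h1; omega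
      | some e' =>
        exact (mem_ents hT (List.mem_of_find?_eq_some hf)).2.1
          (Nat.eq_of_beq_eq_true (List.find?_some (p := fun e : ℕ × ℕ × ℕ => Nat.beq e.1 0) hf))
    have := of_allBelow hT.complete i hi
    rw [e, Tab.sqOK] at this
    have hne : Nat.beq (T.rep k) 0 = false :=
      Bool.eq_false_iff.2 fun hb => h0 (Nat.eq_of_beq_eq_true hb)
    rw [hne, cond_false, of_allBelow hT.rmask_ok k hk, Bool.not_true, Bool.false_or,
      List.all_eq_true] at this
    simpa using this k (List.mem_range.2 hk)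

section Group

variable (h : Mdl.Loc D Q z v x y) (hD : D.Good) (hT : T.OK D)
include h hD

local notation "val'" => Mdl.val D v z x y

theorem val_comm {i : ℕ} : val' i * z = z * val' i :=
  Subgroup.mem_centralizer_singleton_iff.1 (Mdl.val_mem h.toRels hD i)

theorem mul_iff {i j l : ℕ} (hi : i < 21504) (hj : j < 21504) (hl : l < 21504) :
    D.mul i j = l ↔ val' i * val' j = val' l := by
  rw [h.mul hD hi hj]
  exact ⟨fun e => by rw [e], h.inj hD (Mdl.mul_spec h.toRels hD hi hj).2 hl⟩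

theorem comm_iff {i j : ℕ} (hi : i < 21504) (hj : j < 21504) :
    comm D i j = true ↔ val' i * val' j = val' j * val' i := by
  rw [comm, Nat.beq_eq, h.mul hD hi hj, h.mul hD hj hi]
  exact ⟨fun e => by rw [e],
    h.inj hD (Mdl.mul_spec h.toRels hD hi hj).2 (Mdl.mul_spec h.toRels hD hj hi).2⟩

/-- A subset of the centraliser given by a list of codes has the length of the list as its order. -/
theorem card_eq_length {l : List ℕ} (hl : l.Nodup) (hlt : ∀ i ∈ l, i < 21504) {P : G → Prop}
    (hP : ∀ g, P g ↔ ∃ i ∈ l, val' i = g) : Nat.card {g : G // P g} = l.length := by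
  classical
  let f : Fin l.length → {g : G // P g} := fun i => ⟨val' l[i], (hP _).2 ⟨_, l.getElem_mem i.2, rfl⟩⟩
  rw [← Nat.card_fin l.length]
  refine (Nat.card_eq_of_bijective f ⟨fun a b e => ?_, fun g => ?_⟩).symm
  · exact hl.injective_get (h.inj hD (hlt _ (l.getElem_mem a.2)) (hlt _ (l.getElem_mem b.2))
      (congrArg Subtype.val e))
  · obtain ⟨i, hi, e⟩ := (hP _).1 g.2
    obtain ⟨n, hn, rfl⟩ := List.getElem_of_mem hi
    exact ⟨⟨n, hn⟩, Subtype.ext e⟩

include hT

theorem val_one : val' 1 = z := Mdl.val_z D hD.ok v z x y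

theorem z_mul_self : z * z = 1 := h.frame.z_sq

/-- An involution commuting with `z` is given by an entry and is conjugate in `C(z)` to its
representative. -/
theorem ent_spec {e : ℕ × ℕ × ℕ} (he : e ∈ T.ents) :
    val' e.1 * val' e.1 = 1 ∧ val' e.1 ≠ 1 ∧
      val' e.2.2 * val' e.1 * (val' e.2.2)⁻¹ = val' (T.rep e.2.1) := by
  obtain ⟨hi, h0, h2, hk, hc, hconj⟩ := mem_ents hT he
  refine ⟨?_, fun e1 => h0 ?_, ?_⟩
  · rw [h.mul hD hi hi, h2, Mdl.val_zero D hD.ok]
  · exact h.inj hD hi (by norm_num) (e1.trans (Mdl.val_zero D hD.ok v z x y).symm)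
  · rw [mul_inv_eq_iff_eq_mul, h.mul hD hc hi, h.mul hD (rep_lt hT hk) hc, hconj]

theorem exists_ent_of {g : G} (hc : g * z = z * g) (h2 : g * g = 1) (h1 : g ≠ 1) :
    ∃ e ∈ T.ents, val' e.1 = g := by
  obtain ⟨i, hi, rfl⟩ := h.cover hD hc
  obtain ⟨e, he, rfl⟩ := exists_ent hT hi (fun e => h1 (by rw [e, Mdl.val_zero D hD.ok]))
    ((mul_iff h hD hi hi (by norm_num)).2 (by rw [h2, Mdl.val_zero D hD.ok]))
  exact ⟨e, he, rfl⟩

/-- The set of classes `b` is the set of those conjugate to `z`. -/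
def Fused (T : Tab) (D : Mdl) (v : ℕ → G) (z x y : G) (b : ℕ) : Prop :=
  ∀ e ∈ T.ents, (IsConj z (D.val v z x y e.1) ↔ b.testBit e.2.1 = true)

omit hT in
theorem isConj_conj_iff {a g : G} : IsConj z (g * a * g⁻¹) ↔ IsConj z a := by
  have h1 : IsConj a (g * a * g⁻¹) := isConj_iff.2 ⟨g, rfl⟩
  exact ⟨fun e => e.trans h1.symm, fun e => e.trans h1⟩

theorem exists_fused : ∃ b < 2 ^ T.K, b.testBit 0 = true ∧ Fused T D v z x y b := by
  classical
  refine ⟨Nat.ofBits fun k : Fin T.K => decide (IsConj z (val' (T.rep k))),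
    Nat.ofBits_lt_two_pow _, ?_, fun e he => ?_⟩
  · rw [Nat.testBit_ofBits_lt _ _ hT.reps_ok.2.1]
    simp only [hT.reps_ok.1, decide_eq_true_eq, val_one h hD hT]
    exact IsConj.refl z
  · rw [Nat.testBit_ofBits_lt _ _ (mem_ents hT he).2.2.2.1, decide_eq_true_eq,
      ← (ent_spec h hD hT he).2.2]
    exact (isConj_conj_iff h hD).symm

variable {b : ℕ}

theorem fused_iff (hb : Fused T D v z x y b) (hbK : b < 2 ^ T.K) {g : G} (hc : g * z = z * g)
    (h2 : g * g = 1) {i : ℕ} (hi : i < 21504) (e : val' i = g) :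
    IsConj z g ↔ b.testBit (T.cls i) = true := by
  subst e
  have hout : T.cls i = 99 → b.testBit (T.cls i) = false := fun e => by
    rw [e]
    exact Nat.testBit_lt_two_pow (hbK.trans_le (Nat.pow_le_pow_right (by norm_num) hT.reps_ok.2.2.1))
  by_cases h1 : val' i = 1
  · have h0 : i = 0 := h.inj hD hi (by norm_num) (h1.trans (Mdl.val_zero D hD.ok v z x y).symm)
    have h99 : T.cls i = 99 := by
      unfold Tab.cls
      cases hf : T.ents.find? fun e => Nat.beq e.1 i with
      | none => rfl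
      | some e =>
        have h3 := Nat.eq_of_beq_eq_true
          (List.find?_some (p := fun e : ℕ × ℕ × ℕ => Nat.beq e.1 i) hf)
        exact absurd (h3.trans h0) (mem_ents hT (List.mem_of_find?_eq_some hf)).2.1
    rw [hout h99, h1]
    simp only [Bool.false_eq_true, iff_false]
    exact fun e => h.z_ne (isConj_one_right.1 e.symm)
  · obtain ⟨e, he, heq⟩ := exists_ent_of h hD hT hc h2 h1
    obtain rfl := h.inj hD (mem_ents hT he).1 hi heq
    rw [cls_ent hT he]
    exact hb e he

/-- Some class other than that of `z` is conjugate to `z`. -/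
theorem fused_ne_one [IsSimpleGroup G] (hG : Nat.card G = 4030387200)
    (hb : Fused T D v z x y b) : b ≠ 1 := by
  rintro rfl
  classical
  have hz2 : orderOf z = 2 := orderOf_eq_prime (by rw [pow_two, z_mul_self h hD hT]) h.z_ne
  have hne : ∀ g : G, Commute z (g * z * g⁻¹) → g * z * g⁻¹ = z := by
    intro g hg
    by_contra hgz
    have h2 : g * z * g⁻¹ * (g * z * g⁻¹) = 1 := by
      rw [show g * z * g⁻¹ * (g * z * g⁻¹) = g * (z * z) * g⁻¹ by group, z_mul_self h hD hT,
        mul_one, mul_inv_cancel]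
    obtain ⟨e, he, heq⟩ := exists_ent_of h hD hT hg.eq.symm h2
      (fun e => h.z_ne (conj_eq_one_iff.1 e))
    have h0 : e.2.1 = 0 := by
      have := (hb e he).1 (by rw [heq]; exact isConj_iff.2 ⟨g, rfl⟩)
      by_contra hk
      exact hk (Nat.testBit_one_eq_true_iff_self_eq_zero.1 this)
    have hc := (ent_spec h hD hT he).2.2
    rw [h0, hT.reps_ok.1, val_one h hD hT, heq, mul_inv_eq_iff_eq_mul, ← val_comm h hD] at hc
    exact hgz (mul_left_cancel hc)
  have hiso : Cfsg.IsIsolatedInvolution z := ⟨hz2, hne⟩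
  haveI := CfsgLib.Involution.ZStar.oddCore_normal (G := G)
  have hcore : Cfsg.oddCore G = ⊥ := by
    refine (Subgroup.Normal.eq_bot_or_eq_top (H := Cfsg.oddCore G) inferInstance).resolve_right fun e => ?_
    have hodd := CfsgLib.Involution.ZStar.odd_card_oddCore (G := G)
    rw [e, Subgroup.card_top, hG] at hodd
    exact absurd hodd (by decide)
  have htop : Subgroup.centralizer ({z} : Set G) = ⊤ := eq_top_iff.2 fun g _ => by
    have e := CfsgLib.Involution.ZStar.comm_mem_oddCore hiso g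
    rw [hcore, Subgroup.mem_bot, mul_inv_eq_one, mul_inv_eq_iff_eq_mul] at e
    exact Subgroup.mem_centralizer_singleton_iff.2 (by rw [e])
  have := h.card_C
  rw [htop, Subgroup.card_top, hG] at this
  exact absurd this (by norm_num)

/-- The counts of a class. -/
theorem sig_card {k : ℕ} (hk : k < T.K) (hk0 : k ≠ 0) :
    Nat.card {g : G // (g * z = z * g ∧ g * val' (T.rep k) = val' (T.rep k) * g) ∧ g * g = z} =
        (T.sig.getD k (0, 0)).1 ∧
      Nat.card {g : G // (g * z = z * g ∧ g * val' (T.rep k) = val' (T.rep k) * g) ∧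
        g * g = val' (T.rep k)} = (T.sig.getD k (0, 0)).2 := by
  have hr := rep_lt hT hk
  have := of_allBelow hT.sig_ok k hk
  simp only [Bool.or_eq_true, Bool.and_eq_true, Nat.beq_eq] at this
  obtain ⟨e1, e2⟩ := this.resolve_left hk0
  rw [← e1, ← e2]
  have h0 := hT.reps_ok.2.1
  refine ⟨?_, card_eq_length h hD (hT.roots_nodup k hk) (fun i hi => ((mem_roots hT hk).1 hi).1)
    fun g => ⟨?_, ?_⟩⟩
  · rw [List.countP_eq_length_filter]
    refine card_eq_length h hD ((hT.roots_nodup 0 h0).filter _)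
      (fun i hi => ((mem_roots hT h0).1 (List.mem_filter.1 hi).1).1) fun g => ⟨?_, ?_⟩
    · rintro ⟨⟨hc, hcr⟩, h2⟩
      obtain ⟨i, hi, rfl⟩ := h.cover hD hc
      refine ⟨i, List.mem_filter.2 ⟨(mem_roots hT h0).2 ⟨hi, ?_⟩, (comm_iff h hD hi hr).2 hcr⟩, rfl⟩
      rw [hT.reps_ok.1, mul_iff h hD hi hi (by norm_num), h2, val_one h hD hT]
    · rintro ⟨i, hi, rfl⟩
      obtain ⟨hm, hc⟩ := List.mem_filter.1 hi
      obtain ⟨hi, e⟩ := (mem_roots hT h0).1 hm
      rw [hT.reps_ok.1, mul_iff h hD hi hi (by norm_num), val_one h hD hT] at e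
      exact ⟨⟨val_comm h hD, (comm_iff h hD hi hr).1 hc⟩, e⟩
  · rintro ⟨⟨hc, -⟩, h2⟩
    obtain ⟨i, hi, rfl⟩ := h.cover hD hc
    exact ⟨i, (mem_roots hT hk).2 ⟨hi, (mul_iff h hD hi hi hr).2 h2⟩, rfl⟩
  · rintro ⟨i, hi, rfl⟩
    obtain ⟨hi, e⟩ := (mem_roots hT hk).1 hi
    rw [mul_iff h hD hi hi hr] at e
    exact ⟨⟨val_comm h hD, by rw [← e, mul_assoc]⟩, e⟩

theorem trip_card (hb : Fused T D v z x y b) (hbK : b < 2 ^ T.K) {k : ℕ} (hk : k < T.K)
    (hk0 : k ≠ 0) :
    Nat.card {g : G // ((g * z = z * g ∧ g * val' (T.rep k) = val' (T.rep k) * g) ∧ g * g = 1) ∧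
        IsConj z g ∧ IsConj z (z * g)} =
        T.cnt k (fun t => b.testBit t.1 && b.testBit t.2.1) ∧
      Nat.card {g : G // ((g * z = z * g ∧ g * val' (T.rep k) = val' (T.rep k) * g) ∧ g * g = 1) ∧
        IsConj z g ∧ IsConj z (val' (T.rep k) * g)} =
        T.cnt k (fun t => b.testBit t.1 && b.testBit t.2.2) := by
  have hr := rep_lt hT hk
  have hchk := of_allBelow hT.trip_ok k hk
  simp only [Bool.or_eq_true, Nat.beq_eq, beq_iff_eq] at hchk
  have htrip := hchk.resolve_left hk0
  have key : ∀ (a : ℕ) (π : ℕ × ℕ × ℕ → ℕ), a < 21504 → val' a * val' a = 1 →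
      val' (T.rep k) * val' (T.rep k) = 1 →
      (∀ g, g * z = z * g → g * val' (T.rep k) = val' (T.rep k) * g → g * val' a = val' a * g) →
      (∀ e : ℕ × ℕ × ℕ,
        π (e.2.1, T.cls (D.mul 1 e.1), T.cls (D.mul (T.rep k) e.1)) = T.cls (D.mul a e.1)) →
      Nat.card {g : G // ((g * z = z * g ∧ g * val' (T.rep k) = val' (T.rep k) * g) ∧ g * g = 1) ∧
        IsConj z g ∧ IsConj z (val' a * g)} =
        T.cnt k (fun t => b.testBit t.1 && b.testBit (π t)) := by
    intro a π ha ha2 _ hac hπ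
    rw [Tab.cnt, ← htrip, List.countP_map, List.countP_filter, List.countP_eq_length_filter,
      ← List.length_map (f := Prod.fst)]
    refine card_eq_length h hD ((List.filter_sublist.map Prod.fst).nodup hT.nodup) ?_ fun g => ?_
    · intro i hi
      obtain ⟨e, he, rfl⟩ := List.mem_map.1 hi
      exact (mem_ents hT (List.mem_filter.1 he).1).1
    have hiff : ∀ e ∈ T.ents, val' e.1 * val' (T.rep k) = val' (T.rep k) * val' e.1 →
        (IsConj z (val' a * val' e.1) ↔ b.testBit (T.cls (D.mul a e.1)) = true) := by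
      intro e he hc
      obtain ⟨hi, -⟩ := mem_ents hT he
      refine fused_iff h hD hT hb hbK ?_ ?_ (Mdl.mul_spec h.toRels hD ha hi).2 (h.mul hD ha hi).symm
      · rw [mul_assoc, val_comm h hD, ← mul_assoc, val_comm h hD, mul_assoc]
      · have := hac _ (val_comm h hD) hc
        rw [show val' a * val' e.1 * (val' a * val' e.1) = val' a * (val' e.1 * val' a) * val' e.1 by
          group, this, show val' a * (val' a * val' e.1) * val' e.1 =
          val' a * val' a * (val' e.1 * val' e.1) by group, ha2, (ent_spec h hD hT he).1, one_mul]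
    constructor
    · rintro ⟨⟨⟨hc, hcr⟩, h2⟩, hg, hag⟩
      obtain ⟨e, he, rfl⟩ := exists_ent_of h hD hT hc h2
        (fun e => h.z_ne (isConj_one_right.1 (e ▸ hg).symm))
      refine ⟨e.1, List.mem_map_of_mem (List.mem_filter.2 ⟨he, ?_⟩), rfl⟩
      simp only [Function.comp, Bool.and_eq_true, comm_iff h hD (mem_ents hT he).1 hr, hπ]
      exact ⟨⟨(hb e he).1 hg, (hiff e he hcr).1 hag⟩, hcr⟩
    · rintro ⟨i, hi, rfl⟩
      obtain ⟨e, he, rfl⟩ := List.mem_map.1 hi
      obtain ⟨he, hp⟩ := List.mem_filter.1 he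
      simp only [Function.comp, Bool.and_eq_true, comm_iff h hD (mem_ents hT he).1 hr, hπ] at hp
      obtain ⟨⟨p1, p2⟩, p3⟩ := hp
      exact ⟨⟨⟨val_comm h hD, p3⟩, (ent_spec h hD hT he).1⟩, (hb e he).2 p1, (hiff e he p3).2 p2⟩
  have hinv : val' (T.rep k) * val' (T.rep k) = 1 := by
    rw [h.mul hD hr hr, (rep_spec hT hk).2.1, Mdl.val_zero D hD.ok]
  refine ⟨?_, key _ (fun t => t.2.2) hr hinv hinv (fun g _ e => e) fun _ => rfl⟩
  have := key 1 (fun t => t.2.1) (by norm_num)
    (by rw [val_one h hD hT, z_mul_self h hD hT]) hinv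
    (fun g e _ => by rw [val_one h hD hT]; exact e) fun _ => rfl
  rwa [val_one h hD hT] at this

/-- The exchange. -/
theorem consistent_of_fused [IsSimpleGroup G] (hG : Nat.card G = 4030387200)
    (hb : Fused T D v z x y b) (hb0 : b.testBit 0 = true) (hbK : b < 2 ^ T.K) :
    T.consistent b = true := by
  simp only [Tab.consistent, Bool.and_eq_true, List.all_eq_true, List.mem_range, Bool.or_eq_true,
    Nat.beq_eq, Bool.not_eq_true', ← Bool.not_eq_true, List.any_eq_true]
  refine ⟨⟨hb0, fused_ne_one h hD hT hG hb⟩, fun k hk => ?_⟩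
  by_cases hk0 : k = 0
  · exact Or.inl (Or.inl hk0)
  by_cases hbk : b.testBit k = true
  swap
  · exact Or.inl (Or.inr hbk)
  refine Or.inr ?_
  set w := val' (T.rep k) with hw
  obtain ⟨hr, hr2, hcls⟩ := rep_spec hT hk
  have hw2 : w * w = 1 := by rw [hw, h.mul hD hr hr, hr2, Mdl.val_zero D hD.ok]
  have hwz : w * z = z * w := val_comm h hD
  have hzw : IsConj z w := (fused_iff h hD hT hb hbK hwz hw2 hr rfl).2 (by rw [hcls]; exact hbk)
  obtain ⟨g, hgw⟩ := isConj_iff.1 hzw.symm
  set u := g * z * g⁻¹ with hu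
  have huz : u * z = z * u := by
    conv_lhs => rw [← hgw, hu]
    conv_rhs => rw [← hgw, hu]
    rw [show g * z * g⁻¹ * (g * w * g⁻¹) = g * (z * w) * g⁻¹ by group, ← hwz]
    group
  have hu2 : u * u = 1 := by
    rw [hu, show g * z * g⁻¹ * (g * z * g⁻¹) = g * (z * z) * g⁻¹ by group, z_mul_self h hD hT,
      mul_one, mul_inv_cancel]
  have huz' : u ≠ z := fun e => by
    have : w = z := by
      rw [← hgw] at e
      exact (mul_left_cancel (mul_right_cancel e)).symm
    have h1 := h.inj hD hr (j := 1) (by norm_num) (this.trans (val_one h hD hT).symm)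
    rw [h1, ← hT.reps_ok.1, (rep_spec hT hT.reps_ok.2.1).2.2] at hcls
    exact hk0 hcls.symm
  obtain ⟨e, he, heu⟩ := exists_ent_of h hD hT huz hu2 fun e => h.z_ne (conj_eq_one_iff.1 e)
  obtain ⟨-, -, -, hj, hc, -⟩ := mem_ents hT he
  have hconj := (ent_spec h hD hT he).2.2
  rw [heu] at hconj
  set c := val' e.2.2 with hcdef
  set j := e.2.1 with hjdef
  have hj0 : j ≠ 0 := fun e0 => huz' (by
    rw [e0, hT.reps_ok.1, val_one h hD hT, mul_inv_eq_iff_eq_mul, ← val_comm h hD] at hconj
    exact mul_left_cancel hconj)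
  have hbj : b.testBit j = true :=
    (hb e he).1 (heu ▸ isConj_iff.2 ⟨g, rfl⟩)
  refine ⟨j, hj, ⟨hj0, hbj⟩, ?_⟩
  set r := val' (T.rep j) with hrdef
  set ψ := MulAut.conj (c * g) with hψ
  have hψw : ψ w = z := by
    rw [hψ, MulAut.conj_apply, show c * g * w * (c * g)⁻¹ = c * (g * w * g⁻¹) * c⁻¹ by group, hgw,
      hcdef, val_comm h hD, mul_inv_cancel_right]
  have hψz : ψ z = r := by
    rw [hψ, MulAut.conj_apply, show c * g * z * (c * g)⁻¹ = c * (g * z * g⁻¹) * c⁻¹ by group, hconj]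
  have hcz : ∀ a p : G, ψ a = p → ∀ q, (q * a = a * q ↔ ψ q * p = p * ψ q) := fun a p hap q => by
    rw [← hap, ← map_mul, ← map_mul, ψ.injective.eq_iff]
  have hcj : ∀ q, (IsConj z q ↔ IsConj z (ψ q)) := fun q => by
    rw [hψ, MulAut.conj_apply]; exact (isConj_conj_iff h hD).symm
  have hP : ∀ q, (q * z = z * q ∧ q * w = w * q) ↔ (ψ q * z = z * ψ q ∧ ψ q * r = r * ψ q) :=
    fun q => by rw [hcz z r hψz q, hcz w z hψw q, and_comm]
  have hsq : ∀ a p : G, ψ a = p → ∀ q, (q * q = a ↔ ψ q * ψ q = p) := fun a p hap q => by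
    rw [← hap, ← map_mul, ψ.injective.eq_iff]
  obtain ⟨k1, k2⟩ := sig_card h hD hT hk hk0
  obtain ⟨j1, j2⟩ := sig_card h hD hT hj hj0
  obtain ⟨k3, k4⟩ := trip_card h hD hT hb hbK hk hk0
  obtain ⟨j3, j4⟩ := trip_card h hD hT hb hbK hj hj0
  simp only [Tab.exchanged, Bool.and_eq_true, Nat.beq_eq]
  rw [← k1, ← k2, ← j1, ← j2, ← k3, ← k4, ← j3, ← j4]
  refine ⟨⟨⟨?_, ?_⟩, ?_⟩, ?_⟩
  · exact Nat.card_congr (ψ.toEquiv.subtypeEquiv fun q => and_congr (hP q) (hsq z r hψz q))
  · exact Nat.card_congr (ψ.toEquiv.subtypeEquiv fun q => and_congr (hP q) (hsq w z hψw q))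
  · refine Nat.card_congr (ψ.toEquiv.subtypeEquiv fun q => and_congr (and_congr (hP q)
      (hsq 1 1 (map_one ψ) q)) (and_congr (hcj q) ?_))
    rw [hcj, map_mul, hψz]
    rfl
  · refine Nat.card_congr (ψ.toEquiv.subtypeEquiv fun q => and_congr (and_congr (hP q)
      (hsq 1 1 (map_one ψ) q)) (and_congr (hcj q) ?_))
    rw [hcj, map_mul, hψw]
    rfl

/-- The conjugates of `z` in `C(z)` do not form the involutions of an elementary subgroup of order
16: it would act without fixed points on the other `187410` conjugates. -/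
theorem not_elementary (hG : Nat.card G = 4030387200) {l : List ℕ} (hl : l.Nodup)
    (hlen : l.length = 15) (hlt : l.all (fun i => Nat.blt i 21504 && !Nat.beq i 0) = true)
    (hclosed : (0 :: l).all (fun i => Nat.beq (D.mul i i) 0 && (0 :: l).all fun j =>
      comm D i j && (0 :: l).contains (D.mul i j)) = true)
    (hF : ∀ g, g * z = z * g → g * g = 1 → (IsConj z g ↔ ∃ i ∈ l, val' i = g)) : False := by
  classical
  simp only [List.all_eq_true, Bool.and_eq_true, Nat.blt_eq, Bool.not_eq_true', ← Bool.not_eq_true,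
    Nat.beq_eq, List.contains_iff_mem] at hlt hclosed
  have hlt0 : ∀ i ∈ 0 :: l, i < 21504 := by
    intro i hi
    rcases List.mem_cons.1 hi with rfl | hi
    exacts [by norm_num, (hlt i hi).1]
  have hnd : (0 :: l).Nodup := List.nodup_cons.2 ⟨fun hm => (hlt 0 hm).2 rfl, hl⟩
  let W : Subgroup G :=
    { carrier := {g | ∃ i ∈ 0 :: l, val' i = g}
      one_mem' := ⟨0, List.mem_cons_self, Mdl.val_zero D hD.ok v z x y⟩
      mul_mem' := by
        rintro _ _ ⟨i, hi, rfl⟩ ⟨j, hj, rfl⟩
        exact ⟨_, ((hclosed i hi).2 j hj).2, (h.mul hD (hlt0 i hi) (hlt0 j hj)).symm⟩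
      inv_mem' := by
        rintro _ ⟨i, hi, rfl⟩
        refine ⟨i, hi, (inv_eq_of_mul_eq_one_right ?_).symm⟩
        rw [h.mul hD (hlt0 i hi) (hlt0 i hi), (hclosed i hi).1, Mdl.val_zero D hD.ok] }
  have hWcard : Nat.card W = 16 := by
    exact (card_eq_length h hD hnd hlt0 (P := fun g => g ∈ W) fun g => Iff.rfl).trans
      (by rw [List.length_cons, hlen])
  have hsq : ∀ g, IsConj z g → g * g = 1 := fun g hg => by
    obtain ⟨c, rfl⟩ := isConj_iff.1 hg
    rw [show c * z * c⁻¹ * (c * z * c⁻¹) = c * (z * z) * c⁻¹ by group, z_mul_self h hD hT, mul_one,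
      mul_inv_cancel]
  have hWz : ∀ g ∈ W, g ≠ 1 → IsConj z g := by
    rintro _ ⟨i, hi, rfl⟩ h1
    refine (hF _ (val_comm h hD) ?_).2 ⟨i, (List.mem_cons.1 hi).resolve_left fun e => h1 ?_, rfl⟩
    · rw [h.mul hD (hlt0 i hi) (hlt0 i hi), (hclosed i hi).1, Mdl.val_zero D hD.ok]
    · rw [e, Mdl.val_zero D hD.ok]
  have hWab : ∀ a ∈ W, ∀ c ∈ W, a * c = c * a := by
    rintro _ ⟨i, hi, rfl⟩ _ ⟨j, hj, rfl⟩
    exact (comm_iff h hD (hlt0 i hi) (hlt0 j hj)).1 ((hclosed i hi).2 j hj).1
  have hzW : ∀ g : G, (IsConj z g ∧ g * z = z * g) ↔ ∃ i ∈ l, val' i = g := by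
    refine fun g => ⟨fun hg => (hF g hg.2 (hsq g hg.1)).1 hg.1, ?_⟩
    rintro ⟨i, hi, rfl⟩
    refine ⟨(hF _ (val_comm h hD) ?_).2 ⟨i, hi, rfl⟩, val_comm h hD⟩
    rw [h.mul hD (hlt i hi).1 (hlt i hi).1, (hclosed i (List.mem_cons_of_mem _ hi)).1,
      Mdl.val_zero D hD.ok]
  have h15 : ∀ a, IsConj z a → Nat.card {g : G // IsConj z g ∧ g * a = a * g} = 15 := by
    intro a ha
    obtain ⟨c, rfl⟩ := isConj_iff.1 ha
    rw [← hlen, ← card_eq_length h hD hl (fun i hi => (hlt i hi).1) hzW]
    refine (Nat.card_congr ((MulAut.conj c).toEquiv.subtypeEquiv fun q => ?_)).symm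
    show _ ↔ IsConj z (c * q * c⁻¹) ∧ _
    rw [isConj_conj_iff h hD]
    refine and_congr_right fun _ => ?_
    show _ ↔ MulAut.conj c q * MulAut.conj c z = MulAut.conj c z * MulAut.conj c q
    rw [← map_mul, ← map_mul, (MulAut.conj c).injective.eq_iff]
  -- each involution of `W` commutes with no other conjugate of `z`
  have hfix : ∀ a ∈ W, a ≠ 1 → ∀ g, IsConj z g → g * a = a * g → g ∈ W := by
    intro a ha ha1 g hg hga
    let f : {q : G // q ∈ W ∧ q ≠ 1} → {q : G // IsConj z q ∧ q * a = a * q} := fun q =>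
      ⟨q, hWz _ q.2.1 q.2.2, hWab _ q.2.1 _ ha⟩
    have hc : Nat.card {q : G // q ∈ W ∧ q ≠ 1} = 15 := by
      rw [← hlen]
      refine card_eq_length h hD hl (fun i hi => (hlt i hi).1) fun q => ⟨?_, ?_⟩
      · rintro ⟨⟨i, hi, rfl⟩, h1⟩
        exact ⟨i, (List.mem_cons.1 hi).resolve_left fun e => h1 (by rw [e, Mdl.val_zero D hD.ok]),
          rfl⟩
      · rintro ⟨i, hi, rfl⟩
        refine ⟨⟨i, List.mem_cons_of_mem _ hi, rfl⟩, fun e => (hlt i hi).2 ?_⟩
        exact h.inj hD (hlt i hi).1 (by norm_num) (e.trans (Mdl.val_zero D hD.ok v z x y).symm)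
    have hf : Function.Bijective f := (Nat.bijective_iff_injective_and_card f).2
      ⟨fun p q e => Subtype.ext (congrArg (fun r => (r.1 : G)) e),
        by rw [hc, h15 a (hWz a ha ha1)]⟩
    obtain ⟨q, hq⟩ := hf.2 ⟨g, hg, hga⟩
    exact (show (q : G) = g from congrArg Subtype.val hq) ▸ q.2.1
  have hall : Nat.card {g : G // IsConj z g} = 187425 := by
    have e : Nat.card {g : G // IsConj z g} = (Subgroup.centralizer ({z} : Set G)).index := by
      have h1 := Nat.card_congr (MulAction.orbitEquivQuotientStabilizer (ConjAct G) z)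
      rw [← Subgroup.index, ConjAct.stabilizer_eq_centralizer] at h1
      have h2 : Nat.card (MulAction.orbit (ConjAct G) z) = Nat.card {g : G // IsConj z g} :=
        Nat.card_congr (Equiv.subtypeEquivRight fun g => by
          rw [ConjAct.mem_orbit_conjAct, isConj_comm])
      exact h2 ▸ h1
    have h3 := Subgroup.card_mul_index (Subgroup.centralizer ({z} : Set G))
    rw [h.card_C, hG] at h3
    omega
  -- the action on the other conjugates
  letI act : MulAction W {g : G // IsConj z g ∧ g ∉ W} :=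
    { smul := fun w g => ⟨(w : G) * g * (w : G)⁻¹, (isConj_conj_iff h hD).2 g.2.1, fun hm => g.2.2 (by
        have := W.mul_mem (W.mul_mem (W.inv_mem w.2) hm) w.2
        rwa [show (w : G)⁻¹ * ((w : G) * g * (w : G)⁻¹) * w = (g : G) by group] at this)⟩
      one_smul := fun g => Subtype.ext (show ((1 : W) : G) * g * ((1 : W) : G)⁻¹ = g by simp)
      mul_smul := fun a c g => Subtype.ext (by
        show ((a * c : W) : G) * g * ((a * c : W) : G)⁻¹ = a * (c * g * (c : G)⁻¹) * (a : G)⁻¹
        rw [Subgroup.coe_mul]; group) }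
  have hfree : ∀ g : {g : G // IsConj z g ∧ g ∉ W}, MulAction.stabilizer W g = ⊥ := fun g => by
    refine (Subgroup.eq_bot_iff_forall _).2 fun w hw => ?_
    by_contra hw1
    have e : (w : G) * g * (w : G)⁻¹ = g := congrArg Subtype.val (MulAction.mem_stabilizer_iff.1 hw)
    exact g.2.2 (hfix w w.2 (fun e => hw1 (Subtype.ext e)) g g.2.1
      (mul_inv_eq_iff_eq_mul.1 e).symm)
  have hY := Nat.card_congr (MulAction.selfEquivOrbitsQuotientProd hfree)
  rw [Nat.card_prod, hWcard] at hY
  have hsplit : Nat.card {g : G // IsConj z g} =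
      Nat.card {g : G // IsConj z g ∧ g ∈ W} + Nat.card {g : G // IsConj z g ∧ g ∉ W} := by
    rw [← Nat.card_sum]
    exact Nat.card_congr ((Equiv.sumCompl fun g : {g : G // IsConj z g} => (g : G) ∈ W).symm.trans
      (Equiv.sumCongr (Equiv.subtypeSubtypeEquivSubtypeInter (IsConj z) (fun g => g ∈ W))
        (Equiv.subtypeSubtypeEquivSubtypeInter (IsConj z) (fun g => g ∉ W))))
  have hin : Nat.card {g : G // IsConj z g ∧ g ∈ W} = 15 := by
    rw [← hlen]
    refine card_eq_length h hD hl (fun i hi => (hlt i hi).1) fun g => ⟨?_, ?_⟩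
    · rintro ⟨hg, i, hi, rfl⟩
      exact (hzW _).1 ⟨hg, val_comm h hD⟩
    · rintro ⟨i, hi, rfl⟩
      exact ⟨((hzW _).2 ⟨i, hi, rfl⟩).1, i, List.mem_cons_of_mem _ hi, rfl⟩
  omega

/-- A fused set of classes equal to an elementary subgroup of order 16 is impossible. -/
theorem not_fused (hG : Nat.card G = 4030387200) (hb : Fused T D v z x y b) {l : List ℕ}
    (hl : l.Nodup) (hlen : l.length = 15)
    (hlt : l.all (fun i => Nat.blt i 21504 && !Nat.beq i 0) = true)
    (hclosed : (0 :: l).all (fun i => Nat.beq (D.mul i i) 0 && (0 :: l).all fun j =>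
      comm D i j && (0 :: l).contains (D.mul i j)) = true)
    (hmem : T.ents.all (fun e => Nat.testBit b e.2.1 == l.contains e.1) = true) : False := by
  refine not_elementary h hD hT hG hl hlen hlt hclosed fun g hc h2 => ?_
  simp only [List.all_eq_true, beq_iff_eq, Bool.and_eq_true, Nat.blt_eq] at hmem hlt
  by_cases h1 : g = 1
  · subst h1
    refine ⟨fun e => absurd (isConj_one_right.1 e.symm) h.z_ne, ?_⟩
    rintro ⟨i, hi, e⟩
    have h0 := h.inj hD (hlt i hi).1 (by norm_num) (e.trans (Mdl.val_zero D hD.ok v z x y).symm)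
    simp [h0] at hlt hi
    exact absurd (hlt 0 hi) (by simp)
  obtain ⟨e, he, rfl⟩ := exists_ent_of h hD hT hc h2 h1
  rw [hb e he, hmem e he, List.contains_iff_mem]
  refine ⟨fun hm => ⟨_, hm, rfl⟩, ?_⟩
  rintro ⟨i, hi, eq⟩
  rwa [← h.inj hD (hlt i hi).1 (mem_ents hT he).1 eq]

end Group

end CfsgLib.Sporadic.HeldUnique.Fusion
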