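import Cfsg.Agent.Lib.Sporadic.HeldUnique.Local
import Cfsg.Agent.Lib.Sporadic.HeldUnique.DataA0
import Cfsg.Agent.Lib.Sporadic.HeldUnique.DataA1
import Cfsg.Agent.Lib.Sporadic.HeldUnique.DataB0
import Cfsg.Agent.Lib.Sporadic.HeldUnique.DataB1

/-!
# The four models are consistent
-/

set_option maxRecDepth 100000
set_option Elab.async false

namespace CfsgLib.Sporadic.HeldUnique

theorem MA0.good : MA0.mdl.Good :=
  ⟨MA0.mdl_ok, ⟨MA0.cert, MA0.certTop, MA0.cert_valid, MA0.cert_rels, MA0.cert_shape, MA0.edges_ok⟩,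
    by decide +kernel, by decide +kernel⟩

theorem MA1.good : MA1.mdl.Good :=
  ⟨MA1.mdl_ok, ⟨MA1.cert, MA1.certTop, MA1.cert_valid, MA1.cert_rels, MA1.cert_shape, MA1.edges_ok⟩,
    by decide +kernel, by decide +kernel⟩

theorem MB0.good : MB0.mdl.Good :=
  ⟨MB0.mdl_ok, ⟨MB0.cert, MB0.certTop, MB0.cert_valid, MB0.cert_rels, MB0.cert_shape, MB0.edges_ok⟩,
    by decide +kernel, by decide +kernel⟩

theorem MB1.good : MB1.mdl.Good :=
  ⟨MB1.mdl_ok, ⟨MB1.cert, MB1.certTop, MB1.cert_valid, MB1.cert_rels, MB1.cert_shape, MB1.edges_ok⟩,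
    by decide +kernel, by decide +kernel⟩

end CfsgLib.Sporadic.HeldUnique
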