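import Cfsg.Agent.Lib.Sporadic.HeldUnique.Conj
import Cfsg.Agent.Lib.Sporadic.HeldUnique.Models
import Cfsg.Agent.Lib.Sporadic.HeldUnique.KillData
import Cfsg.Agent.Lib.ThreeTransp.Simplicity
import Cfsg.Agent.Lib.Classical.SLOrders

/-!
# The centraliser is one of the four models
-/

set_option autoImplicit false
set_option maxRecDepth 100000
set_option linter.style.haveILetI false

namespace CfsgLib.Sporadic.HeldUnique

open CfsgLib.ThreeTransp.Extraspecial (Extra exists_extra)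
open Equiv CosetCert Ortho

variable {G : Type*} [Group G] [Finite G]

/-- Conjugation by a code. -/
def innerMap (r a : ℕ) : ℕ := qmul (qmul r a) (qinv r)

/-- The checks on the action tables of a model. -/
structure ActOK (D : Mdl) (k : Fin 3) : Prop where
  kers_lt : ∀ i < 4, D.kers.getD i 0 < 128
  phi_x : ∀ i < 6, D.gtab 7 (2 ^ (i + 1)) / 2 = act (clX k) (2 ^ i)
  phi_y : ∀ i < 6, D.gtab 9 (2 ^ (i + 1)) / 2 = act (clY k) (2 ^ i)
  x_ord : ∀ a < 128, (D.gtab 7)^[4] a = a
  y_ord : ∀ a < 128, (D.gtab 9)^[6] a = a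
  xx : ∀ a < 128, D.gtab 7 (D.gtab 7 a) = innerMap (D.kers.getD 0 0) a
  yyy : ∀ a < 128, D.gtab 9 (D.gtab 9 (D.gtab 9 a)) = innerMap (D.kers.getD 1 0) a
  p7 : ∀ a < 128, (D.gtab 7 ∘ D.gtab 9)^[7] a = innerMap (D.kers.getD 2 0) a
  c4 : ∀ a < 128, (D.gtab 7 ∘ D.gtab 9 ∘ (D.gtab 7)^[3] ∘ (D.gtab 9)^[5])^[4] a =
    innerMap (D.kers.getD 3 0) a

theorem actA : ActOK MA0.mdl 2 := by
  refine ⟨?_, ?_, ?_, ?_, ?_, ?_, ?_, ?_, ?_⟩ <;> decide +kernel

theorem actB : ActOK MB0.mdl 1 := by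
  refine ⟨?_, ?_, ?_, ?_, ?_, ?_, ?_, ?_, ?_⟩ <;> decide +kernel

theorem rels_of {Q : Subgroup G} {z : G} {v : ℕ → G} {x y : G} {D : Mdl} (hF : Frame Q z v) (h1 : D.gtab 7 1 = 1 ∧ D.gtab 9 1 = 1)
    (hx : Setting.Conj v z x (D.gtab 7)) (hy : Setting.Conj v z y (D.gtab 9))
    (k0 : x * x = qe v z (D.kers.getD 0 0)) (k1 : y * y * y = qe v z (D.kers.getD 1 0))
    (k2 : (x * y) ^ 7 = qe v z (D.kers.getD 2 0)) (k3 : (x * y * x⁻¹ * y⁻¹) ^ 4 = qe v z (D.kers.getD 3 0)) :
    Mdl.Rels D Q z v x y := by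
  refine ⟨hF, fun r hr => ?_⟩
  have hq : ∀ i < 7, Mdl.letters v z x y i = qletters v z i := fun i hi => by rw [Mdl.letters, if_pos hi]
  have hqq : ∀ i < 7, qletters v z i * qletters v z i = 1 := fun i hi => by
    rw [qletters]; split_ifs with h
    exacts [hF.sq i h, hF.z_sq]
  have hinv : ∀ r : ℕ, wp (Mdl.letters v z x y) (Mdl.invWord (qword r)) = (qe v z r)⁻¹ := fun r => by
    rw [Mdl.wp_invWord hF x y _ (Mdl.qword_lt r), Mdl.wp_qword]
  have hcode : ∀ i < 7, qletters v z i = qe v z (if i < 6 then 2 ^ (i + 1) else 1) := fun i hi => by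
    rw [qletters]
    split_ifs with h
    · rw [Frame.qe_two_pow v z h]
    · rw [Frame.qe_z_code]
  have h7 : Mdl.letters v z x y 7 = x := by simp [Mdl.letters]
  have h8 : Mdl.letters v z x y 8 = x⁻¹ := by simp [Mdl.letters]
  have h9 : Mdl.letters v z x y 9 = y := by simp [Mdl.letters]
  have h10 : Mdl.letters v z x y 10 = y⁻¹ := by simp [Mdl.letters]
  simp only [Mdl.rels, List.mem_append, List.mem_map, List.mem_flatMap, List.mem_filter,
    List.mem_range, decide_eq_true_eq, List.mem_cons, List.not_mem_nil, or_false] at hr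
  rcases hr with ((⟨i, hi, rfl⟩ | ⟨i, hi, j, ⟨hj, hij⟩, rfl⟩) | ⟨i, hi, rfl | rfl⟩) | rfl | rfl | rfl | rfl
  · simp only [wp, mul_one, hq i hi, hqq i hi]
  · have hzz := hF.z_sq
    have hcomm : j = 6 ∨ j ≠ i + 3 → qletters v z i * qletters v z j = qletters v z j * qletters v z i := by
      intro h
      by_cases h6 : j = 6
      · subst h6
        rw [show qletters v z 6 = z from if_neg (lt_irrefl _), hF.qletters_z_comm]
      · rw [qletters, qletters, if_pos (by omega), if_pos (by omega)]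
        exact hF.comm i (by omega) j (by omega) (by omega) (h.resolve_left h6)
    split_ifs with hc
    · simp only [wp, mul_one, hq i hi, hq j hj]
      calc qletters v z i * (qletters v z j * (qletters v z i * qletters v z j))
          = qletters v z i * qletters v z j * (qletters v z i * qletters v z j) := by group
        _ = qletters v z i * qletters v z j * (qletters v z j * qletters v z i) := by rw [hcomm hc]
        _ = qletters v z i * (qletters v z j * qletters v z j) * qletters v z i := by group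
        _ = 1 := by rw [hqq j hj, mul_one, hqq i hi]
    · push Not at hc
      obtain ⟨hj6, rfl⟩ := hc
      have hi3 : i < 3 := by omega
      simp only [wp, mul_one, hq i hi, hq (i + 3) hj, hq 6 (by norm_num)]
      rw [qletters, qletters, qletters, if_pos (by omega), if_pos (by omega), if_neg (lt_irrefl _)]
      have p := hF.pair i hi3
      calc v i * (v (i + 3) * (v i * (v (i + 3) * z)))
          = v i * (v (i + 3) * v i) * (v (i + 3) * z) := by group
        _ = v i * v i * (v (i + 3) * z) * (v (i + 3) * z) := by rw [p]; group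
        _ = v i * v i * (v (i + 3) * (z * v (i + 3))) * z := by group
        _ = 1 := by
          rw [← hF.z_comm (i + 3) (by omega), ← mul_assoc (v (i + 3)), hF.sq i (by omega),
            hF.sq (i + 3) (by omega), one_mul, one_mul, hzz]
  · rw [wp_append, hinv]
    simp only [wp, mul_one, h7, h8, hq i hi]
    rw [hcode i hi, ← mul_assoc, mul_inv_eq_one, hx _ (by split_ifs <;> first | exact pow_code_lt (by omega) | norm_num)]
    group
  · rw [wp_append, hinv]
    simp only [wp, mul_one, h9, h10, hq i hi]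
    rw [hcode i hi, ← mul_assoc, mul_inv_eq_one, hy _ (by split_ifs <;> first | exact pow_code_lt (by omega) | norm_num)]
    group
  · rw [wp_append, hinv, mul_inv_eq_one]
    simp only [wp, mul_one, h7, k0]
  · rw [wp_append, hinv, mul_inv_eq_one]
    simp only [wp, mul_one, h9, ← k1, mul_assoc]
  · rw [wp_append, hinv, mul_inv_eq_one, ← k2]
    simp [wp, List.replicate, h7, h9, pow_succ, mul_assoc]
  · rw [wp_append, hinv, mul_inv_eq_one, ← k3]
    simp [wp, List.replicate, h7, h8, h9, h10, pow_succ, mul_assoc]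

namespace Setting

variable {Q : Subgroup G} {z : G} {v : ℕ → G}

theorem pow_conj {g : G} {f : ℕ → ℕ} (hc : Conj v z g f) (hlt : ∀ a < 128, f a < 128) :
    ∀ n, Conj v z (g ^ n) f^[n] := by
  intro n
  induction n with
  | zero => intro a _; simp
  | succ n ih =>
    rw [pow_succ']
    exact (Conj.mul hc ih (iterate_lt hlt n)).congr fun a _ => (Function.iterate_succ_apply' f n a).symm

/-- The lifts of a pair with the given permutations fit a model up to four bits of the centre. -/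
theorem exists_model (h : Setting Q z v) {D : Mdl} {k : Fin 3} (hD : D.Good) (hA : ActOK D k) {x0 y0 : G}
    (hx0 : x0 * z = z * x0) (hy0 : y0 * z = z * y0)
    (hx : ∀ i < 6, phi v z x0 (2 ^ i) = act (clX k) (2 ^ i))
    (hy : ∀ i < 6, phi v z y0 (2 ^ i) = act (clY k) (2 ^ i)) :
    ∃ (x y : G) (b c : Bool), Mdl.Rels { D with kers :=
      [qmul (D.kers.getD 0 0) (if b then 1 else 0), D.kers.getD 1 0, D.kers.getD 2 0,
        qmul (D.kers.getD 3 0) (if c then 1 else 0)] } Q z v x y := by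
  have hlt : ∀ g, g = 7 ∨ g = 9 → ∀ a < 128, D.gtab g a < 128 := fun g hg a ha => by
    have := of_allBelow hD.ok.g_lt a ha
    simp only [Bool.and_eq_true, Nat.blt_eq] at this
    rcases hg with rfl | rfl
    exacts [this.1, this.2]
  have hom : ∀ g, g = 7 ∨ g = 9 → ∀ i < 7, ∀ a < 128,
      D.gtab g (qmul (2 ^ i) a) = qmul (D.gtab g (2 ^ i)) (D.gtab g a) := fun g hg i hi a ha => by
    have := of_allBelow (of_allBelow hD.ok.g_hom i hi) a ha
    simp only [Bool.and_eq_true, Nat.beq_eq] at this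
    rcases hg with rfl | rfl
    exacts [this.1, this.2]
  obtain ⟨qx, hqx, cx⟩ := h.exists_conj_fix hx0 (hlt 7 (.inl rfl)) (hom 7 (.inl rfl)) hD.ok.g_zero.1
    hD.fix_z.1 fun i hi => by rw [hx i hi, hA.phi_x i hi]
  obtain ⟨qy, hqy, cy⟩ := h.exists_conj_fix hy0 (hlt 9 (.inr rfl)) (hom 9 (.inr rfl)) hD.ok.g_zero.2
    hD.fix_z.2 fun i hi => by rw [hy i hi, hA.phi_y i hi]
  generalize x0 * qx = x1 at cx
  generalize y0 * qy = y1 at cy
  have ha := hlt 7 (.inl rfl)
  have hb := hlt 9 (.inr rfl)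
  -- the values of the four words
  have vals : ∀ x y : G, Conj v z x (D.gtab 7) → Conj v z y (D.gtab 9) →
      (∃ b : Bool, x * x = qe v z (qmul (D.kers.getD 0 0) (if b then 1 else 0))) ∧
      (∃ b : Bool, y * y * y = qe v z (qmul (D.kers.getD 1 0) (if b then 1 else 0))) ∧
      (∃ b : Bool, (x * y) ^ 7 = qe v z (qmul (D.kers.getD 2 0) (if b then 1 else 0))) ∧
      ∃ b : Bool, (x * y * x⁻¹ * y⁻¹) ^ 4 = qe v z (qmul (D.kers.getD 3 0) (if b then 1 else 0)) := by
    intro x y cx cy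
    have hxz := cx.comm hD.fix_z.1
    have hyz := cy.comm hD.fix_z.2
    have q0 : ∀ r < 128, qmul r 0 = r := by decide +kernel
    have fin : ∀ (i : ℕ) (g : G), i < 4 → g * z = z * g → Conj v z g (innerMap (D.kers.getD i 0)) →
        ∃ b : Bool, g = qe v z (qmul (D.kers.getD i 0) (if b then 1 else 0)) := by
      intro i g hi hg hc
      rcases h.eq_of_conj hg (hA.kers_lt i hi) hc with e | e
      · exact ⟨false, by rw [if_neg (by simp), q0 _ (hA.kers_lt i hi)]; exact e⟩
      · exact ⟨true, by rw [if_pos rfl]; exact e⟩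
    have cxi := cx.inv ha (n := 3) hA.x_ord
    have cyi := cy.inv hb (n := 5) hA.y_ord
    have hab : ∀ a < 128, (D.gtab 7 ∘ D.gtab 9) a < 128 := fun a h' => ha _ (hb a h')
    have cxy := cx.mul cy hb
    have hxy : x * y * z = z * (x * y) := Commute.mul_left hxz hyz
    have hi3 := iterate_lt ha 3
    have hi5 := iterate_lt hb 5
    have ccom := (cxy.mul cxi hi3).mul cyi hi5
    simp only [Function.comp_assoc] at ccom
    have hcom : x * y * x⁻¹ * y⁻¹ * z = z * (x * y * x⁻¹ * y⁻¹) :=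
      Commute.mul_left (Commute.mul_left hxy (Commute.inv_left hxz)) (Commute.inv_left hyz)
    have c0 : Conj v z (x * x) (innerMap (D.kers.getD 0 0)) :=
      (cx.mul cx ha).congr fun a h' => by rw [Function.comp_apply]; exact hA.xx a h'
    have c1 : Conj v z (y * y * y) (innerMap (D.kers.getD 1 0)) :=
      ((cy.mul cy hb).mul cy hb).congr fun a h' => by
        rw [Function.comp_apply, Function.comp_apply]; exact hA.yyy a h'
    have d2 := pow_conj cxy hab 7
    have c2 : Conj v z ((x * y) ^ 7) (innerMap (D.kers.getD 2 0)) := fun a h' => by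
      rw [d2 a h', hA.p7 a h']
    have hcl : ∀ a < 128, (D.gtab 7 ∘ D.gtab 9 ∘ (D.gtab 7)^[3] ∘ (D.gtab 9)^[5]) a < 128 :=
      fun a h' => by simp only [Function.comp_apply]; exact ha _ (hb _ (hi3 _ (hi5 a h')))
    have d3 := pow_conj ccom hcl 4
    have c3 : Conj v z ((x * y * x⁻¹ * y⁻¹) ^ 4) (innerMap (D.kers.getD 3 0)) := fun a h' => by
      rw [d3 a h', hA.c4 a h']
    exact ⟨fin 0 _ (by norm_num) (Commute.mul_left hxz hxz) c0,
      fin 1 _ (by norm_num) (Commute.mul_left (Commute.mul_left hyz hyz) hyz) c1,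
      fin 2 _ (by norm_num) (Commute.pow_left hxy 7) c2,
      fin 3 _ (by norm_num) (Commute.pow_left hcom 4) c3⟩
  have hzz := h.frame.z_sq
  have hflip : ∀ (r : ℕ) (b : Bool), r < 128 →
      qe v z (qmul r (if b then 1 else 0)) * (bif b then z else 1) = qe v z r := fun r b hr => by
    rw [← h.frame.qe_mul _ hr _ (by split <;> norm_num), h.qe_bit]
    cases b <;> simp [mul_assoc, hzz]
  -- normalise the cube of the second
  obtain ⟨-, ⟨b1, e1⟩, -, -⟩ := vals x1 y1 cx cy
  have hy1z := cy.comm hD.fix_z.2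
  obtain ⟨y, cy', ey⟩ : ∃ y, Conj v z y (D.gtab 9) ∧ y * y * y = qe v z (D.kers.getD 1 0) := by
    cases b1
    · exact ⟨y1, cy, by rw [e1, ← hflip _ false (hA.kers_lt 1 (by norm_num)), cond_false, mul_one]⟩
    · refine ⟨y1 * z, conj_mul_z cy h, ?_⟩
      have hc : Commute y1 z := hy1z
      calc y1 * z * (y1 * z) * (y1 * z) = y1 * (z * y1) * z * (y1 * z) := by group
        _ = y1 * y1 * (z * z) * (y1 * z) := by rw [← hc.eq]; group
        _ = y1 * y1 * y1 * z := by rw [hzz]; group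
        _ = _ := by rw [e1]; exact hflip _ true (hA.kers_lt 1 (by norm_num))
  -- normalise the seventh power
  obtain ⟨-, -, ⟨b2, e2⟩, -⟩ := vals x1 y cx cy'
  obtain ⟨x, cx', ex⟩ : ∃ x, Conj v z x (D.gtab 7) ∧ (x * y) ^ 7 = qe v z (D.kers.getD 2 0) := by
    cases b2
    · exact ⟨x1, cx, by rw [e2, ← hflip _ false (hA.kers_lt 2 (by norm_num)), cond_false, mul_one]⟩
    · refine ⟨x1 * z, conj_mul_z cx h, ?_⟩
      have hc : Commute (x1 * y) z := Commute.mul_left (cx.comm hD.fix_z.1) (cy'.comm hD.fix_z.2)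
      have : x1 * z * y = x1 * y * z := by
        rw [mul_assoc, ← (show Commute y z from cy'.comm hD.fix_z.2).eq, mul_assoc]
      rw [this, hc.mul_pow, e2, show z ^ 7 = z by
        rw [show 7 = 2 * 3 + 1 by norm_num, pow_succ, pow_mul, pow_two, hzz, one_pow, one_mul]]
      exact hflip _ true (hA.kers_lt 2 (by norm_num))
  obtain ⟨⟨b, e0⟩, -, -, ⟨c, e3⟩⟩ := vals x y cx' cy'
  exact ⟨x, y, b, c, rels_of h.frame hD.fix_z cx' cy' e0 ey ex e3⟩

end Setting

theorem rels_congr {Q : Subgroup G} {z : G} {v : ℕ → G} {x y : G} {D D' : Mdl}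
    (h : Mdl.Rels D Q z v x y) (e : D.rels = D'.rels) : Mdl.Rels D' Q z v x y :=
  ⟨h.frame, fun r hr => h.rel r (by rw [e]; exact hr)⟩

theorem kill_false {Q : Subgroup G} {z : G} {v : ℕ → G} {x y : G} {D : Mdl} (h : Mdl.Rels D Q z v x y) (hz : z ≠ 1) {C : Cert} {top : ℕ} (hV : C.Valid)
    (hC : (List.range C.nr).map (certWord C) = D.rels)
    (hs : C.nr = C.words.length ∧ C.nl = 11 ∧
      (∀ i < 11, C.inv i = [0, 1, 2, 3, 4, 5, 6, 8, 7, 10, 9].getD i 0) ∧
      C.walk top 0 [6] = C.root top C.fuel 0 + 1) : False := by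
  refine hz ?_
  have := wp_eq_one hV hs.1 (Mdl.letters v z x y)
    (fun i hi => by rw [hs.2.1] at hi; rw [hs.2.2.1 i hi, Mdl.letters_inv h.frame x y i hi])
    (fun i hi => h.rel _ (hC ▸ List.mem_map_of_mem (List.mem_range.2 hi)))
    (fun i hi => by rw [hs.2.1]; simp at hi; omega) hs.2.2.2
  simpa [wp, Mdl.letters, qletters] using this

theorem card_sl : Nat.card (Matrix.SpecialLinearGroup (Fin 3) (ZMod 2)) = 168 := by
  have h := CfsgLib.Classical.card_units_mul_card_sl (F := ZMod 2) (n := Fin 3)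
  rw [Matrix.card_GL_field, Nat.card_units] at h
  simp [Fin.prod_univ_three] at h
  rwa [Nat.card_eq_fintype_card]

/-- An involution of `SL₃(2)`. -/
def slA : Matrix.SpecialLinearGroup (Fin 3) (ZMod 2) := ⟨!![0, 0, 1; 0, 1, 0; 1, 0, 0], by decide⟩

/-- An element of order three of `SL₃(2)`. -/
def slB : Matrix.SpecialLinearGroup (Fin 3) (ZMod 2) := ⟨!![0, 1, 1; 1, 0, 1; 0, 1, 0], by decide⟩

theorem sl_rels : slA * slA = 1 ∧ slA ≠ 1 ∧ slB * slB * slB = 1 ∧ slB ≠ 1 ∧ slA * slB ≠ 1 ∧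
    (slA * slB) ^ 7 = 1 ∧ (slA * slB * slA * (slB * slB)) ^ 4 = 1 := by decide +kernel

variable {t : G}

/-- **The centraliser is one of the four models.** -/
theorem exists_loc (ht : orderOf t = 2) (Q : Subgroup (Subgroup.centralizer ({t} : Set G))) [Q.Normal]
    (hQ : Cfsg.IsExtraspecial 2 Q) (hcard : Nat.card Q = 2 ^ 7)
    (hplus : ∃ E : Subgroup Q, Cfsg.IsElementaryAbelian 2 E ∧ Nat.card E = 2 ^ 4)
    (h2c : Subgroup.centralizer (Q : Set (Subgroup.centralizer ({t} : Set G))) ≤ Q)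
    (e : (Subgroup.centralizer ({t} : Set G)) ⧸ Q ≃* Matrix.SpecialLinearGroup (Fin 3) (ZMod 2)) :
    ∃ (Q' : Subgroup G) (v : ℕ → G) (x y : G), Mdl.Loc MA0.mdl Q' t v x y ∨
      Mdl.Loc MA1.mdl Q' t v x y ∨ Mdl.Loc MB0.mdl Q' t v x y ∨ Mdl.Loc MB1.mdl Q' t v x y := by
  classical
  have memC : ∀ g : G, g ∈ (Subgroup.centralizer ({t} : Set G)) ↔ g * t = t * g := fun g => Subgroup.mem_centralizer_singleton_iff
  set Q' : Subgroup G := Q.map (Subgroup.centralizer ({t} : Set G)).subtype with hQ'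
  let eQ : Q ≃* Q' := Q.equivMapOfInjective (Subgroup.centralizer ({t} : Set G)).subtype (Subgroup.centralizer ({t} : Set G)).subtype_injective
  have hQc : Nat.card Q' = 128 := by
    rw [hQ', Subgroup.card_map_of_injective (Subgroup.centralizer ({t} : Set G)).subtype_injective, hcard]; norm_num
  have hCcard : Nat.card (Subgroup.centralizer ({t} : Set G)) = 21504 := by
    rw [Subgroup.card_eq_card_quotient_mul_card_subgroup Q, Nat.card_congr e.toEquiv, card_sl, hcard]
    norm_num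
  have htC : t ∈ (Subgroup.centralizer ({t} : Set G)) := (memC t).2 rfl
  have htQ : (⟨t, htC⟩ : (Subgroup.centralizer ({t} : Set G))) ∈ Q := h2c (Subgroup.mem_centralizer_iff.2 fun q _ =>
    Subtype.ext ((memC q).1 q.2))
  have ht' : t ∈ Q' := ⟨_, htQ, rfl⟩
  obtain ⟨z₀, hz₀⟩ := exists_extra (CfsgLib.ThreeTransp.Simplicity.isExtraspecial_of_equiv eQ hQ)
  have hz : Extra Q' t := by
    rcases hz₀.mem_center_cases ht' (fun q hq => by
      obtain ⟨q, -, rfl⟩ := hq
      exact ((memC q).1 q.2).symm) with h | h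
    · rw [h, orderOf_one] at ht; norm_num at ht
    · exact h ▸ hz₀
  obtain ⟨v, hv⟩ := exists_frame hz hQc (by
    obtain ⟨E, hE, hEc⟩ := hplus
    refine ⟨E.map eQ.toMonoidHom, ?_, ?_⟩
    · obtain ⟨h1, h2⟩ := hE
      haveI := h1
      refine ⟨⟨⟨fun a b => ?_⟩⟩, ?_⟩
      · obtain ⟨a', ha, hae⟩ := a.2
        obtain ⟨b', hb, hbe⟩ := b.2
        apply Subtype.ext
        simp only [Subgroup.coe_mul, ← hae, ← hbe, ← map_mul]
        exact congrArg _ (congrArg Subtype.val (mul_comm' (⟨a', ha⟩ : E) ⟨b', hb⟩))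
      · rintro _ ⟨a, ha, rfl⟩
        rw [← map_pow, h2 a ha, map_one]
    · rw [Subgroup.card_map_of_injective eQ.injective, hEc]; norm_num)
  have hnorm : ∀ g : G, g * t = t * g → ∀ q ∈ Q', g * q * g⁻¹ ∈ Q' := by
    rintro g hg _ ⟨q, hq, rfl⟩
    exact ⟨⟨g, (memC g).2 hg⟩ * q * (⟨g, (memC g).2 hg⟩)⁻¹, ‹Q.Normal›.conj_mem q hq _, rfl⟩
  have hcent : ∀ g : G, g * t = t * g → (∀ q ∈ Q', g * q = q * g) → g ∈ Q' := by
    intro g hg hc
    exact ⟨⟨g, (memC g).2 hg⟩, h2c (Subgroup.mem_centralizer_iff.2 fun q hq =>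
      Subtype.ext (hc q ⟨q, hq, rfl⟩).symm), rfl⟩
  have hS : Setting Q' t v := ⟨hv, hz, hQc, hnorm, hcent⟩
  let π : (Subgroup.centralizer ({t} : Set G)) →* Perm (Fin 8) :=
    MonoidHom.mk' (fun g => Setting.perm v t g) fun g k => hS.perm_mul ((memC g).1 g.2) ((memC k).1 k.2)
  let p : (Subgroup.centralizer ({t} : Set G)) →* Matrix.SpecialLinearGroup (Fin 3) (ZMod 2) := e.toMonoidHom.comp (QuotientGroup.mk' Q)
  have hp : ∀ g : (Subgroup.centralizer ({t} : Set G)), p g = 1 ↔ g ∈ Q := fun g => by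
    show e (QuotientGroup.mk' Q g) = 1 ↔ _
    rw [e.map_eq_one_iff, QuotientGroup.mk'_apply, QuotientGroup.eq_one_iff]
  have hπQ : ∀ g : (Subgroup.centralizer ({t} : Set G)), p g = 1 → π g = 1 := fun g hg => hS.perm_of_mem ⟨g, (hp g).1 hg, rfl⟩
  have hπker : ∀ g : (Subgroup.centralizer ({t} : Set G)), π g = 1 → p g = 1 := by
    intro g hg
    have hgz := (memC g).1 g.2
    have hphi : ∀ i < 6, Setting.phi v t g (2 ^ i) = id (2 ^ (i + 1)) / 2 := fun i hi => by
      have hw : 2 ^ i < 64 := lt_of_lt_of_le (Nat.pow_lt_pow_right (by norm_num) hi) le_rfl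
      rw [hS.perm_spec hgz _ hw, show Setting.perm v t (g : G) = π g from rfl, hg, act_one hw, id,
        pow_succ, Nat.mul_div_cancel _ two_pos]
    obtain ⟨q, hq, hc⟩ := hS.exists_conj_fix hgz (f := id) (fun a ha => ha)
      (fun i _ a _ => rfl) rfl rfl hphi
    have hmem : (g : G) * q ∈ Q' := hcent _ (hc.comm rfl) fun r hr => by
      obtain ⟨a, ha, rfl⟩ := hv.qe_surj hz.z_ne hQc hr
      exact hc a ha
    have hg' : (g : G) ∈ Q' := by
      have := Q'.mul_mem hmem (Q'.inv_mem hq)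
      rwa [mul_inv_cancel_right] at this
    obtain ⟨g', hg', he⟩ := hg'
    exact (hp g).2 ((Subgroup.centralizer ({t} : Set G)).subtype_injective he ▸ hg')
  obtain ⟨a, ha⟩ := (e.surjective.comp (QuotientGroup.mk'_surjective Q)) slA
  obtain ⟨b, hb⟩ := (e.surjective.comp (QuotientGroup.mk'_surjective Q)) slB
  have ha' : p a = slA := ha
  have hb' : p b = slB := hb
  obtain ⟨s1, s2, s3, s4, s5, s6, s7⟩ := sl_rels
  have hbi : p b⁻¹ = slB * slB := by
    rw [map_inv, hb']
    exact inv_eq_of_mul_eq_one_right (by rw [← mul_assoc, s3])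
  have f1 : π a * π a = 1 := by rw [← map_mul]; exact hπQ _ (by rw [map_mul, ha', s1])
  have f2 : π a ≠ 1 := fun h => s2 (ha' ▸ hπker a h)
  have f3 : π b * π b * π b = 1 := by
    rw [← map_mul, ← map_mul]; exact hπQ _ (by rw [map_mul, map_mul, hb', s3])
  have f4 : π b ≠ 1 := fun h => s4 (hb' ▸ hπker b h)
  have f5 : π a * π b ≠ 1 := fun h => s5 (by
    rw [← map_mul] at h
    have := hπker _ h
    rwa [map_mul, ha', hb'] at this)
  have f6 : (π a * π b) ^ 7 = 1 := by
    rw [← map_mul, ← map_pow]; exact hπQ _ (by rw [map_pow, map_mul, ha', hb', s6])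
  have f7 : (π a * π b * π a * (π b)⁻¹) ^ 4 = 1 := by
    rw [← map_inv, ← map_mul, ← map_mul, ← map_mul, ← map_pow]
    exact hπQ _ (by rw [map_pow, map_mul, map_mul, map_mul, ha', hb', hbi, s7])
  obtain ⟨k, σ, hk, hσa, hσb⟩ := exists_class f1 f2 f3 f4 f5 f6 f7
  obtain ⟨b', hb2⟩ : ∃ b' : (Subgroup.centralizer ({t} : Set G)), π b' = σ * clY k * σ⁻¹ := by
    rcases hσb with h | h
    exacts [⟨b, h⟩, ⟨b⁻¹, by rw [map_inv, h]⟩]
  obtain ⟨v', hS', hv'⟩ := hS.exists_frame_act σ
  have hphi : ∀ (g : (Subgroup.centralizer ({t} : Set G))) (τ : Perm (Fin 8)), π g = σ * τ * σ⁻¹ →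
      ∀ i < 6, Setting.phi v' t g (2 ^ i) = act τ (2 ^ i) := by
    intro g τ hg i hi
    have hw : 2 ^ i < 64 := lt_of_lt_of_le (Nat.pow_lt_pow_right (by norm_num) hi) le_rfl
    have hgz := (memC g).1 g.2
    have h2w : 2 * 2 ^ i < 128 := by omega
    obtain ⟨hc, hce⟩ := hS'.cod_spec (hnorm g hgz _ (hS'.frame.qe_mem (2 * 2 ^ i)))
    set c := Setting.cod v' t ((g : G) * qe v' t (2 * 2 ^ i) * (g : G)⁻¹)
    have h1 := hv' c hc
    obtain ⟨hd, hde⟩ := hS.cod_spec (hS'.frame.qe_mem (Q := Q') (2 * 2 ^ i))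
    have h2 := hS.phi_code hgz hd
    rw [hde, hv' _ h2w, Nat.mul_div_cancel_left _ two_pos, ← hce, h1,
      hS.perm_spec hgz _ (act_lt _ hw), show Setting.perm v t (g : G) = π g from rfl, hg,
      ← act_mul _ _ hw, show σ * τ * σ⁻¹ * σ = σ * τ by group, act_mul _ _ hw] at h2
    have h3 := congrArg (act σ⁻¹) h2
    rw [← act_mul _ _ (show c / 2 < 64 by omega), ← act_mul _ _ (act_lt _ hw), inv_mul_cancel,
      act_one (show c / 2 < 64 by omega), act_one (act_lt _ hw)] at h3
    exact h3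
  have haz := (memC a).1 a.2
  have hbz := (memC b').1 b'.2
  have loc : ∀ {D : Mdl} {x y : G}, Mdl.Rels D Q' t v' x y → Mdl.Loc D Q' t v' x y :=
    fun h => ⟨h, hz.z_ne, hQc, hCcard⟩
  obtain rfl | rfl : k = 1 ∨ k = 2 := (by decide : ∀ k : Fin 3, k ≠ 0 → k = 1 ∨ k = 2) k hk
  · obtain ⟨x, y, c, d, hr⟩ := hS'.exists_model MB0.good actB haz hbz (hphi a _ hσa) (hphi b' _ hb2)
    cases c <;> cases d
    · exact ⟨Q', v', x, y, Or.inr (Or.inr (Or.inl (loc (rels_congr hr (by decide +kernel)))))⟩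
    · exact (kill_false hr hz.z_ne killB01_valid (by rw [killB01_rels]; decide +kernel) killB01_shape).elim
    · exact (kill_false hr hz.z_ne killB10_valid (by rw [killB10_rels]; decide +kernel) killB10_shape).elim
    · exact ⟨Q', v', x, y, Or.inr (Or.inr (Or.inr (loc (rels_congr hr (by decide +kernel)))))⟩
  · obtain ⟨x, y, c, d, hr⟩ := hS'.exists_model MA0.good actA haz hbz (hphi a _ hσa) (hphi b' _ hb2)
    cases c <;> cases d
    · exact ⟨Q', v', x, y, Or.inl (loc (rels_congr hr (by decide +kernel)))⟩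
    · exact (kill_false hr hz.z_ne killA01_valid (by rw [killA01_rels]; decide +kernel) killA01_shape).elim
    · exact (kill_false hr hz.z_ne killA10_valid (by rw [killA10_rels]; decide +kernel) killA10_shape).elim
    · exact ⟨Q', v', x, y, Or.inr (Or.inl (loc (rels_congr hr (by decide +kernel))))⟩

end CfsgLib.Sporadic.HeldUnique
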