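import Mathlib.GroupTheory.Index
import Mathlib.GroupTheory.OrderOfElement
import Mathlib.Data.Set.Card
import Mathlib.GroupTheory.Coset.Card
import Mathlib.Tactic

/-!
# Two four-groups of linear type: the counting argument

The conjugates of a normal sixteen-group `W` meet trivially, and those reached by the group
generated by the centraliser of `z` and two further elements are at most 31 and at least 22 in
number, which no divisor of 12495 is.
-/

set_option autoImplicit false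
set_option linter.style.haveILetI false
set_option linter.unusedSectionVars false

namespace CfsgLib.Sporadic.HeldUnique.LinKill

variable {G : Type*} [Group G]

/-- The conjugate of `W` by `a`. -/
def pt (W : Subgroup G) (a : G) : Subgroup G := W.map (MulAut.conj a).toMonoidHom

theorem mem_pt {W : Subgroup G} {a x : G} : x ∈ pt W a ↔ a⁻¹ * x * a ∈ W := by
  constructor
  · rintro ⟨w, hw, rfl⟩
    simpa [mul_assoc] using hw
  · exact fun h => ⟨_, h, by simp [mul_assoc]⟩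

theorem conj_mem_pt {W : Subgroup G} (a : G) {w : G} (hw : w ∈ W) : a * w * a⁻¹ ∈ pt W a :=
  ⟨w, hw, rfl⟩

theorem pt_one (W : Subgroup G) : pt W 1 = W := by
  ext x; simp [mem_pt]

theorem pt_mul_congr {W : Subgroup G} {a b : G} (g : G) (h : pt W a = pt W b) :
    pt W (g * a) = pt W (g * b) := by
  ext x
  rw [mem_pt, mem_pt, show (g * a)⁻¹ * x * (g * a) = a⁻¹ * (g⁻¹ * x * g) * a by group,
    show (g * b)⁻¹ * x * (g * b) = b⁻¹ * (g⁻¹ * x * g) * b by group, ← mem_pt, h, mem_pt]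

theorem pt_mul_right {W : Subgroup G} (a : G) {n : G} (hn : pt W n = W) : pt W (a * n) = pt W a := by
  have := pt_mul_congr a (hn.trans (pt_one W).symm)
  rwa [mul_one] at this

theorem pt_eq_self [Finite G] {W : Subgroup G} {a : G} (h : ∀ w ∈ W, a * w * a⁻¹ ∈ W) :
    pt W a = W := by
  refine Subgroup.eq_of_le_of_card_ge ?_ (le_of_eq ?_)
  · rintro _ ⟨w, hw, rfl⟩
    exact h w hw
  · rw [pt, Subgroup.card_map_of_injective (MulAut.conj a).injective]

theorem commute_conj_iff (g : G) {a b : G} : Commute (g * a * g⁻¹) (g * b * g⁻¹) ↔ Commute a b :=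
  Commute.conj_iff g

theorem pt_congr_of_conj [Finite G] {W : Subgroup G} {z r Y' c d : G}
    (hn : ∀ c, Commute c z → ∀ w ∈ W, c * w * c⁻¹ ∈ W) (hz : Y' * z * Y'⁻¹ = r)
    (h : c * r * c⁻¹ = d * r * d⁻¹) : pt W (c * Y') = pt W (d * Y') := by
  have hc : Commute ((d * Y')⁻¹ * (c * Y')) z := by
    rw [← hz] at h
    rw [commute_iff_eq, ← mul_inv_eq_iff_eq_mul]
    rw [show (d * Y')⁻¹ * (c * Y') * z * ((d * Y')⁻¹ * (c * Y'))⁻¹ =
      (d * Y')⁻¹ * (c * (Y' * z * Y'⁻¹) * c⁻¹) * (d * Y') by group, h]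
    group
  calc pt W (c * Y') = pt W (d * Y' * ((d * Y')⁻¹ * (c * Y'))) := by rw [mul_inv_cancel_left]
    _ = pt W (d * Y') := pt_mul_right _ (pt_eq_self (hn _ hc))

/-- The data of the argument. -/
structure Data (W : Subgroup G) (z s r Y Y' e : G) (L : List (G × G)) : Prop where
  z_ne : z ≠ 1
  z_mem : z ∈ W
  s_mem : s ∈ W
  z_sq : z * z = 1
  s_sq : s * s = 1
  card_W : Nat.card W = 16
  W_comm : ∀ w ∈ W, Commute w z
  norm : ∀ c, Commute c z → ∀ w ∈ W, c * w * c⁻¹ ∈ W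
  norm_Y : ∀ w ∈ W, Y * w * Y⁻¹ ∈ W
  trans : ∀ w ∈ W, w ≠ 1 → w ≠ z → ∃ c, Commute c z ∧ c * s * c⁻¹ = w
  Y_z : Y * z * Y⁻¹ = s
  Y_s : Y * s * Y⁻¹ = z * s
  r_z : Commute r z
  r_nmem : r ∉ W
  Y'_z : Y' * z * Y'⁻¹ = r
  Y'_r : Y' * r * Y'⁻¹ = z * r
  e_z : Commute e z
  half : 8 ≤ Nat.card {w : G // w ∈ W ∧ Commute w r}
  fibre : ∀ c, Commute c z → ∀ x ∈ pt W (c * Y'), x ≠ 1 → Commute x z →
    (∀ w ∈ W, Commute w r → Commute x w) → c * r * c⁻¹ = r ∨ c * r * c⁻¹ = e * r * e⁻¹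
  over_s : ∀ c, Commute c z → Commute (c * r * c⁻¹) s →
    ∃ t ∈ pt W (c * Y'), t ≠ 1 ∧ Y * t * Y⁻¹ ∈ pt W (c * Y')
  step : ∀ c, Commute c z → ∃ t ∈ pt W (c * Y'), t ≠ 1 ∧
    (Y' * t * Y'⁻¹ ∈ W ∨ ∃ d, Commute d z ∧ Y' * t * Y'⁻¹ ∈ pt W (d * Y'))
  hyper : ∀ c₁ c₂, Commute c₁ z → Commute c₂ z → ¬ Commute (c₂ * r * c₂⁻¹) s →
    ∃ p ∈ L, ∀ w ∈ W, Commute w r → ∃ w' ∈ W, Commute w' r ∧
      c₁ * Y * c₂ * w * (c₁ * Y * c₂)⁻¹ = p.1 * Y * p.2 * w' * (p.1 * Y * p.2)⁻¹
  L_spec : ∀ p ∈ L, Commute p.1 z ∧ Commute p.1 r ∧ Commute p.2 z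
  L_len : L.length ≤ 8
  kick : Y' * Y * z * (Y' * Y)⁻¹ = Y * Y' * z * (Y * Y')⁻¹
  inj : ∀ c, Commute c z → c * r * c⁻¹ ∈ pt W Y' → c * r * c⁻¹ = r
  card_orbit : Nat.card {u : G // ∃ c, Commute c z ∧ c * r * c⁻¹ = u} = 14
  fresh : ∃ c, Commute c z ∧ ∀ t ∈ pt W (c * Y'), Commute t z → Commute t s → t = 1
  seven : ∃ c ∈ Subgroup.closure {g : G | Commute g z ∧ g ^ 7 = 1}, c * s * c⁻¹ = z * s

namespace Data

variable [Finite G] {W : Subgroup G} {z s r Y Y' e : G} {L : List (G × G)}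

theorem pt_C (h : Data W z s r Y Y' e L) {c : G} (hc : Commute c z) : pt W c = W :=
  pt_eq_self (h.norm c hc)

theorem pt_Y (h : Data W z s r Y Y' e L) : pt W Y = W := pt_eq_self h.norm_Y

theorem pt_CY (h : Data W z s r Y Y' e L) {c : G} (hc : Commute c z) : pt W (c * Y) = W := by
  rw [pt_mul_right c h.pt_Y, h.pt_C hc]

theorem pt_CYC (h : Data W z s r Y Y' e L) {c d : G} (hc : Commute c z) (hd : Commute d z) :
    pt W (c * Y * d) = W := by
  rw [pt_mul_right _ (h.pt_C hd), h.pt_CY hc]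

theorem sz (h : Data W z s r Y Y' e L) : Commute s z := h.W_comm s h.s_mem

theorem Y_zs (h : Data W z s r Y Y' e L) : Y * (z * s) * Y⁻¹ = z := by
  rw [← conj_mul, h.Y_z, h.Y_s, ← mul_assoc, h.sz.eq, mul_assoc, h.s_sq, mul_one]

theorem r_mem (h : Data W z s r Y Y' e L) (c : G) : c * r * c⁻¹ ∈ pt W (c * Y') := by
  rw [← h.Y'_z, show c * (Y' * z * Y'⁻¹) * c⁻¹ = c * Y' * z * (c * Y')⁻¹ by group]
  exact conj_mem_pt _ h.z_mem

theorem r_ne (h : Data W z s r Y Y' e L) (c : G) : c * r * c⁻¹ ≠ 1 := fun e =>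
  h.r_nmem (by rw [conj_eq_one_iff.1 e]; exact one_mem W)

theorem exists_norm (h : Data W z s r Y Y' e L) {w : G} (hw : w ∈ W) (hw1 : w ≠ 1) :
    ∃ n, pt W n = W ∧ n * z * n⁻¹ = w := by
  by_cases hwz : w = z
  · exact ⟨1, pt_one W, by simp [hwz]⟩
  obtain ⟨c, hc, rfl⟩ := h.trans w hw hw1 hwz
  exact ⟨c * Y, h.pt_CY hc, by rw [← h.Y_z]; group⟩

theorem pt_unique (h : Data W z s r Y Y' e L) {a b x : G} (ha : x ∈ pt W a) (hb : x ∈ pt W b)
    (hx : x ≠ 1) : pt W a = pt W b := by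
  obtain ⟨n, hn, hna⟩ := h.exists_norm (mem_pt.1 ha) (by
    intro e; exact hx (by simpa [mul_assoc] using congrArg (fun y => a * y * a⁻¹) e))
  obtain ⟨m, hm, hmb⟩ := h.exists_norm (mem_pt.1 hb) (by
    intro e; exact hx (by simpa [mul_assoc] using congrArg (fun y => b * y * b⁻¹) e))
  have e1 : a * n * z * (a * n)⁻¹ = x := by
    rw [show a * n * z * (a * n)⁻¹ = a * (n * z * n⁻¹) * a⁻¹ by group, hna]; group
  have e2 : b * m * z * (b * m)⁻¹ = x := by
    rw [show b * m * z * (b * m)⁻¹ = b * (m * z * m⁻¹) * b⁻¹ by group, hmb]; group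
  have hc : Commute ((b * m)⁻¹ * (a * n)) z := by
    have := e1.trans e2.symm
    rw [mul_inv_eq_iff_eq_mul] at this
    rw [commute_iff_eq, mul_assoc _ (a * n) z, this]
    group
  calc pt W a = pt W (a * n) := (pt_mul_right a hn).symm
    _ = pt W (b * m * ((b * m)⁻¹ * (a * n))) := by rw [mul_inv_cancel_left]
    _ = pt W (b * m) := pt_mul_right _ (h.pt_C hc)
    _ = pt W b := pt_mul_right b hm

theorem pt_of_conj_eq (h : Data W z s r Y Y' e L) {c d : G} (hcd : c * r * c⁻¹ = d * r * d⁻¹) :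
    pt W (c * Y') = pt W (d * Y') :=
  h.pt_unique (h.r_mem c) (hcd ▸ h.r_mem d) (h.r_ne c)

theorem mem_pt_mul {a g t : G} (ht : t ∈ pt W a) : g * t * g⁻¹ ∈ pt W (g * a) := by
  rw [mem_pt] at ht ⊢
  simpa [mul_assoc] using ht

theorem over_eq (h : Data W z s r Y Y' e L) {c : G} (hc : Commute c z) (hs : Commute (c * r * c⁻¹) s) :
    pt W (Y * c * Y') = pt W (c * Y') := by
  obtain ⟨t, ht, ht1, ht'⟩ := h.over_s c hc hs
  rw [mul_assoc]
  exact h.pt_unique (mem_pt_mul ht) ht' fun e => ht1 (conj_eq_one_iff.1 e)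

theorem step_eq (h : Data W z s r Y Y' e L) {c : G} (hc : Commute c z) :
    pt W (Y' * c * Y') = W ∨ ∃ d, Commute d z ∧ pt W (Y' * c * Y') = pt W (d * Y') := by
  obtain ⟨t, ht, ht1, ht'⟩ := h.step c hc
  have hne : Y' * t * Y'⁻¹ ≠ 1 := fun e => ht1 (conj_eq_one_iff.1 e)
  rw [mul_assoc]
  rcases ht' with ht' | ⟨d, hd, ht'⟩
  · exact Or.inl ((h.pt_unique (mem_pt_mul ht) ((pt_one W).symm ▸ ht') hne).trans (pt_one W))
  · exact Or.inr ⟨d, hd, h.pt_unique (mem_pt_mul ht) ht' hne⟩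

theorem norm_form (h : Data W z s r Y Y' e L) {n : G} (hn : pt W n = W) :
    Commute n z ∨ ∃ c₁ c₂, Commute c₁ z ∧ Commute c₂ z ∧ n = c₁ * Y * c₂ := by
  have hw : n * z * n⁻¹ ∈ W := hn ▸ conj_mem_pt n h.z_mem
  by_cases hwz : n * z * n⁻¹ = z
  · exact Or.inl (mul_inv_eq_iff_eq_mul.1 hwz)
  obtain ⟨c, hc, hcs⟩ := h.trans _ hw (fun e => h.z_ne (conj_eq_one_iff.1 e)) hwz
  refine Or.inr ⟨c, (c * Y)⁻¹ * n, hc, ?_, by group⟩
  rw [← h.Y_z] at hcs
  rw [commute_iff_eq, ← mul_inv_eq_iff_eq_mul]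
  rw [show (c * Y)⁻¹ * n * z * ((c * Y)⁻¹ * n)⁻¹ = (c * Y)⁻¹ * (n * z * n⁻¹) * (c * Y) by group, ← hcs]
  group

theorem s_of_zs (h : Data W z s r Y Y' e L) {x : G} (hx : Commute x (z * s)) (hxz : Commute x z) :
    Commute x s := by
  have := hxz.mul_right hx
  rwa [← mul_assoc, h.z_sq, one_mul] at this

/-- The points over the hyperplane `W ∩ C(r)`. -/
theorem fibre_two (h : Data W z s r Y Y' e L) {n : G} (hn : pt W n = W)
    (hU : ∀ w ∈ W, Commute w r → n * w * n⁻¹ ∈ W ∧ Commute (n * w * n⁻¹) r) :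
    pt W (n * Y') = pt W Y' ∨ pt W (n * Y') = pt W (e * Y') := by
  classical
  have hback : ∀ w ∈ W, Commute w r → Commute (n⁻¹ * w * n) r := by
    intro w hw hwr
    let f : {w : G // w ∈ W ∧ Commute w r} → {w : G // w ∈ W ∧ Commute w r} :=
      fun a => ⟨n * a.1 * n⁻¹, hU a.1 a.2.1 a.2.2⟩
    obtain ⟨⟨a, ha⟩, hfa⟩ := (Finite.injective_iff_surjective (f := f)).1
      (fun a b hab => Subtype.ext (by simpa [f] using congrArg Subtype.val hab)) ⟨w, hw, hwr⟩
    have : n * a * n⁻¹ = w := congrArg Subtype.val hfa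
    rw [← this, show n⁻¹ * (n * a * n⁻¹) * n = a by group]
    exact ha.2
  have hcomm : ∀ w ∈ W, Commute w r → Commute (n * r * n⁻¹) w := fun w hw hwr => by
    have := (commute_conj_iff n).2 (hback w hw hwr).symm
    rwa [show n * (n⁻¹ * w * n) * n⁻¹ = w by group] at this
  have hxz : Commute (n * r * n⁻¹) z := hcomm z h.z_mem h.r_z.symm
  obtain ⟨c, hc, hpt⟩ : ∃ c, Commute c z ∧ pt W (n * Y') = pt W (c * Y') := by
    rcases h.norm_form hn with hnz | ⟨c₁, c₂, h₁, h₂, rfl⟩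
    · exact ⟨n, hnz, rfl⟩
    have hs : Commute (c₂ * r * c₂⁻¹) s := by
      have h5 := (commute_conj_iff c₁⁻¹).2 hxz
      rw [show c₁⁻¹ * (c₁ * Y * c₂ * r * (c₁ * Y * c₂)⁻¹) * c₁⁻¹⁻¹ = Y * (c₂ * r * c₂⁻¹) * Y⁻¹ by group,
        show c₁⁻¹ * z * c₁⁻¹⁻¹ = z by rw [(h₁.inv_left).eq]; group, ← h.Y_zs, commute_conj_iff] at h5
      refine h.s_of_zs h5 ?_
      exact (h₂.mul_left h.r_z).mul_left h₂.inv_left
    refine ⟨c₁ * c₂, h₁.mul_left h₂, ?_⟩
    rw [show c₁ * Y * c₂ * Y' = c₁ * (Y * c₂ * Y') by group,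
      pt_mul_congr c₁ (h.over_eq h₂ hs), ← mul_assoc]
  have hrn : n * r * n⁻¹ ∈ pt W (c * Y') := hpt ▸ h.r_mem n
  rcases h.fibre c hc _ hrn (h.r_ne n) hxz hcomm with e1 | e1
  · exact Or.inl (hpt.trans (by
      rw [h.pt_of_conj_eq (c := c) (d := 1) (by simpa using e1), one_mul]))
  · exact Or.inr (hpt.trans (h.pt_of_conj_eq e1))

/-- The points at distance one from `W`. -/
theorem near (h : Data W z s r Y Y' e L) {n : G} (hn : pt W n = W) :
    (∃ c, Commute c z ∧ pt W (n * Y') = pt W (c * Y')) ∨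
      ∃ p ∈ L, pt W (n * Y') = pt W (p.1 * Y * p.2 * Y') ∨
        pt W (n * Y') = pt W (p.1 * Y * p.2 * e * Y') := by
  rcases h.norm_form hn with hnz | ⟨c₁, c₂, h₁, h₂, rfl⟩
  · exact Or.inl ⟨n, hnz, rfl⟩
  by_cases hs : Commute (c₂ * r * c₂⁻¹) s
  · refine Or.inl ⟨c₁ * c₂, h₁.mul_left h₂, ?_⟩
    rw [show c₁ * Y * c₂ * Y' = c₁ * (Y * c₂ * Y') by group, pt_mul_congr c₁ (h.over_eq h₂ hs),
      ← mul_assoc]
  obtain ⟨p, hp, hpw⟩ := h.hyper c₁ c₂ h₁ h₂ hs
  obtain ⟨hp1, -, hp2⟩ := h.L_spec p hp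
  set m := p.1 * Y * p.2 with hm
  have hmW : pt W m = W := h.pt_CYC hp1 hp2
  have hk : pt W (m⁻¹ * (c₁ * Y * c₂)) = W := by
    rw [pt_mul_congr m⁻¹ ((h.pt_CYC h₁ h₂).trans hmW.symm), inv_mul_cancel, pt_one]
  refine Or.inr ⟨p, hp, ?_⟩
  have := h.fibre_two hk fun w hw hwr => by
    obtain ⟨w', hw', hwr', e'⟩ := hpw w hw hwr
    rw [show m⁻¹ * (c₁ * Y * c₂) * w * (m⁻¹ * (c₁ * Y * c₂))⁻¹ =
      m⁻¹ * (c₁ * Y * c₂ * w * (c₁ * Y * c₂)⁻¹) * m by group, e']
    refine ⟨?_, ?_⟩ <;> rw [show m⁻¹ * (m * w' * m⁻¹) * m = w' by group]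
    exacts [hw', hwr']
  rcases this with e' | e'
  · have := pt_mul_congr m e'
    rw [show m * (m⁻¹ * (c₁ * Y * c₂) * Y') = c₁ * Y * c₂ * Y' by group] at this
    exact Or.inl this
  · have := pt_mul_congr m e'
    rw [show m * (m⁻¹ * (c₁ * Y * c₂) * Y') = c₁ * Y * c₂ * Y' by group, ← mul_assoc] at this
    exact Or.inr this

/-- The candidates: `W` and the points at distance one from it. -/
def Cand (W : Subgroup G) (Y' a : G) : Prop :=
  pt W a = W ∨ ∃ n, pt W n = W ∧ pt W a = pt W (n * Y')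

theorem cand_norm {Y' g a : G} (hg : pt W g = W) (ha : Cand W Y' a) : Cand W Y' (g * a) := by
  rcases ha with ha | ⟨n, hn, ha⟩
  · exact Or.inl (by rw [pt_mul_right g ha, hg])
  · exact Or.inr ⟨g * n, by rw [pt_mul_right g hn, hg], by rw [mul_assoc]; exact pt_mul_congr g ha⟩

theorem cand_Y' (h : Data W z s r Y Y' e L) {a : G} (ha : Cand W Y' a) : Cand W Y' (Y' * a) := by
  have hC : ∀ c, Commute c z → Cand W Y' (Y' * c * Y') := fun c hc => by
    rcases h.step_eq hc with e' | ⟨d, hd, e'⟩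
    · exact Or.inl e'
    · exact Or.inr ⟨d, h.pt_C hd, e'⟩
  rcases ha with ha | ⟨n, hn, ha⟩
  · exact Or.inr ⟨1, pt_one W, by rw [pt_mul_right Y' ha, one_mul]⟩
  suffices Cand W Y' (Y' * (n * Y')) by
    rcases this with e' | ⟨m, hm, e'⟩
    · exact Or.inl ((pt_mul_congr Y' ha).trans e')
    · exact Or.inr ⟨m, hm, (pt_mul_congr Y' ha).trans e'⟩
  have hcongr : ∀ x, pt W (n * Y') = pt W x → Cand W Y' (Y' * x) → Cand W Y' (Y' * (n * Y')) := by
    rintro x hx (e' | ⟨m, hm, e'⟩)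
    · exact Or.inl ((pt_mul_congr Y' hx).trans e')
    · exact Or.inr ⟨m, hm, (pt_mul_congr Y' hx).trans e'⟩
  rcases h.near hn with ⟨c, hc, hx⟩ | ⟨p, hp, hx⟩
  · exact hcongr _ hx (by rw [← mul_assoc]; exact hC c hc)
  obtain ⟨hp1, hp1r, hp2⟩ := h.L_spec p hp
  have hfar : ∀ q, Commute q z → Cand W Y' (Y' * (p.1 * Y * q * Y')) := by
    intro q hq
    obtain ⟨k, hk⟩ : ∃ k, k = (Y * Y')⁻¹ * (Y' * Y) := ⟨_, rfl⟩
    have hkz : Commute k z := by
      rw [commute_iff_eq, ← mul_inv_eq_iff_eq_mul, hk,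
        show (Y * Y')⁻¹ * (Y' * Y) * z * ((Y * Y')⁻¹ * (Y' * Y))⁻¹ =
          (Y * Y')⁻¹ * (Y' * Y * z * (Y' * Y)⁻¹) * (Y * Y') by group, h.kick]
      group
    have hp1' : Commute (Y' * p.1 * Y'⁻¹) z := by
      have h3 := (commute_conj_iff Y').2 hp1
      have h4 := (commute_conj_iff Y').2 hp1r
      rw [h.Y'_z] at h3
      rw [h.Y'_r] at h4
      have := h4.mul_right h3.inv_right
      rwa [mul_inv_cancel_right] at this
    have := cand_norm (h.pt_CY hp1') (hC (k * q) (hkz.mul_left hq))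
    convert this using 1
    rw [hk]; group
  rcases hx with hx | hx
  · exact hcongr _ hx (hfar p.2 hp2)
  · exact hcongr _ hx (by
      have := hfar (p.2 * e) (hp2.mul_left h.e_z)
      simpa [mul_assoc] using this)

/-- The group generated by `C(z)`, `Y` and `Y'`. -/
def gen (z Y Y' : G) : Subgroup G :=
  Subgroup.closure ((Subgroup.centralizer ({z} : Set G) : Set G) ∪ {Y, Y'})

theorem mem_gen_C {z Y Y' c : G} (hc : Commute c z) : c ∈ gen z Y Y' :=
  Subgroup.subset_closure (Or.inl (Subgroup.mem_centralizer_singleton_iff.2 hc.eq))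

theorem mem_gen_Y {z Y Y' : G} : Y ∈ gen z Y Y' :=
  Subgroup.subset_closure (Or.inr (Set.mem_insert _ _))

theorem mem_gen_Y' {z Y Y' : G} : Y' ∈ gen z Y Y' :=
  Subgroup.subset_closure (Or.inr (Set.mem_insert_of_mem _ rfl))

theorem cand_gen (h : Data W z s r Y Y' e L) {g : G} (hg : g ∈ gen z Y Y') : Cand W Y' g := by
  suffices ∀ a, Cand W Y' a → Cand W Y' (g * a) by
    simpa using this 1 (Or.inl (pt_one W))
  induction hg using Subgroup.closure_induction with
  | mem x hx =>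
    rcases hx with hx | rfl | rfl
    · exact fun a => cand_norm (h.pt_C (Subgroup.mem_centralizer_singleton_iff.1 hx))
    · exact fun a => cand_norm h.pt_Y
    · exact fun a => h.cand_Y'
  | one => intro a ha; rwa [one_mul]
  | mul x y _ _ hx hy => intro a ha; rw [mul_assoc]; exact hx _ (hy a ha)
  | inv x _ hx =>
    intro a ha
    obtain ⟨k, hk⟩ : ∃ k : ℕ, x⁻¹ = x ^ k := ⟨orderOf x - 1, by
      rw [inv_eq_iff_mul_eq_one, ← pow_succ', Nat.sub_add_cancel (orderOf_pos x), pow_orderOf_eq_one]⟩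
    rw [hk]
    clear hk
    induction k with
    | zero => rwa [pow_zero, one_mul]
    | succ k ih => rw [pow_succ', mul_assoc]; exact hx _ ih

/-- The elements fixing `W`. -/
def stab (W : Subgroup G) : Subgroup G where
  carrier := {g | pt W g = W}
  one_mem' := pt_one W
  mul_mem' := fun {a b} ha hb => (pt_mul_right a hb).trans ha
  inv_mem' := fun {a} ha => by
    have := pt_mul_congr a⁻¹ (ha.trans (pt_one W).symm)
    rw [inv_mul_cancel, mul_one, pt_one] at this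
    exact this.symm

theorem stab_le (h : Data W z s r Y Y' e L) : stab W ≤ gen z Y Y' := fun n hn => by
  rcases h.norm_form hn with hnz | ⟨c₁, c₂, h₁, h₂, rfl⟩
  · exact mem_gen_C hnz
  · exact mul_mem (mul_mem (mem_gen_C h₁) mem_gen_Y) (mem_gen_C h₂)

theorem card_stab (h : Data W z s r Y Y' e L) :
    Nat.card (stab W) = 15 * Nat.card (Subgroup.centralizer ({z} : Set G)) := by
  classical
  have hle : Subgroup.centralizer ({z} : Set G) ≤ stab W := fun c hc =>
    h.pt_C (Subgroup.mem_centralizer_singleton_iff.1 hc)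
  rw [← Nat.card_congr (Subgroup.subgroupOfEquivOfLe hle).toEquiv,
    ((Subgroup.centralizer ({z} : Set G)).subgroupOf (stab W)).card_eq_card_quotient_mul_card_subgroup]
  congr 1
  let f : stab W → {w : W // w ≠ 1} := fun n => ⟨⟨n * z * (n : G)⁻¹, by
    have := conj_mem_pt (n : G) h.z_mem
    rwa [n.2] at this⟩, fun e => h.z_ne (conj_eq_one_iff.1 (congrArg Subtype.val e))⟩
  have hf : ∀ a b : stab W, f a = f b ↔ a⁻¹ * b ∈ (Subgroup.centralizer ({z} : Set G)).subgroupOf (stab W) := by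
    intro a b
    rw [Subgroup.mem_subgroupOf, Subgroup.mem_centralizer_singleton_iff]
    simp only [f, Subtype.ext_iff, Subgroup.coe_mul, Subgroup.coe_inv]
    rw [mul_inv_eq_iff_eq_mul, mul_assoc _ (b : G) z, inv_mul_eq_iff_eq_mul]
    constructor <;> intro e
    · rw [← mul_assoc, e]; group
    · rw [e]; group
  let q : stab W ⧸ (Subgroup.centralizer ({z} : Set G)).subgroupOf (stab W) → {w : W // w ≠ 1} :=
    fun x => Quotient.liftOn' x f fun a b hab => (hf a b).2 (QuotientGroup.leftRel_apply.1 hab)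
  have hbij : Function.Bijective q := by
    refine ⟨fun x y => ?_, fun w => ?_⟩
    · induction x using QuotientGroup.induction_on
      induction y using QuotientGroup.induction_on
      exact fun e => QuotientGroup.eq.2 ((hf _ _).1 e)
    · obtain ⟨n, hn, hnw⟩ := h.exists_norm w.1.2 (fun e => w.2 (Subtype.ext e))
      refine ⟨QuotientGroup.mk (⟨n, hn⟩ : stab W), ?_⟩
      exact Subtype.ext (Subtype.ext hnw)
  rw [Nat.card_eq_of_bijective q hbij]
  haveI : Fintype W := Fintype.ofFinite _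
  rw [Nat.card_eq_fintype_card, Fintype.card_subtype_compl, Fintype.card_subtype_eq,
    ← Nat.card_eq_fintype_card, h.card_W]

/-- The conjugates reached. -/
def pts (W : Subgroup G) (z Y Y' : G) : Set (Subgroup G) := pt W '' (gen z Y Y' : Set G)

theorem card_gen (h : Data W z s r Y Y' e L) :
    Nat.card (gen z Y Y') = (pts W z Y Y').ncard * Nat.card (stab W) := by
  classical
  rw [← Nat.card_congr (Subgroup.subgroupOfEquivOfLe h.stab_le).toEquiv,
    ((stab W).subgroupOf (gen z Y Y')).card_eq_card_quotient_mul_card_subgroup]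
  congr 1
  have hf : ∀ a b : gen z Y Y', pt W (a : G) = pt W (b : G) ↔
      a⁻¹ * b ∈ (stab W).subgroupOf (gen z Y Y') := by
    intro a b
    rw [Subgroup.mem_subgroupOf]
    constructor
    · intro e
      show pt W ((a : G)⁻¹ * b) = W
      rw [pt_mul_congr (a : G)⁻¹ e.symm, inv_mul_cancel, pt_one]
    · intro e
      have := pt_mul_right (a : G) (show pt W ((a : G)⁻¹ * b) = W from e)
      rw [mul_inv_cancel_left] at this
      exact this.symm
  let f : gen z Y Y' → pts W z Y Y' := fun a => ⟨pt W (a : G), ⟨a, a.2, rfl⟩⟩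
  let q : gen z Y Y' ⧸ (stab W).subgroupOf (gen z Y Y') → pts W z Y Y' :=
    fun x => Quotient.liftOn' x f fun a b hab =>
      Subtype.ext ((hf a b).2 (QuotientGroup.leftRel_apply.1 hab))
  have hbij : Function.Bijective q := by
    refine ⟨fun x y => ?_, fun ⟨_, a, ha, e⟩ => ?_⟩
    swap
    · refine ⟨QuotientGroup.mk (⟨a, ha⟩ : gen z Y Y'), ?_⟩
      exact Subtype.ext e
    induction x using QuotientGroup.induction_on
    induction y using QuotientGroup.induction_on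
    exact fun e => QuotientGroup.eq.2 ((hf _ _).1 (congrArg Subtype.val e))
  rw [Nat.card_eq_of_bijective q hbij, Nat.card_coe_set_eq]

/-- The fourteen points over hyperplanes containing `z`. -/
def near14 (W : Subgroup G) (z Y' : G) : Set (Subgroup G) :=
  (fun c => pt W (c * Y')) '' {c | Commute c z}

theorem ncard_near14 (h : Data W z s r Y Y' e L) : (near14 W z Y').ncard = 14 := by
  classical
  rw [← h.card_orbit, ← Nat.card_coe_set_eq]
  refine (Nat.card_eq_of_bijective (fun u : {u : G // ∃ c, Commute c z ∧ c * r * c⁻¹ = u} =>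
    (⟨pt W (u.2.choose * Y'), u.2.choose, u.2.choose_spec.1, rfl⟩ : near14 W z Y')) ⟨?_, ?_⟩).symm
  · intro u v huv
    have e' : pt W (u.2.choose * Y') = pt W (v.2.choose * Y') := congrArg Subtype.val huv
    refine Subtype.ext ?_
    rw [← u.2.choose_spec.2, ← v.2.choose_spec.2]
    set c := u.2.choose
    set d := v.2.choose
    have h1 : d⁻¹ * c * r * (d⁻¹ * c)⁻¹ ∈ pt W Y' := by
      have := h.r_mem (d⁻¹ * c)
      rw [mul_assoc _ c Y', pt_mul_congr d⁻¹ e', inv_mul_cancel_left] at this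
      exact this
    have := h.inj (d⁻¹ * c) (v.2.choose_spec.1.inv_left.mul_left u.2.choose_spec.1) h1
    conv_rhs => rw [← this]
    group
  · rintro ⟨_, c, hc, rfl⟩
    refine ⟨⟨c * r * c⁻¹, c, hc, rfl⟩, Subtype.ext ?_⟩
    have hu : ∃ d, Commute d z ∧ d * r * d⁻¹ = c * r * c⁻¹ := ⟨c, hc, rfl⟩
    exact h.pt_of_conj_eq hu.choose_spec.2

theorem pts_le (h : Data W z s r Y Y' e L) : (pts W z Y Y').ncard ≤ 31 := by
  classical
  let F : Finset (Subgroup G) := (L.map fun p => pt W (p.1 * Y * p.2 * Y')).toFinset ∪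
    (L.map fun p => pt W (p.1 * Y * p.2 * e * Y')).toFinset
  have hsub : pts W z Y Y' ⊆ insert W (near14 W z Y') ∪ F := by
    rintro _ ⟨g, hg, rfl⟩
    rcases h.cand_gen hg with e' | ⟨n, hn, e'⟩
    · rw [e']; exact Or.inl (Set.mem_insert _ _)
    rcases h.near hn with ⟨c, hc, hx⟩ | ⟨p, hp, hx | hx⟩
    · exact Or.inl (Set.mem_insert_of_mem _ ⟨c, hc, (e'.trans hx).symm⟩)
    · refine Or.inr (Finset.mem_union_left _ (List.mem_toFinset.2 ?_))
      exact List.mem_map.2 ⟨p, hp, (e'.trans hx).symm⟩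
    · refine Or.inr (Finset.mem_union_right _ (List.mem_toFinset.2 ?_))
      exact List.mem_map.2 ⟨p, hp, (e'.trans hx).symm⟩
  have h1 : F.card ≤ 16 := by
    refine (Finset.card_union_le _ _).trans ?_
    have := h.L_len
    refine (Nat.add_le_add (List.toFinset_card_le _) (List.toFinset_card_le _)).trans ?_
    rw [List.length_map, List.length_map]
    omega
  refine (Set.ncard_le_ncard hsub).trans ((Set.ncard_union_le _ _).trans ?_)
  rw [Set.ncard_coe_finset]
  have := (Set.ncard_insert_le W (near14 W z Y')).trans (le_of_eq (by rw [h.ncard_near14]))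
  omega

/-- Two subgroups of order at least 8 in one of order 16 meet. -/
theorem exists_meet {P A B : Subgroup G} (hA : A ≤ P) (hB : B ≤ P) (hP : Nat.card P = 16)
    (hA8 : 8 ≤ Nat.card A) (hB8 : 8 ≤ Nat.card B) : ∃ v ∈ A, v ∈ B ∧ v ≠ 1 := by
  by_contra hcon
  push Not at hcon
  have hinj : Function.Injective (fun x : A × B => (⟨x.1 * x.2, mul_mem (hA x.1.2) (hB x.2.2)⟩ : P)) := by
    intro x y hxy
    have e' : (x.1 : G) * x.2 = y.1 * y.2 := congrArg Subtype.val hxy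
    have h1 : (y.1 : G)⁻¹ * x.1 = y.2 * (x.2 : G)⁻¹ := by
      rw [eq_mul_inv_iff_mul_eq, mul_assoc, e', inv_mul_cancel_left]
    have h2 := hcon _ (mul_mem (inv_mem y.1.2) x.1.2) (h1 ▸ mul_mem y.2.2 (inv_mem x.2.2))
    refine Prod.ext (Subtype.ext (inv_mul_eq_one.1 h2).symm) (Subtype.ext ?_)
    rw [h2] at h1
    exact (mul_inv_eq_one.1 h1.symm).symm
  have := Nat.card_le_card_of_injective _ hinj
  rw [Nat.card_prod, hP] at this
  have := Nat.mul_le_mul hA8 hB8
  omega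

theorem card_meet_C (h : Data W z s r Y Y' e L) {c : G} (hc : Commute c z) :
    8 ≤ Nat.card ↥(pt W (c * Y') ⊓ Subgroup.centralizer ({z} : Set G)) := by
  refine h.half.trans (Nat.card_le_card_of_injective
    (fun w => ⟨c * Y' * w.1 * (c * Y')⁻¹, conj_mem_pt _ w.2.1, ?_⟩) ?_)
  · refine Subgroup.mem_centralizer_singleton_iff.2 (Commute.eq ?_)
    have h1 := (commute_conj_iff Y').2 (h.W_comm w.1 w.2.1)
    have h2 := (commute_conj_iff Y').2 w.2.2
    rw [h.Y'_z] at h1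
    rw [h.Y'_r] at h2
    have h3 := h2.mul_right h1.inv_right
    rw [mul_inv_cancel_right] at h3
    have h4 := (commute_conj_iff c).2 h3
    rwa [show c * z * c⁻¹ = z by rw [hc.eq, mul_inv_cancel_right],
      show c * (Y' * w.1 * Y'⁻¹) * c⁻¹ = c * Y' * w.1 * (c * Y')⁻¹ by group] at h4
  · intro a b hab
    exact Subtype.ext (by simpa using congrArg Subtype.val hab)

theorem card_meet_old (h : Data W z s r Y Y' e L) {a : G}
    (ha : pt W a = W ∨ ∃ c, Commute c z ∧ pt W a = pt W (c * Y')) :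
    8 ≤ Nat.card ↥(pt W a ⊓ Subgroup.centralizer ({z} : Set G)) := by
  rcases ha with e' | ⟨c, hc, e'⟩ <;> rw [e']
  · rw [inf_of_le_left (fun w hw => Subgroup.mem_centralizer_singleton_iff.2 (h.W_comm w hw).eq), h.card_W]
    norm_num
  · exact h.card_meet_C hc

theorem card_pt (h : Data W z s r Y Y' e L) (a : G) : Nat.card (pt W a) = 16 := by
  rw [pt, Subgroup.card_map_of_injective (MulAut.conj a).injective, h.card_W]

theorem le_pts (h : Data W z s r Y Y' e L) : 22 ≤ (pts W z Y Y').ncard := by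
  classical
  obtain ⟨c₀, hc₀, hfresh⟩ := h.fresh
  set A := (pt W (c₀ * Y') ⊓ Subgroup.centralizer ({z} : Set G)).map (MulAut.conj Y).toMonoidHom with hAdef
  have hA8 : 8 ≤ Nat.card A := by
    rw [hAdef, Subgroup.card_map_of_injective (MulAut.conj Y).injective]
    exact h.card_meet_C hc₀
  have hA : A ≤ pt W (Y * c₀ * Y') := by
    rintro _ ⟨t, ⟨ht, -⟩, rfl⟩
    rw [mem_pt]
    have := mem_pt.1 ht
    simpa [mul_assoc] using this
  have hAs : ∀ v ∈ A, Commute v s := by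
    rintro _ ⟨t, ⟨-, ht⟩, rfl⟩
    have := (commute_conj_iff Y).2 (show Commute t z from Subgroup.mem_centralizer_singleton_iff.1 ht)
    rwa [h.Y_z] at this
  have hAz : ∀ v ∈ A, Commute v z → v = 1 := by
    rintro _ ⟨t, ⟨ht, htz⟩, rfl⟩ hv
    have htz' : Commute t z := Subgroup.mem_centralizer_singleton_iff.1 htz
    have h1 : Commute t (z * s) := (commute_conj_iff Y).1 (by rw [h.Y_zs]; exact hv)
    rw [hfresh t ht htz' (h.s_of_zs h1 htz')]
    exact map_one _
  have hnew : ∀ a, (pt W a = W ∨ ∃ c, Commute c z ∧ pt W a = pt W (c * Y')) →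
      pt W a ≠ pt W (Y * c₀ * Y') := by
    intro a ha e'
    obtain ⟨v, hvA, hvB, hv⟩ := exists_meet hA (e' ▸ inf_le_left) (h.card_pt _) hA8 (h.card_meet_old ha)
    exact hv (hAz v hvA (Subgroup.mem_centralizer_singleton_iff.1 hvB.2))
  set O : Set (Subgroup G) := (fun c => pt W (c * (Y * c₀ * Y'))) '' {c | Commute c z} with hO
  have hO7 : 7 ≤ O.ncard := by
    by_contra hlt
    obtain ⟨c, hc, hcs⟩ := h.seven
    let St : Subgroup G :=
      { carrier := {g | pt W (g * (Y * c₀ * Y')) = pt W (Y * c₀ * Y')}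
        one_mem' := by simp
        mul_mem' := fun {a b} ha hb => by
          show pt W (a * b * (Y * c₀ * Y')) = _
          rw [mul_assoc, pt_mul_congr a hb]; exact ha
        inv_mem' := fun {a} ha => by
          have := pt_mul_congr a⁻¹ ha
          rw [inv_mul_cancel_left] at this
          exact this.symm }
    have hgen : Subgroup.closure {g : G | Commute g z ∧ g ^ 7 = 1} ≤ St := by
      refine (Subgroup.closure_le _).2 ?_
      rintro g ⟨hgz, hg7⟩
      obtain ⟨i, hi, j, hj, hne, hij⟩ : ∃ i ∈ Finset.range 7, ∃ j ∈ Finset.range 7, i ≠ j ∧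
          pt W (g ^ i * (Y * c₀ * Y')) = pt W (g ^ j * (Y * c₀ * Y')) := by
        refine Finset.exists_ne_map_eq_of_card_lt_of_maps_to (t := O.toFinite.toFinset) ?_
          fun i _ => O.toFinite.mem_toFinset.2 ⟨g ^ i, hgz.pow_left i, rfl⟩
        rw [← Set.ncard_eq_toFinset_card, Finset.card_range]
        omega
      rw [Finset.mem_range] at hi hj
      have h1 : g ^ ((j : ℤ) - i) ∈ St := by
        show pt W (g ^ ((j : ℤ) - i) * (Y * c₀ * Y')) = _
        have := pt_mul_congr (g ^ (-(i : ℤ))) hij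
        rw [show g ^ (-(i : ℤ)) * (g ^ i * (Y * c₀ * Y')) = Y * c₀ * Y' by group,
          show g ^ (-(i : ℤ)) * (g ^ j * (Y * c₀ * Y')) = g ^ ((j : ℤ) - i) * (Y * c₀ * Y') by group] at this
        exact this.symm
      have hcop : Int.gcd ((j : ℤ) - i) 7 = 1 := by
        have : ¬ (7 : ℤ) ∣ (j : ℤ) - i := by
          intro hd; rcases hd with ⟨k, hk⟩; omega
        exact Int.isCoprime_iff_gcd_eq_one.1
          (((Nat.prime_iff_prime_int.1 (by norm_num : Nat.Prime 7)).coprime_iff_not_dvd).2 this).symm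
      obtain ⟨u, v, huv⟩ := Int.isCoprime_iff_gcd_eq_one.2 hcop
      have h7v : g ^ (v * 7) = 1 := by rw [mul_comm, zpow_mul, zpow_ofNat, hg7, one_zpow]
      have : g = (g ^ ((j : ℤ) - i)) ^ u := by
        conv_lhs => rw [← zpow_one g, ← huv, zpow_add, h7v, mul_one, mul_comm u, zpow_mul]
      rw [this]
      exact zpow_mem h1 u
    have hfix : pt W (c * (Y * c₀ * Y')) = pt W (Y * c₀ * Y') := hgen hc
    have hB : A.map (MulAut.conj c).toMonoidHom ≤ pt W (Y * c₀ * Y') := by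
      rintro _ ⟨v, hv, rfl⟩
      rw [← hfix, mem_pt]
      have := mem_pt.1 (hA hv)
      simpa [mul_assoc] using this
    obtain ⟨v, hvA, hvB, hv⟩ := exists_meet hA hB (h.card_pt _) hA8
      (by rw [Subgroup.card_map_of_injective (MulAut.conj c).injective]; exact hA8)
    obtain ⟨t, ht, rfl⟩ := hvB
    have h1 := (commute_conj_iff c).2 (hAs t ht)
    rw [hcs] at h1
    refine hv (hAz _ hvA ?_)
    have h2 := h1.mul_right (hAs _ hvA)
    rwa [mul_assoc z s s, h.s_sq, mul_one] at h2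
  have hsub : insert W (near14 W z Y') ∪ O ⊆ pts W z Y Y' := by
    rintro P ((rfl | ⟨c, hc, rfl⟩) | ⟨c, hc, rfl⟩)
    · exact ⟨1, one_mem _, pt_one _⟩
    · exact ⟨_, mul_mem (mem_gen_C hc) mem_gen_Y', rfl⟩
    · exact ⟨_, mul_mem (mem_gen_C hc) (mul_mem (mul_mem mem_gen_Y (mem_gen_C hc₀)) mem_gen_Y'), rfl⟩
  have hdisj : Disjoint (insert W (near14 W z Y')) O := by
    rw [Set.disjoint_left]
    rintro P hP ⟨c, hc, rfl⟩
    rcases hP with hP | ⟨d, hd, hP⟩
    · refine hnew (c⁻¹ * 1) (Or.inl ?_) ?_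
      · rw [mul_one]; exact h.pt_C hc.inv_left
      · rw [pt_mul_congr c⁻¹ ((pt_one W).trans hP.symm), inv_mul_cancel_left]
    · refine hnew (c⁻¹ * (d * Y')) (Or.inr ⟨c⁻¹ * d, hc.inv_left.mul_left hd, by rw [mul_assoc]⟩) ?_
      rw [pt_mul_congr c⁻¹ hP, inv_mul_cancel_left]
  have hW : W ∉ near14 W z Y' := by
    rintro ⟨c, hc, hcW⟩
    have : c * r * c⁻¹ ∈ W := hcW ▸ h.r_mem c
    have := h.norm c⁻¹ hc.inv_left _ this
    exact h.r_nmem (by simpa [mul_assoc] using this)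
  refine le_trans ?_ (Set.ncard_le_ncard hsub)
  rw [Set.ncard_union_eq hdisj, Set.ncard_insert_of_notMem hW, h.ncard_near14]
  omega

/-- The contradiction. -/
theorem false_of_card (h : Data W z s r Y Y' e L) (hG : Nat.card G = 4030387200)
    (hC : Nat.card (Subgroup.centralizer ({z} : Set G)) = 21504) : False := by
  have hd := (gen z Y Y').card_subgroup_dvd_card
  rw [h.card_gen, h.card_stab, hC, hG,
    show 4030387200 = 12495 * (15 * 21504) by norm_num,
    Nat.mul_dvd_mul_iff_right (by norm_num)] at hd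
  have h1 := h.pts_le
  have h2 := h.le_pts
  generalize (pts W z Y Y').ncard = k at hd h1 h2
  interval_cases k <;> norm_num at hd

end Data

end CfsgLib.Sporadic.HeldUnique.LinKill
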