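import Cfsg.Agent.Lib.Sporadic.HeldUnique.LinKillData
import Cfsg.Agent.Lib.Sporadic.HeldUnique.LinKillCore

/-!
# Two four-groups of linear type are impossible
-/

set_option autoImplicit false
set_option linter.style.haveILetI false
set_option linter.unusedSectionVars false

namespace CfsgLib.Sporadic.HeldUnique.LinKill

open CosetCert Mdl

variable {G : Type*} [Group G] [Finite G] {Q : Subgroup G} {z : G} {v : ℕ → G} {x y : G}

local notation "D₀" => MA0.mdl

theorem lt_of_blt {a b : ℕ} (h : Nat.blt a b = true) : a < b := Nat.blt_eq.mp h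

section

variable (h : Loc D₀ Q z v x y)
include h

local notation "V" => Mdl.val D₀ v z x y

theorem vmul {i j : ℕ} (hi : i < 21504) (hj : j < 21504) : V i * V j = V (Mdl.mul D₀ i j) :=
  h.mul MA0.good hi hj

theorem mul_bound {i j : ℕ} (hi : i < 21504) (hj : j < 21504) : Mdl.mul D₀ i j < 21504 :=
  (mul_spec h.toRels MA0.good hi hj).2

theorem v_zero : V 0 = 1 := Mdl.val_zero _ MA0.good.ok v z x y

theorem v_one : V 1 = z := Mdl.val_z _ MA0.good.ok v z x y

theorem v_comm_z (i : ℕ) : Commute (V i) z :=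
  Subgroup.mem_centralizer_singleton_iff.1 (val_mem h.toRels MA0.good i)

theorem commute_iff_codes {i j : ℕ} (hi : i < 21504) (hj : j < 21504) :
    Commute (V i) (V j) ↔ comm i j = true := by
  rw [comm, Nat.beq_eq, commute_iff_eq, vmul h hi hj, vmul h hj hi]
  exact ⟨fun e => h.inj MA0.good (mul_bound h hi hj) (mul_bound h hj hi) e, fun e => by rw [e]⟩

theorem conj_codes {c a b : ℕ} (hc : c < 21504) (ha : a < 21504) (hb : b < 21504)
    (e : Mdl.mul D₀ c a = Mdl.mul D₀ b c) : V c * V a * (V c)⁻¹ = V b := by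
  rw [vmul h hc ha, e, ← vmul h hb hc, mul_inv_cancel_right]

theorem inv_codes {c ci : ℕ} (hc : c < 21504) (hci : ci < 21504) (e : Mdl.mul D₀ c ci = 0) :
    (V c)⁻¹ = V ci :=
  inv_eq_of_mul_eq_one_right (by rw [vmul h hc hci, e, v_zero h])

theorem cj_spec {c ci b : ℕ} (hc : c < 21504) (hci : ci < 21504) (hb : b < 21504)
    (e : Mdl.mul D₀ c ci = 0) : V c * V b * (V c)⁻¹ = V (cj c ci b) ∧ cj c ci b < 21504 :=
  ⟨by rw [inv_codes h hc hci e, vmul h hc hb, vmul h (mul_bound h hc hb) hci, cj],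
    mul_bound h (mul_bound h hc hb) hci⟩

theorem evW_lt {xs : List ℕ} (hxs : ∀ a ∈ xs, a < 21504) (w : List ℕ) : evW xs w < 21504 := by
  suffices ∀ a, a < 21504 → w.foldl (fun acc i => Mdl.mul D₀ acc (xs.getD i 0)) a < 21504 from
    this 0 (by norm_num)
  intro a ha
  induction w generalizing a with
  | nil => exact ha
  | cons i t ih =>
    refine ih _ (mul_bound h ha ?_)
    rw [List.getD_eq_getElem?_getD]
    cases hi : xs[i]? with
    | none => simp
    | some b => simpa using hxs b (List.mem_of_getElem? hi)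

/-- The action on the code of a word. -/
theorem act_word {Y : G} {ps : List (ℕ × ℕ)} (hY : Mate D₀ v z x y Y ps)
    (hps : (ps.all fun e => Nat.blt e.1 21504 && Nat.blt e.2 21504) = true)
    {t : ℕ × ℕ × List ℕ} (ht : actOK ps t = true) :
    Y * V t.1 * Y⁻¹ = V t.2.1 ∧ t.1 < 21504 ∧ t.2.1 < 21504 := by
  simp only [List.all_eq_true, Bool.and_eq_true, Nat.blt_eq] at hps
  simp only [actOK, Bool.and_eq_true, Nat.beq_eq] at ht
  have h1 : ∀ a ∈ ps.map Prod.fst, a < 21504 := fun a ha => by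
    obtain ⟨e, he, rfl⟩ := List.mem_map.1 ha
    exact (hps e he).1
  have h2 : ∀ a ∈ ps.map Prod.snd, a < 21504 := fun a ha => by
    obtain ⟨e, he, rfl⟩ := List.mem_map.1 ha
    exact (hps e he).2
  obtain ⟨hf, hs⟩ := ht
  refine ⟨?_, hf ▸ evW_lt h h1 _, hs ▸ evW_lt h h2 _⟩
  rw [← hf, ← hs]
  suffices ∀ (w : List ℕ) (a b : ℕ), a < 21504 → b < 21504 → Y * V a * Y⁻¹ = V b →
      Y * V (w.foldl (fun acc i => Mdl.mul D₀ acc ((ps.map Prod.fst).getD i 0)) a) * Y⁻¹ =
        V (w.foldl (fun acc i => Mdl.mul D₀ acc ((ps.map Prod.snd).getD i 0)) b) from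
    this _ 0 0 (by norm_num) (by norm_num) (by rw [v_zero h, mul_one, mul_inv_cancel])
  intro w
  induction w with
  | nil => intro a b _ _ hab; exact hab
  | cons i t ih =>
    intro a b ha hb hab
    obtain ⟨p, q, hp, hq, hpe, hqe, hpq⟩ : ∃ p q, p < 21504 ∧ q < 21504 ∧
        (ps.map Prod.fst).getD i 0 = p ∧ (ps.map Prod.snd).getD i 0 = q ∧ Y * V p * Y⁻¹ = V q := by
      simp only [List.getD_eq_getElem?_getD, List.getElem?_map]
      cases hi : ps[i]? with
      | none => exact ⟨0, 0, by norm_num, by norm_num, rfl, rfl, by rw [v_zero h, mul_one, mul_inv_cancel]⟩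
      | some e =>
        have he := List.mem_of_getElem? hi
        exact ⟨e.1, e.2, (hps e he).1, (hps e he).2, rfl, rfl, hY.act e he⟩
    simp only [List.foldl_cons, hpe, hqe]
    refine ih _ _ (mul_bound h ha hp) (mul_bound h hb hq) ?_
    rw [← vmul h ha hp, ← vmul h hb hq, ← hab, ← hpq]
    group

theorem conj_letters {P : G → Prop} (hmul : ∀ a b, P a → P b → P (a * b)) (hone : P 1)
    (hgen : ∀ c ∈ genList, P (V c)) {g : G} (hg : Commute g z) : P g := by
  obtain ⟨i, hi, rfl⟩ := h.cover MA0.good hg.eq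
  have hinv : ∀ a, P a → P a⁻¹ := fun a ha => by
    obtain ⟨k, hk⟩ : ∃ k : ℕ, a⁻¹ = a ^ k := ⟨orderOf a - 1, by
      rw [inv_eq_iff_mul_eq_one, ← pow_succ', Nat.sub_add_cancel (orderOf_pos a), pow_orderOf_eq_one]⟩
    rw [hk]
    clear hk
    induction k with
    | zero => rwa [pow_zero]
    | succ k ih => rw [pow_succ]; exact hmul _ _ ih ha
  let T : Subgroup G :=
    { carrier := {a | P a}, one_mem' := hone, mul_mem' := fun ha hb => hmul _ _ ha hb, inv_mem' := fun ha => hinv _ ha }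
  show Mdl.val D₀ v z x y i ∈ T
  have hx : letters v z x y 7 ∈ T := by
    have := hgen 128 (by simp [genList])
    rw [show (128 : ℕ) = 0 + 128 * 1 by rfl, val_eq _ _ _ _ _ (by norm_num), lw_ok.1, Frame.qe_one, one_mul] at this
    exact (by simpa [wp] using this : P (letters v z x y 7))
  have hy : letters v z x y 9 ∈ T := by
    have := hgen 256 (by simp [genList])
    rw [show (256 : ℕ) = 0 + 128 * 2 by rfl, val_eq _ _ _ _ _ (by norm_num), lw_ok.2, Frame.qe_one, one_mul] at this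
    exact (by simpa [wp] using this : P (letters v z x y 9))
  have hq : ∀ j, qletters v z j ∈ T := fun j => by
    rw [qletters]
    split_ifs with hj
    · have e : V (2 ^ (j + 1)) = v j := by
        have hlt : 2 ^ (j + 1) < 128 := lt_of_lt_of_le
          (Nat.pow_lt_pow_right (by norm_num) (by omega : j + 1 < 7)) (by norm_num)
        have hj' : 2 ^ (j + 1) = 2 ^ (j + 1) + 128 * 0 := by rfl
        rw [hj', val_eq _ _ _ _ _ hlt, MA0.good.ok.lw_zero.1, Frame.qe_two_pow v z hj]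
        simp [wp]
      rw [← e]
      refine hgen _ ?_
      interval_cases j <;> simp [genList]
    · rw [← v_one h]; exact hgen 1 (by simp [genList])
  refine mul_mem (wp_mem _ fun j _ => hq j) (wp_mem _ fun j _ => ?_)
  rw [letters]
  split_ifs
  · exact hq j
  · simpa [letters] using hx
  · exact inv_mem (by simpa [letters] using hx)
  · simpa [letters] using hy
  · exact inv_mem (by simpa [letters] using hy)
  · exact one_mem T

/-- The sixteen-group. -/
def wGroup : Subgroup G where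
  carrier := {g | ∃ a ∈ wList, V a = g}
  one_mem' := ⟨0, by simp [wList], v_zero h⟩
  mul_mem' := by
    rintro _ _ ⟨a, ha, rfl⟩ ⟨b, hb, rfl⟩
    have hw := wList_ok.1
    simp only [List.all_eq_true, Bool.and_eq_true, mem, List.any_eq_true, Nat.beq_eq] at hw
    obtain ⟨⟨c, hc, e⟩, -⟩ := (hw a ha).2 b hb
    have hlt := bounds_ok.1
    simp only [List.all_eq_true, Nat.blt_eq] at hlt
    exact ⟨c, hc, by rw [vmul h (hlt a ha) (hlt b hb), e]⟩
  inv_mem' := by
    rintro _ ⟨a, ha, rfl⟩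
    have hw := wList_ok.1
    simp only [List.all_eq_true, Bool.and_eq_true, Nat.beq_eq] at hw
    have hlt := bounds_ok.1
    simp only [List.all_eq_true, Nat.blt_eq] at hlt
    exact ⟨a, ha, (inv_codes h (hlt a ha) (hlt a ha) (hw a ha).1).symm⟩

theorem mem_wGroup {g : G} : g ∈ wGroup h ↔ ∃ a ∈ wList, V a = g := Iff.rfl

theorem conj_list (l : List ℕ) (hl : ∀ a ∈ l, a < 21504)
    (hgen : ∀ c ∈ genList, ∀ a ∈ l, ∃ b ∈ l, Mdl.mul D₀ c a = Mdl.mul D₀ b c) {g : G} (hg : Commute g z) :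
    ∀ a ∈ l, ∃ b ∈ l, g * V a * g⁻¹ = V b := by
  refine conj_letters h (P := fun g => ∀ a ∈ l, ∃ b ∈ l, g * V a * g⁻¹ = V b) ?_ ?_ ?_ hg
  · intro p q hp hq a ha
    obtain ⟨b, hb, e⟩ := hq a ha
    obtain ⟨c, hc, e'⟩ := hp b hb
    exact ⟨c, hc, by rw [← e', ← e]; group⟩
  · exact fun a ha => ⟨a, ha, by group⟩
  · intro c hc a ha
    have hlt := bounds_ok.2.2.2.2.1
    simp only [List.all_eq_true, Nat.blt_eq] at hlt
    obtain ⟨b, hb, e⟩ := hgen c hc a ha
    exact ⟨b, hb, conj_codes h (hlt c hc) (hl a ha) (hl b hb) e⟩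

theorem w_lt {a : ℕ} (ha : a ∈ wList) : a < 21504 := by
  have hlt := bounds_ok.1
  simp only [List.all_eq_true, Nat.blt_eq] at hlt
  exact hlt a ha

theorem u_spec {b : ℕ} (hb : b ∈ uList) : b ∈ wList ∧ Commute (V b) (V 6) := by
  have hw := wList_ok.2.2.2.1
  simp only [List.all_eq_true, Bool.and_eq_true, mem, List.any_eq_true, Nat.beq_eq] at hw
  obtain ⟨⟨c, hc, rfl⟩, hcomm⟩ := hw b hb
  exact ⟨hc, (commute_iff_codes h (w_lt h hc) (by norm_num)).2 hcomm⟩

theorem u_of_commute {w : G} (hw : w ∈ wGroup h) (hr : Commute w (V 6) ∨ Commute w (V 7)) :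
    ∃ b ∈ uList, V b = w := by
  obtain ⟨a, ha, rfl⟩ := (mem_wGroup h).1 hw
  rcases hr with hr | hr
  · have h1 := wList_ok.2.2.2.2.1
    simp only [List.all_eq_true, Bool.or_eq_true, Bool.not_eq_true', mem, List.any_eq_true, Nat.beq_eq] at h1
    rcases h1 a ha with h2 | ⟨b, hb, rfl⟩
    · rw [(commute_iff_codes h (w_lt h ha) (by norm_num)).1 hr] at h2; exact Bool.noConfusion h2
    · exact ⟨_, hb, rfl⟩
  · have h1 := wList_ok.2.2.2.2.2.1
    simp only [List.all_eq_true, Bool.or_eq_true, Bool.not_eq_true', mem, List.any_eq_true, Nat.beq_eq] at h1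
    rcases h1 a ha with h2 | ⟨b, hb, rfl⟩
    · rw [(commute_iff_codes h (w_lt h ha) (by norm_num)).1 hr] at h2; exact Bool.noConfusion h2
    · exact ⟨_, hb, rfl⟩

/-- A row of the class of 6. -/
theorem row_spec {t : ℕ × ℕ × ℕ × List ℕ} (ht : t ∈ rows6) :
    t.1 < 21504 ∧ t.2.1 < 21504 ∧ t.2.2.1 < 21504 ∧ Mdl.mul D₀ t.2.1 t.2.2.1 = 0 ∧
      Commute (V t.2.1) z ∧ V t.2.1 * V 6 * (V t.2.1)⁻¹ = V t.1 ∧ ∀ a ∈ t.2.2.2, a < 21504 := by
  have hlt := bounds_ok.2.2.1
  simp only [List.all_eq_true, Bool.and_eq_true, Nat.blt_eq] at hlt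
  obtain ⟨⟨⟨h1, h2⟩, h3⟩, h4⟩ := hlt t ht
  have hr := rows_ok.2.2.2.1
  simp only [List.all_eq_true, Bool.and_eq_true, Nat.beq_eq] at hr
  obtain ⟨⟨⟨e1, e2⟩, -⟩, -⟩ := hr t ht
  exact ⟨h1, h2, h3, e1, v_comm_z h _, conj_codes h h2 (by norm_num) h1 e2, h4⟩

variable {Y' : G} (hY' : Mate D₀ v z x y Y' linFour)
include hY'

theorem act_four {t : ℕ × ℕ × List ℕ} (ht : t ∈ yU ∨ t ∈ stepList) :
    Y' * V t.1 * Y'⁻¹ = V t.2.1 ∧ t.1 < 21504 ∧ t.2.1 < 21504 := by
  refine act_word h hY' bounds_ok.2.2.2.2.2.2 ?_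
  rcases ht with ht | ht
  · exact List.all_eq_true.1 acts_ok.2.1 t ht
  · exact List.all_eq_true.1 acts_ok.2.2.2.1 t ht

theorem Y'_z : Y' * z * Y'⁻¹ = V 6 := by
  rw [← v_one h]; exact (act_four h hY' (Or.inl kick_ok.2.2.2.1)).1

theorem Y'_six : Y' * V 6 * Y'⁻¹ = V 7 := (act_four h hY' (Or.inr kick_ok.2.2.2.2)).1

/-- The members of a point in `C(z)`. -/
theorem mem_row_iff {t : ℕ × ℕ × ℕ × List ℕ} (ht : t ∈ rows6) (u : G) :
    (u ∈ pt (wGroup h) (V t.2.1 * Y') ∧ Commute u z) ↔ ∃ a ∈ t.2.2.2, V a = u := by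
  obtain ⟨h1, h2, h3, e1, hc, e2, h4⟩ := row_spec h ht
  have hr := rows_ok.2.2.2.1
  simp only [List.all_eq_true, Bool.and_eq_true, Nat.beq_eq, List.mem_range] at hr
  obtain ⟨⟨⟨-, -⟩, hlen⟩, hrow⟩ := hr t ht
  have hul : (yU.map fun s => s.2.1).length = 8 := by decide
  have hmap : ∀ (i : ℕ), i < 8 → ∃ b ∈ uList, ∃ a ∈ t.2.2.2, t.2.2.2.getD i 0 = a ∧
      uList.getD i 0 = b ∧ V t.2.1 * (Y' * V b * Y'⁻¹) * (V t.2.1)⁻¹ = V a := by
    intro i hi
    have hi' : i < yU.length := by simpa using hul.symm ▸ hi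
    have hmem : yU[i] ∈ yU := List.getElem_mem hi'
    obtain ⟨ea, -, hb⟩ := act_four h hY' (Or.inl hmem)
    have hta : t.2.2.2.getD i 0 ∈ t.2.2.2 := by
      rw [List.getD_eq_getElem _ _ (by omega)]; exact List.getElem_mem _
    refine ⟨yU[i].1, acts_ok.2.2.2.2.1 ▸ List.mem_map_of_mem hmem, _, hta, rfl, ?_, ?_⟩
    · rw [← acts_ok.2.2.2.2.1, List.getD_eq_getElem _ _ (by simpa using hi'), List.getElem_map]
    · rw [ea]
      refine conj_codes h h2 hb (h4 _ hta) ?_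
      have := hrow i hi
      rwa [List.getD_eq_getElem _ _ (by simpa using hi'), List.getElem_map] at this
  constructor
  · rintro ⟨hu, huz⟩
    rw [mem_pt] at hu
    obtain ⟨b, hb, hbe⟩ := u_of_commute h hu (Or.inr (by
      have h5 := (Commute.conj_iff (V t.2.1)⁻¹).2 huz
      rw [show (V t.2.1)⁻¹ * z * (V t.2.1)⁻¹⁻¹ = z by rw [hc.inv_left.eq]; group] at h5
      have h6 : Commute (Y'⁻¹ * ((V t.2.1)⁻¹ * u * (V t.2.1)⁻¹⁻¹) * Y'⁻¹⁻¹) (Y'⁻¹ * z * Y'⁻¹⁻¹) :=
        (Commute.conj_iff Y'⁻¹).2 h5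
      rw [show (V t.2.1 * Y')⁻¹ * u * (V t.2.1 * Y') =
        Y'⁻¹ * ((V t.2.1)⁻¹ * u * (V t.2.1)⁻¹⁻¹) * Y'⁻¹⁻¹ by group]
      have h7 : Y' * V 7 * Y'⁻¹ = z := by
        rw [← facts_ok.2.2.2.2.2.2.2.2.2.2.2.1, ← vmul h (by norm_num) (by norm_num), v_one h,
          show Y' * (z * V 6) * Y'⁻¹ = (Y' * z * Y'⁻¹) * (Y' * V 6 * Y'⁻¹) by group,
          Y'_z h hY', Y'_six h hY', vmul h (by norm_num) (by norm_num),
          show Mdl.mul D₀ 6 7 = 1 by decide +kernel, v_one h]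
      have h8 : Y'⁻¹ * z * Y'⁻¹⁻¹ = V 7 := by
        have e := congrArg (fun g => Y'⁻¹ * g * Y') h7.symm
        simpa [mul_assoc] using e
      rwa [h8] at h6))
    obtain ⟨i, hi, rfl⟩ := List.getElem_of_mem hb
    have hi8 : i < 8 := by simpa [uList] using hi
    obtain ⟨b', -, a, ha, -, hb', he⟩ := hmap i hi8
    rw [List.getD_eq_getElem _ _ hi] at hb'
    refine ⟨a, ha, ?_⟩
    rw [← he, ← hb', hbe]
    group
  · rintro ⟨a, ha, rfl⟩
    obtain ⟨i, hi, rfl⟩ := List.getElem_of_mem ha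
    obtain ⟨b, hb, a', -, ha', -, he⟩ := hmap i (by omega)
    rw [List.getD_eq_getElem _ _ hi] at ha'
    refine ⟨?_, v_comm_z h _⟩
    rw [ha', ← he, mem_pt]
    exact ⟨b, (u_spec h hb).1, by group⟩

/-- Every point over a hyperplane through `z` is in the table. -/
theorem exists_row {c : G} (hc : Commute c z) :
    ∃ t ∈ rows6, c * V 6 * c⁻¹ = V t.1 ∧ pt (wGroup h) (c * Y') = pt (wGroup h) (V t.2.1 * Y') := by
  have hl : ∀ a ∈ rows6.map Prod.fst, a < 21504 := fun a ha => by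
    obtain ⟨t, ht, rfl⟩ := List.mem_map.1 ha
    exact (row_spec h ht).1
  have hg := rows_ok.2.2.2.2.1
  simp only [List.all_eq_true, List.any_eq_true, Nat.beq_eq] at hg
  obtain ⟨b, hb, e⟩ := conj_list h _ hl (fun d hd a ha => by
    obtain ⟨t, ht, rfl⟩ := List.mem_map.1 ha
    obtain ⟨t', ht', e⟩ := hg d hd t ht
    exact ⟨t'.1, List.mem_map_of_mem ht', e⟩) hc 6 (by simp [rows6])
  obtain ⟨t, ht, rfl⟩ := List.mem_map.1 hb
  refine ⟨t, ht, e, pt_congr_of_conj (z := z) (r := V 6) ?_ (Y'_z h hY') ?_⟩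
  · intro d hd w hw
    obtain ⟨a, ha, rfl⟩ := (mem_wGroup h).1 hw
    have hw' := wList_ok.2.1
    simp only [List.all_eq_true, List.any_eq_true, Nat.beq_eq] at hw'
    obtain ⟨b, hb, e⟩ := conj_list h _ (fun a ha => w_lt h ha) hw' hd a ha
    exact ⟨b, hb, e.symm⟩
  · rw [e, (row_spec h ht).2.2.2.2.2.1]

variable {Y : G} (hY : Mate D₀ v z x y Y linThree)
include hY

theorem act_three {t : ℕ × ℕ × List ℕ} (ht : t ∈ yW ∨ t ∈ overList) :
    Y * V t.1 * Y⁻¹ = V t.2.1 ∧ t.1 < 21504 ∧ t.2.1 < 21504 := by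
  refine act_word h hY bounds_ok.2.2.2.2.2.1 ?_
  rcases ht with ht | ht
  · exact List.all_eq_true.1 acts_ok.1 t ht
  · exact List.all_eq_true.1 acts_ok.2.2.1 t ht

theorem y_image {a : ℕ} (ha : a ∈ wList) : Y * V a * Y⁻¹ = V (yImage a) ∧ yImage a ∈ wList := by
  have hf : ∀ a ∈ wList, ∃ t ∈ yW, t.1 = a ∧ t.2.1 = yImage a ∧ mem t.2.1 wList = true := by decide +kernel
  obtain ⟨t, ht, h1, h2, h3⟩ := hf a ha
  simp only [mem, List.any_eq_true, Nat.beq_eq] at h3
  obtain ⟨b, hb, e⟩ := h3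
  rw [← h2]
  exact ⟨h1 ▸ (act_three h hY' hY (Or.inl ht)).1, e ▸ hb⟩

omit hY in
theorem yU_images {a : ℕ} (ha : a ∈ yU.map fun s => s.2.1) :
    V a ∈ pt (wGroup h) Y' := by
  obtain ⟨s, hs, rfl⟩ := List.mem_map.1 ha
  rw [← (act_four h hY' (Or.inl hs)).1]
  exact conj_mem_pt _ ⟨s.1, (u_spec h (acts_ok.2.2.2.2.1 ▸ List.mem_map_of_mem hs)).1, rfl⟩

/-- The hypotheses of the counting argument. -/
theorem data : Data (wGroup h) z (V 4) (V 6) Y Y' (V 16) (farList.map fun p => (V p.1, V p.2.2.1)) := by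
  obtain ⟨f1, f2, f3, f4, f5, f6, f7, f8, f9, f10, f11, f12, f13, f14⟩ := facts_ok
  simp only [List.all_eq_true, List.any_eq_true, Bool.or_eq_true, Bool.and_eq_true, Bool.not_eq_true',
    Nat.beq_eq, mem] at f1 f2 f3 f4 f5 f6 f7
  have hfar := bounds_ok.2.2.2.1
  simp only [List.all_eq_true, Bool.and_eq_true, Nat.blt_eq] at hfar
  have hr4 := bounds_ok.2.1
  simp only [List.all_eq_true, Bool.and_eq_true, Nat.blt_eq] at hr4
  have hconj : ∀ c, Commute c z → ∀ w ∈ wGroup h, c * w * c⁻¹ ∈ wGroup h := by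
    intro c hc w hw
    obtain ⟨a, ha, rfl⟩ := (mem_wGroup h).1 hw
    have hw' := wList_ok.2.1
    simp only [List.all_eq_true, List.any_eq_true, Nat.beq_eq] at hw'
    obtain ⟨b, hb, e⟩ := conj_list h _ (fun a ha => w_lt h ha) hw' hc a ha
    exact ⟨b, hb, e.symm⟩
  have hVinj : ∀ l : List ℕ, (∀ a ∈ l, a < 21504) → l.Nodup → (l.map V).Nodup := fun l hl hn =>
    hn.map_on fun a ha b hb e => h.inj MA0.good (hl a ha) (hl b hb) e
  have hYz : Y * z * Y⁻¹ = V 4 := by
    rw [← v_one h]; exact (act_three h hY' hY (Or.inl kick_ok.1)).1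
  have hzs : z * V 4 = V 5 := by
    have := vmul h (i := 1) (j := 4) (by norm_num) (by norm_num)
    rwa [v_one h, f11] at this
  have hYs : Y * V 4 * Y⁻¹ = z * V 4 := by
    rw [hzs]
    have := (y_image h hY' hY (a := 4) (by simp [wList])).1
    rwa [show yImage 4 = 5 by decide] at this
  refine
    { z_ne := h.z_ne, z_mem := ⟨1, by simp [wList], v_one h⟩, s_mem := ⟨4, by simp [wList], rfl⟩
      z_sq := h.frame.z_sq, s_sq := by rw [vmul h (by norm_num) (by norm_num), f14, v_zero h]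
      card_W := ?_, W_comm := ?_, norm := hconj, norm_Y := ?_, trans := ?_, Y_z := hYz, Y_s := hYs
      r_z := v_comm_z h 6, r_nmem := ?_, Y'_z := Y'_z h hY', Y'_r := ?_, e_z := v_comm_z h 16
      half := ?_, fibre := ?_, over_s := ?_, step := ?_, hyper := ?_, L_spec := ?_, L_len := ?_
      kick := ?_, inj := ?_, card_orbit := ?_, fresh := ?_, seven := ?_ }
  · classical
    have : ((wGroup h : Subgroup G) : Set G) = ((wList.map V).toFinset : Set G) := by
      ext g; simp [mem_wGroup]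
    rw [← SetLike.coe_sort_coe, Nat.card_coe_set_eq, this, Set.ncard_coe_finset,
      List.toFinset_card_of_nodup (hVinj _ (fun a ha => w_lt h ha) wList_ok.2.2.2.2.2.2.1),
      List.length_map, wList_ok.2.2.2.2.2.2.2.2.1]
  · rintro w ⟨a, -, rfl⟩
    exact v_comm_z h a
  · intro w hw
    obtain ⟨a, ha, rfl⟩ := (mem_wGroup h).1 hw
    exact ⟨_, (y_image h hY' hY ha).2, (y_image h hY' hY ha).1.symm⟩
  · intro w hw hw1 hwz
    obtain ⟨a, ha, rfl⟩ := (mem_wGroup h).1 hw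
    have h1 := rows_ok.2.1
    simp only [List.all_eq_true, Bool.or_eq_true, Nat.beq_eq, mem, List.any_eq_true] at h1
    rcases h1 a ha with (rfl | rfl) | ⟨b, hb, rfl⟩
    · exact absurd (v_zero h) hw1
    · exact absurd (v_one h) hwz
    obtain ⟨t, ht, rfl⟩ := List.mem_map.1 hb
    have h2 := rows_ok.1
    simp only [List.all_eq_true, Bool.and_eq_true, Nat.beq_eq] at h2
    exact ⟨V t.2.1, v_comm_z h _, conj_codes h (hr4 t ht).1.2 (by norm_num) (hr4 t ht).1.1 (h2 t ht).2⟩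
  · rintro ⟨a, ha, e⟩
    obtain rfl := h.inj MA0.good (w_lt h ha) (by norm_num) e
    revert ha; decide
  · have := vmul h (i := 1) (j := 6) (by norm_num) (by norm_num)
    rw [v_one h, f12] at this
    rw [this]; exact Y'_six h hY'
  · classical
    let g : Fin 8 → {w : G // w ∈ wGroup h ∧ Commute w (V 6)} := fun i =>
      ⟨V (uList.getD i 0), by
        have : uList.getD i 0 ∈ uList := by
          rw [List.getD_eq_getElem _ _ (by simpa [uList] using i.2)]; exact List.getElem_mem _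
        exact ⟨⟨_, (u_spec h this).1, rfl⟩, (u_spec h this).2⟩⟩
    have hg : Function.Injective g := fun i j e => by
      have hlt : ∀ i : Fin 8, uList.getD i 0 < 21504 := by decide
      have := h.inj MA0.good (hlt i) (hlt j) (congrArg Subtype.val e)
      have hd : ∀ i j : Fin 8, uList.getD i 0 = uList.getD j 0 → i = j := by decide
      exact hd i j this
    simpa using Nat.card_le_card_of_injective g hg
  · -- fibre
    intro c hc u hu hu1 huz hcom
    obtain ⟨t, ht, hct, hpt⟩ := exists_row h hY' hc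
    rw [hct]
    rcases f1 t ht with (e | e) | hall
    · exact Or.inl (by rw [e])
    · exact Or.inr (by rw [e]; exact (conj_codes h (by norm_num) (by norm_num) (by norm_num) f8).symm)
    exfalso
    obtain ⟨a, ha, rfl⟩ := (mem_row_iff h hY' ht u).1 ⟨hpt ▸ hu, huz⟩
    rcases hall a ha with rfl | ⟨b, hb, hab⟩
    · exact hu1 (v_zero h)
    · have := hcom _ ⟨b, (u_spec h hb).1, rfl⟩ (u_spec h hb).2
      rw [commute_iff_codes h ((row_spec h ht).2.2.2.2.2.2 a ha) (w_lt h (u_spec h hb).1)] at this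
      rw [this] at hab
      exact Bool.noConfusion hab
  · -- over_s
    intro c hc hs
    obtain ⟨t, ht, hct, hpt⟩ := exists_row h hY' hc
    rw [hct, commute_iff_codes h (row_spec h ht).1 (by norm_num)] at hs
    rcases f2 t ht with e | ⟨o, ho, ho1, a, ha, ho2⟩
    · rw [hs] at e; exact Bool.noConfusion e
    refine ⟨V t.1, hct ▸ ?_, ?_, ?_⟩
    · rw [← Y'_z h hY', show c * (Y' * z * Y'⁻¹) * c⁻¹ = c * Y' * z * (c * Y')⁻¹ by group]
      exact conj_mem_pt _ ⟨1, by simp [wList], v_one h⟩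
    · intro e
      have := h.inj MA0.good (row_spec h ht).1 (by norm_num) (e.trans (v_zero h).symm)
      have hne : ∀ t ∈ rows6, t.1 ≠ 0 := by decide
      exact hne t ht this
    · rw [← ho1, (act_three h hY' hY (Or.inr ho)).1, hpt]
      exact ((mem_row_iff h hY' ht _).2 ⟨a, ha, by rw [ho2]⟩).1
  · -- step
    intro c hc
    obtain ⟨t, ht, hct, hpt⟩ := exists_row h hY' hc
    obtain ⟨o, ho, ho1, ho2⟩ := f3 t ht
    refine ⟨V t.1, hct ▸ ?_, ?_, ?_⟩
    · rw [← Y'_z h hY', show c * (Y' * z * Y'⁻¹) * c⁻¹ = c * Y' * z * (c * Y')⁻¹ by group]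
      exact conj_mem_pt _ ⟨1, by simp [wList], v_one h⟩
    · intro e
      have := h.inj MA0.good (row_spec h ht).1 (by norm_num) (e.trans (v_zero h).symm)
      have hne : ∀ t ∈ rows6, t.1 ≠ 0 := by decide
      exact hne t ht this
    rw [← ho1, (act_four h hY' (Or.inr ho)).1]
    rcases ho2 with ⟨a, ha, e⟩ | ⟨t', ht', a, ha, e⟩
    · exact Or.inl ⟨a, ha, by rw [e]⟩
    · exact Or.inr ⟨V t'.2.1, v_comm_z h _, ((mem_row_iff h hY' ht' _).2 ⟨a, ha, by rw [e]⟩).1⟩
  · -- hyper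
    intro c₁ c₂ h₁ h₂ hns
    obtain ⟨a₄, ha₄, e₄⟩ := (mem_wGroup h).1 (hconj c₁ h₁ (V 4) ⟨4, by simp [wList], rfl⟩)
    obtain ⟨w₄, hw₄, hw₄'⟩ : ∃ w₄ ∈ rows4, w₄.1 = a₄ := by
      have h1 := rows_ok.2.1
      simp only [List.all_eq_true, Bool.or_eq_true, Nat.beq_eq, mem, List.any_eq_true] at h1
      rcases h1 a₄ ha₄ with (rfl | rfl) | ⟨b, hb, rfl⟩
      · rw [v_zero h] at e₄
        have := conj_eq_one_iff.1 e₄.symm
        exact absurd (h.inj MA0.good (by norm_num : (4 : ℕ) < 21504) (by norm_num)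
          (this.trans (v_zero h).symm)) (by norm_num)
      · rw [v_one h] at e₄
        have h5 : V 4 = z := by
          have := congrArg (fun g => c₁⁻¹ * g * c₁) e₄.symm
          simpa [mul_assoc, h₁.eq.symm] using this.trans (by rw [mul_assoc, ← h₁.eq, inv_mul_cancel_left])
        exact absurd (h.inj MA0.good (by norm_num : (4 : ℕ) < 21504) (by norm_num)
          (h5.trans (v_one h).symm)) (by norm_num)
      · obtain ⟨w, hw, rfl⟩ := List.mem_map.1 hb
        exact ⟨w, hw, rfl⟩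
    subst hw₄'
    have h2 := rows_ok.1
    simp only [List.all_eq_true, Bool.and_eq_true, Nat.beq_eq] at h2
    obtain ⟨p, hp⟩ : ∃ p, p = (V w₄.2.1)⁻¹ * c₁ := ⟨_, rfl⟩
    have hR4 := conj_codes h (hr4 w₄ hw₄).1.2 (by norm_num) (hr4 w₄ hw₄).1.1 (h2 w₄ hw₄).2
    have hps : Commute p (V 4) := by
      rw [commute_iff_eq, ← mul_inv_eq_iff_eq_mul, hp,
        show (V w₄.2.1)⁻¹ * c₁ * V 4 * ((V w₄.2.1)⁻¹ * c₁)⁻¹ =
          (V w₄.2.1)⁻¹ * (c₁ * V 4 * c₁⁻¹) * V w₄.2.1 by group, ← e₄, ← hR4]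
      group
    have hpz : Commute p z := hp ▸ (v_comm_z h _).inv_left.mul_left h₁
    obtain ⟨p', hp'⟩ : ∃ p', p' = Y⁻¹ * p * Y := ⟨_, rfl⟩
    have hp'z : Commute p' z := by
      have h5 := (Commute.conj_iff Y⁻¹).2 hps
      rwa [inv_inv, ← hp', show Y⁻¹ * V 4 * Y = z by rw [← hYz]; group] at h5
    have hp's : Commute p' (V 4) := by
      have h5 := (Commute.conj_iff Y⁻¹).2 hpz
      rw [inv_inv, ← hp', show Y⁻¹ * z * Y = z * V 4 by
        have e := congrArg (fun g => Y⁻¹ * g * Y) (show Y * (z * V 4) * Y⁻¹ = z by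
          rw [← conj_mul, hYz, hYs, ← mul_assoc, (v_comm_z h 4).eq, mul_assoc,
            vmul h (by norm_num) (by norm_num), f14, v_zero h, mul_one])
        simpa [mul_assoc] using e.symm] at h5
      have := hp'z.mul_right h5
      rwa [← mul_assoc, h.frame.z_sq, one_mul] at this
    obtain ⟨t, ht, hct, -⟩ := exists_row h hY' (hp'z.mul_left h₂)
    have hns' : comm t.1 4 = false := by
      by_contra hcon
      rw [Bool.not_eq_false] at hcon
      rw [← commute_iff_codes h (row_spec h ht).1 (by norm_num), ← hct] at hcon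
      refine hns ?_
      have h5 := (Commute.conj_iff p'⁻¹).2 hcon
      rwa [inv_inv, show p'⁻¹ * V 4 * p' = V 4 by rw [hp's.inv_left.eq, inv_mul_cancel_right],
        show p'⁻¹ * (p' * c₂ * V 6 * (p' * c₂)⁻¹) * p' = c₂ * V 6 * c₂⁻¹ by group] at h5
    have hh := hyper_ok
    simp only [List.all_eq_true, Bool.or_eq_true, List.any_eq_true, List.mem_map, mem, Nat.beq_eq,
      forall_exists_index, and_imp, forall_apply_eq_imp_iff₂] at hh
    rcases hh w₄ hw₄ t ht with e | ⟨q, hq, hqU⟩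
    · rw [hns'] at e; exact Bool.noConfusion e
    obtain ⟨⟨⟨hq6, hqi⟩, hq2⟩, hqW⟩ := f6 q hq
    obtain ⟨⟨⟨q1, q2⟩, q3⟩, q4⟩ := hfar q hq
    obtain ⟨r1, r2, r3, re, rz, rc, -⟩ := row_spec h ht
    obtain ⟨d, hd⟩ : ∃ d, d = (V t.2.1)⁻¹ * (p' * c₂) := ⟨_, rfl⟩
    have hdz : Commute d z := hd ▸ rz.inv_left.mul_left (hp'z.mul_left h₂)
    have hd6 : Commute d (V 6) := by
      rw [commute_iff_eq, ← mul_inv_eq_iff_eq_mul, hd,
        show (V t.2.1)⁻¹ * (p' * c₂) * V 6 * ((V t.2.1)⁻¹ * (p' * c₂))⁻¹ =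
          (V t.2.1)⁻¹ * (p' * c₂ * V 6 * (p' * c₂)⁻¹) * V t.2.1 by group, hct, ← rc]
      group
    refine ⟨(V q.1, V q.2.2.1), List.mem_map_of_mem hq, fun w hw hwr => ?_⟩
    obtain ⟨b, hb, hbe⟩ := u_of_commute h (hconj d hdz w hw) (Or.inl (by
      have := (Commute.conj_iff d).2 hwr
      rwa [show d * V 6 * d⁻¹ = V 6 by rw [hd6.eq, mul_inv_cancel_right]] at this))
    obtain ⟨_, ⟨b', hb', rfl⟩, e'⟩ := hqU b hb
    obtain ⟨k1, k1'⟩ := cj_spec h r2 r3 (w_lt h (u_spec h hb).1) re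
    obtain ⟨k2, k2'⟩ := cj_spec h q3 q4 (w_lt h (u_spec h hb').1) hq2
    obtain ⟨bW, hbW, ebW⟩ := f7 t ht b hb
    obtain ⟨b'W, hb'W, eb'W⟩ := hqW b' hb'
    rw [ebW] at k1
    rw [eb'W] at k2
    obtain ⟨y1, y1'⟩ := y_image h hY' hY hbW
    obtain ⟨y2, y2'⟩ := y_image h hY' hY hb'W
    refine ⟨V b', ⟨b', (u_spec h hb').1, rfl⟩, (u_spec h hb').2, ?_⟩
    have hc₁ : c₁ * Y * c₂ = V w₄.2.1 * Y * V t.2.1 * d := by rw [hd, hp', hp]; group
    rw [hc₁, show V w₄.2.1 * Y * V t.2.1 * d * w * (V w₄.2.1 * Y * V t.2.1 * d)⁻¹ =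
        V w₄.2.1 * (Y * (V t.2.1 * (d * w * d⁻¹) * (V t.2.1)⁻¹) * Y⁻¹) * (V w₄.2.1)⁻¹ by group,
      show V q.1 * Y * V q.2.2.1 * V b' * (V q.1 * Y * V q.2.2.1)⁻¹ =
        V q.1 * (Y * (V q.2.2.1 * V b' * (V q.2.2.1)⁻¹) * Y⁻¹) * (V q.1)⁻¹ by group,
      ← hbe, k1, k2, y1, y2, (cj_spec h (hr4 w₄ hw₄).1.2 (hr4 w₄ hw₄).2 (w_lt h y1') (h2 w₄ hw₄).1).1,
      (cj_spec h q1 q2 (w_lt h y2') hqi).1, ← ebW, ← eb'W]
    exact congrArg _ e'
  · intro p hp
    obtain ⟨q, hq, rfl⟩ := List.mem_map.1 hp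
    obtain ⟨⟨⟨hq6, -⟩, -⟩, -⟩ := f6 q hq
    exact ⟨v_comm_z h _, (commute_iff_codes h (hfar q hq).1.1.1 (by norm_num)).2 hq6, v_comm_z h _⟩
  · rw [List.length_map]; decide
  · -- kick
    rw [show Y' * Y * z * (Y' * Y)⁻¹ = Y' * (Y * z * Y⁻¹) * Y'⁻¹ by group, hYz,
      (act_four h hY' (Or.inl kick_ok.2.2.1)).1,
      show Y * Y' * z * (Y * Y')⁻¹ = Y * (Y' * z * Y'⁻¹) * Y⁻¹ by group, Y'_z h hY',
      (act_three h hY' hY (Or.inr kick_ok.2.1)).1]
  · -- inj
    intro c hc hu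
    obtain ⟨t, ht, hct, -⟩ := exists_row h hY' hc
    rw [hct] at hu ⊢
    have h6 : (6, 0, 0, [0, 6, 132, 130, 10820, 10818, 9536, 9542]) ∈ rows6 := by decide
    have h0 : V 0 * Y' = Y' := by rw [v_zero h, one_mul]
    obtain ⟨a, ha, e⟩ := (mem_row_iff h hY' h6 (V t.1)).1 ⟨by rw [h0]; exact hu, v_comm_z h _⟩
    have ea := h.inj MA0.good ((row_spec h h6).2.2.2.2.2.2 a ha) (row_spec h ht).1 e
    rcases f4 t ht with e1 | e1
    · exfalso
      have hT : [0, 6, 132, 130, 10820, 10818, 9536, 9542] = yU.map fun s => s.2.1 := by decide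
      have : (yU.map fun s => s.2.1).any (fun b => Nat.beq t.1 b) = true :=
        List.any_eq_true.2 ⟨a, hT ▸ ha, by rw [ea]; exact Nat.beq_refl _⟩
      rw [this] at e1
      exact Bool.noConfusion e1
    · rw [e1]
  · -- card_orbit
    classical
    have : {u : G | ∃ c, Commute c z ∧ c * V 6 * c⁻¹ = u} = (((rows6.map Prod.fst).map V).toFinset : Set G) := by
      ext u
      simp only [Set.mem_setOf_eq, List.coe_toFinset, List.map_map, List.mem_map, Function.comp_apply]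
      constructor
      · rintro ⟨c, hc, rfl⟩
        obtain ⟨t, ht, e, -⟩ := exists_row h hY' hc
        exact ⟨t, ht, e.symm⟩
      · rintro ⟨t, ht, rfl⟩
        exact ⟨V t.2.1, v_comm_z h _, (row_spec h ht).2.2.2.2.2.1⟩
    rw [show Nat.card {u : G // ∃ c, Commute c z ∧ c * V 6 * c⁻¹ = u} =
        Set.ncard {u : G | ∃ c, Commute c z ∧ c * V 6 * c⁻¹ = u} from Nat.card_coe_set_eq _,
      this, Set.ncard_coe_finset, List.toFinset_card_of_nodup (hVinj _ (fun a ha => by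
        obtain ⟨t, ht, rfl⟩ := List.mem_map.1 ha
        exact (row_spec h ht).1) rows_ok.2.2.2.2.2.1), List.length_map, List.length_map,
      rows_ok.2.2.2.2.2.2]
  · -- fresh
    obtain ⟨t, ht, hall⟩ := f5
    refine ⟨V t.2.1, v_comm_z h _, fun u hu huz hus => ?_⟩
    obtain ⟨a, ha, rfl⟩ := (mem_row_iff h hY' ht u).1 ⟨hu, huz⟩
    rcases hall a ha with rfl | e
    · exact v_zero h
    · rw [(commute_iff_codes h ((row_spec h ht).2.2.2.2.2.2 a ha) (by norm_num)).1 hus] at e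
      exact Bool.noConfusion e
  · -- seven
    have hs := seven_ok.1
    simp only [List.all_eq_true, Nat.beq_eq] at hs
    have h7 : ∀ g ∈ ([2765, 12982] : List ℕ), V g ∈ Subgroup.closure {g : G | Commute g z ∧ g ^ 7 = 1} := by
      intro g hg
      have hlt : g < 21504 := by
        have : ∀ g ∈ ([2765, 12982] : List ℕ), g < 21504 := by decide
        exact this g hg
      refine Subgroup.subset_closure ⟨v_comm_z h g, ?_⟩
      have e := hs g hg
      rw [← v_zero h, ← e]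
      simp only [evW, List.replicate, List.foldl_cons, List.foldl_nil, List.getD_cons_zero]
      have hb : ∀ i, i < 21504 → Mdl.mul D₀ i g < 21504 := fun i hi => mul_bound h hi hlt
      rw [← vmul h (hb _ (hb _ (hb _ (hb _ (hb _ (hb _ (by norm_num))))))) hlt,
        ← vmul h (hb _ (hb _ (hb _ (hb _ (hb _ (by norm_num)))))) hlt,
        ← vmul h (hb _ (hb _ (hb _ (hb _ (by norm_num))))) hlt,
        ← vmul h (hb _ (hb _ (hb _ (by norm_num)))) hlt,
        ← vmul h (hb _ (hb _ (by norm_num))) hlt, ← vmul h (hb _ (by norm_num)) hlt,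
        ← vmul h (by norm_num) hlt, v_zero h]
      simp only [pow_succ, pow_zero, one_mul]
    refine ⟨V 17455, ?_, ?_⟩
    · rw [← seven_ok.2.1, ← vmul h (mul_bound h (by norm_num) (by norm_num)) (by norm_num),
        ← vmul h (by norm_num) (by norm_num)]
      exact mul_mem (mul_mem (h7 _ (by simp)) (h7 _ (by simp))) (h7 _ (by simp))
    · rw [hzs]
      exact conj_codes h (by norm_num) (by norm_num) (by norm_num) seven_ok.2.2

end

/-- Both classes of four-groups of linear type: impossible at the order of He. -/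
theorem _root_.CfsgLib.Sporadic.HeldUnique.lin_false (hG : Nat.card G = 4030387200)
    (h : Mdl.Loc MA0.mdl Q z v x y) {Y Y' : G} (hY : Mate MA0.mdl v z x y Y linThree)
    (hY' : Mate MA0.mdl v z x y Y' linFour) : False :=
  (data h hY' hY).false_of_card hG h.card_C

end CfsgLib.Sporadic.HeldUnique.LinKill
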