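import Cfsg.Agent.Lib.Sporadic.HeldUnique.Local

/-!
# Elements of order three outside the centraliser

`Mate D v z x y Y ps` says that `Y` has cube `1` and conjugates the first code of each pair to the
second. The four lists below are the possible actions on the centraliser of a four-group: two of
Held type, two of the type found in `L₅(2)`.
-/

set_option autoImplicit false

namespace CfsgLib.Sporadic.HeldUnique

variable {G : Type*} [Group G]

/-- An element of order three with given action on some coded elements. -/
structure Mate (D : Mdl) (v : ℕ → G) (z x y Y : G) (ps : List (ℕ × ℕ)) : Prop where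
  cube : Y * Y * Y = 1
  act : ∀ e ∈ ps, Y * D.val v z x y e.1 * Y⁻¹ = D.val v z x y e.2

/-- The Held type for the first class. -/
def heTwo : List (ℕ × ℕ) := [(10, 10324), (80, 10250), (10240, 81), (11011, 11011), (1742, 1742)]

/-- The Held type for the second class. -/
def heFive : List (ℕ × ℕ) := [(48, 54), (64, 10820), (10754, 71), (11408, 11408), (1873, 1873)]

/-- The linear type for the first class. -/
def linThree : List (ℕ × ℕ) := [(10, 10324), (80, 84), (10240, 10255), (11011, 11011), (1743, 1743)]

/-- The linear type for the second class. -/
def linFour : List (ℕ × ℕ) := [(48, 10804), (64, 10820), (10754, 71), (11408, 11408), (1872, 1872)]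

end CfsgLib.Sporadic.HeldUnique
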