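import Cfsg.Agent.Lib.Sporadic.HeldUnique.Models
import Cfsg.Agent.Lib.Sporadic.HeldUnique.Mate

/-!
# Two four-groups of linear type: the tables

Machine-generated tables on the codes of model A0 and their kernel checks.
-/

set_option autoImplicit false
set_option maxRecDepth 100000
set_option Elab.async false

namespace CfsgLib.Sporadic.HeldUnique.LinKill

/-- The sixteen-group. -/
def wList : List ℕ := [0, 1, 4, 5, 16, 17, 20, 21, 64, 65, 68, 69, 80, 81, 84, 85]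

/-- Its members centralising the code 6. -/
def uList : List ℕ := [0, 1, 4, 5, 64, 65, 68, 69]

/-- Action of the first element on the sixteen-group: code, image, word. -/
def yW : List (ℕ × ℕ × List ℕ) := [⟨0, 0, []⟩, ⟨1, 4, [0, 3, 0, 3, 0, 3]⟩, ⟨4, 5, [1, 3, 2, 3, 3, 1, 3, 2, 3, 3]⟩, ⟨5, 1, [1, 3, 1, 3, 1, 3]⟩, ⟨16, 16, [1, 3, 1, 3, 3]⟩, ⟨17, 20, [2, 3, 3, 1, 3, 2]⟩, ⟨20, 21, [0, 3, 3, 1, 3, 0]⟩, ⟨21, 17, [3, 3, 1, 3]⟩, ⟨64, 68, [3, 1, 3, 3]⟩, ⟨65, 64, [0, 3, 1, 3, 3, 0]⟩, ⟨68, 65, [2, 3, 1, 3, 3, 2]⟩, ⟨69, 69, [1, 3, 3, 1, 3]⟩, ⟨80, 84, [1]⟩, ⟨81, 80, [0, 1, 3, 0, 3, 0, 3]⟩, ⟨84, 81, [3, 2, 3, 3, 1, 3, 2, 3, 3]⟩, ⟨85, 85, [3, 1, 3, 1, 3]⟩]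

/-- Action of the second element on the eight: code, image, word. -/
def yU : List (ℕ × ℕ × List ℕ) := [⟨0, 0, []⟩, ⟨1, 6, [0, 3, 1, 3, 3, 0, 3, 1, 3, 3]⟩, ⟨4, 132, [3, 3, 1, 3]⟩, ⟨5, 130, [0, 3, 3, 1, 3, 0]⟩, ⟨64, 10820, [1]⟩, ⟨65, 10818, [3, 0, 3, 3, 1, 3, 0, 3, 3]⟩, ⟨68, 9536, [3, 1, 3, 3]⟩, ⟨69, 9542, [0, 3, 1, 3, 3, 0]⟩]

/-- The class of 4: code, representative, inverse. -/
def rows4 : List (ℕ × ℕ × ℕ) := [⟨4, 0, 0⟩, ⟨5, 32, 32⟩, ⟨16, 1280, 3904⟩, ⟨17, 1391, 3936⟩, ⟨20, 1024, 2752⟩, ⟨21, 1133, 2784⟩, ⟨64, 640, 272⟩, ⟨65, 696, 304⟩, ⟨68, 1792, 1856⟩, ⟨69, 1888, 1888⟩, ⟨80, 384, 1168⟩, ⟨81, 412, 1200⟩, ⟨84, 256, 656⟩, ⟨85, 280, 688⟩]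

/-- The class of 6: code, representative, inverse, the eight. -/
def rows6 : List (ℕ × ℕ × ℕ × List ℕ) := [⟨6, 0, 0, [0, 6, 132, 130, 10820, 10818, 9536, 9542]⟩, ⟨7, 16, 16, [0, 7, 128, 135, 10756, 10755, 9476, 9475]⟩, ⟨10, 256, 656, [0, 10, 1680, 1690, 10324, 10334, 2964, 2974]⟩, ⟨11, 272, 640, [0, 11, 1732, 1743, 10320, 10331, 3012, 3023]⟩, ⟨12, 1664, 1748, [0, 12, 9044, 9048, 17940, 17944, 19472, 19484]⟩, ⟨13, 1732, 1732, [0, 13, 9040, 9053, 17920, 17933, 19456, 19469]⟩, ⟨112, 896, 528, [0, 112, 3092, 3173, 15040, 15024, 12480, 12464]⟩, ⟨113, 916, 512, [0, 113, 3156, 3108, 14992, 15073, 12496, 12449]⟩, ⟨118, 656, 256, [0, 118, 1872, 1830, 11156, 11235, 8788, 8739]⟩, ⟨119, 640, 272, [0, 119, 1808, 1895, 11200, 11191, 8768, 8759]⟩, ⟨122, 3200, 1620, [0, 122, 13120, 13114, 17732, 17727, 20816, 20778]⟩, ⟨123, 3284, 1604, [0, 123, 13072, 13163, 17664, 17787, 20804, 20798]⟩,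 ⟨124, 2768, 1092, [0, 124, 9620, 9705, 19200, 19324, 21316, 21305]⟩, ⟨125, 2688, 1108, [0, 125, 9664, 9661, 19268, 19256, 21332, 21288]⟩]

/-- Points over the code 4: code, image, word. -/
def overList : List (ℕ × ℕ × List ℕ) := [⟨6, 132, [3, 0, 3, 3]⟩, ⟨7, 128, [0, 3, 3, 0, 3]⟩, ⟨10, 10324, [0]⟩, ⟨11, 10320, [3, 0, 3, 0, 3]⟩, ⟨12, 9044, [0, 3, 0, 3, 3]⟩, ⟨13, 9040, [3, 3, 0, 3]⟩]

/-- The second element on a member of each point: code, image, word. -/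
def stepList : List (ℕ × ℕ × List ℕ) := [⟨6, 7, [2, 3, 2, 3, 2, 3]⟩, ⟨7, 1, [0, 3, 0, 3, 0, 3]⟩, ⟨10, 11, [3, 3, 0, 1, 3]⟩, ⟨11, 13, [3, 1, 3, 0, 3, 1]⟩, ⟨12, 12, [3, 0, 3, 1, 3, 0]⟩, ⟨13, 10, [0, 3, 0, 3, 1, 3]⟩, ⟨112, 113, [0, 1]⟩, ⟨113, 119, [3, 1, 3, 3, 0, 3, 3, 1, 3]⟩, ⟨118, 118, [3, 0, 1, 3, 0, 1, 3]⟩, ⟨119, 112, [1, 3, 0, 3, 0, 3]⟩, ⟨122, 122, [0, 3, 1, 3, 0, 3]⟩, ⟨123, 124, [3, 1, 3, 0, 3, 0]⟩, ⟨124, 125, [3, 0, 1, 3, 3]⟩, ⟨125, 123, [1, 3, 0, 3, 1, 3]⟩]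

/-- The far points: first part, inverse, second part, inverse. -/
def farList : List (ℕ × ℕ × ℕ × ℕ) := [⟨0, 0, 640, 272⟩, ⟨2, 2, 640, 272⟩, ⟨8, 8, 640, 272⟩, ⟨10, 10, 640, 272⟩, ⟨48, 48, 640, 272⟩, ⟨50, 51, 640, 272⟩, ⟨56, 56, 640, 272⟩, ⟨58, 59, 640, 272⟩]

/-- The product of a word in listed codes. -/
noncomputable def evW (xs : List ℕ) (w : List ℕ) : ℕ :=
  w.foldl (fun acc i => MA0.mdl.mul acc (xs.getD i 0)) 0

/-- A certified action. -/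
noncomputable def actOK (ps : List (ℕ × ℕ)) (t : ℕ × ℕ × List ℕ) : Bool :=
  Nat.beq (evW (ps.map Prod.fst) t.2.2) t.1 && Nat.beq (evW (ps.map Prod.snd) t.2.2) t.2.1

/-- The image under the first element. -/
def yImage (b : ℕ) : ℕ := ((yW.find? fun t => Nat.beq t.1 b).map fun t => t.2.1).getD 0

/-- Conjugation of codes. -/
noncomputable def cj (c ci b : ℕ) : ℕ := MA0.mdl.mul (MA0.mdl.mul c b) ci

/-- Commuting codes. -/
noncomputable def comm (a b : ℕ) : Bool := Nat.beq (MA0.mdl.mul a b) (MA0.mdl.mul b a)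

/-- Membership. -/
def mem (a : ℕ) (l : List ℕ) : Bool := l.any fun b => Nat.beq a b

/-- The generators of the centraliser. -/
def genList : List ℕ := [2, 4, 8, 16, 32, 64, 1, 128, 256]

theorem acts_ok : yW.all (actOK linThree) = true ∧ yU.all (actOK linFour) = true ∧
    overList.all (actOK linThree) = true ∧ stepList.all (actOK linFour) = true ∧
    yU.map Prod.fst = uList ∧ yW.map Prod.fst = wList := by decide +kernel

theorem bounds_ok :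
    (wList.all fun a => Nat.blt a 21504) = true ∧
    (rows4.all fun t => Nat.blt t.1 21504 && Nat.blt t.2.1 21504 && Nat.blt t.2.2 21504) = true ∧
    (rows6.all fun t => Nat.blt t.1 21504 && Nat.blt t.2.1 21504 && Nat.blt t.2.2.1 21504 &&
      t.2.2.2.all fun a => Nat.blt a 21504) = true ∧
    (farList.all fun t => Nat.blt t.1 21504 && Nat.blt t.2.1 21504 && Nat.blt t.2.2.1 21504 &&
      Nat.blt t.2.2.2 21504) = true ∧
    (genList.all fun a => Nat.blt a 21504) = true ∧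
    (linThree.all fun e => Nat.blt e.1 21504 && Nat.blt e.2 21504) = true ∧
    (linFour.all fun e => Nat.blt e.1 21504 && Nat.blt e.2 21504) = true := by decide +kernel

theorem lw_ok : MA0.mdl.lw.getD 1 [] = [7] ∧ MA0.mdl.lw.getD 2 [] = [9] := by decide +kernel

theorem wList_ok :
    (wList.all fun a => Nat.beq (MA0.mdl.mul a a) 0 &&
      wList.all fun b => mem (MA0.mdl.mul a b) wList && comm a b) = true ∧
    (genList.all fun c => wList.all fun a => wList.any fun b =>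
      Nat.beq (MA0.mdl.mul c a) (MA0.mdl.mul b c)) = true ∧
    (yW.all fun t => mem t.2.1 wList) = true ∧
    (uList.all fun a => mem a wList && comm a 6) = true ∧
    (wList.all fun a => !comm a 6 || mem a uList) = true ∧
    (wList.all fun a => !comm a 7 || mem a uList) = true ∧
    wList.Nodup ∧ uList.Nodup ∧ wList.length = 16 ∧ uList.length = 8 := by decide +kernel

theorem rows_ok :
    (rows4.all fun t => Nat.beq (MA0.mdl.mul t.2.1 t.2.2) 0 &&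
      Nat.beq (MA0.mdl.mul t.2.1 4) (MA0.mdl.mul t.1 t.2.1)) = true ∧
    (wList.all fun a => Nat.beq a 0 || Nat.beq a 1 || mem a (rows4.map Prod.fst)) = true ∧
    (rows4.all fun t => mem t.1 wList) = true ∧
    (rows6.all fun t => Nat.beq (MA0.mdl.mul t.2.1 t.2.2.1) 0 &&
      Nat.beq (MA0.mdl.mul t.2.1 6) (MA0.mdl.mul t.1 t.2.1) &&
      Nat.beq t.2.2.2.length 8 && (List.range 8).all fun i =>
        Nat.beq (MA0.mdl.mul t.2.1 ((yU.map fun s => s.2.1).getD i 0))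
          (MA0.mdl.mul (t.2.2.2.getD i 0) t.2.1)) = true ∧
    (genList.all fun c => rows6.all fun t => rows6.any fun t' =>
      Nat.beq (MA0.mdl.mul c t.1) (MA0.mdl.mul t'.1 c)) = true ∧
    (rows6.map Prod.fst).Nodup ∧ rows6.length = 14 := by decide +kernel

/-- The checks behind the hypotheses of the counting argument. -/
theorem facts_ok :
    (rows6.all fun t => Nat.beq t.1 6 || Nat.beq t.1 7 || t.2.2.2.all fun a =>
      Nat.beq a 0 || uList.any fun b => !comm a b) = true ∧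
    (rows6.all fun t => !comm t.1 4 || overList.any fun o => Nat.beq o.1 t.1 && mem o.2.1 t.2.2.2) = true ∧
    (rows6.all fun t => stepList.any fun o => Nat.beq o.1 t.1 &&
      (mem o.2.1 wList || rows6.any fun t' => mem o.2.1 t'.2.2.2)) = true ∧
    (rows6.all fun t => !mem t.1 ((yU.map fun s => s.2.1)) || Nat.beq t.1 6) = true ∧
    (rows6.any fun t => t.2.2.2.all fun a => Nat.beq a 0 || !comm a 4) = true ∧
    (farList.all fun p => comm p.1 6 && Nat.beq (MA0.mdl.mul p.1 p.2.1) 0 &&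
      Nat.beq (MA0.mdl.mul p.2.2.1 p.2.2.2) 0 && uList.all fun b => mem (cj p.2.2.1 p.2.2.2 b) wList) = true ∧
    (rows6.all fun t => uList.all fun b => mem (cj t.2.1 t.2.2.1 b) wList) = true ∧
    MA0.mdl.mul 16 6 = MA0.mdl.mul 7 16 ∧ mem 6 wList = false ∧
    comm 6 1 = true ∧ MA0.mdl.mul 1 4 = 5 ∧ MA0.mdl.mul 1 6 = 7 ∧ MA0.mdl.mul 1 1 = 0 ∧
    MA0.mdl.mul 4 4 = 0 := by
  decide +kernel

theorem hyper_ok : (rows4.all fun w => rows6.all fun t => comm t.1 4 || farList.any fun p =>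
    (uList.map fun b => cj w.2.1 w.2.2 (yImage (cj t.2.1 t.2.2.1 b))).all fun x =>
      mem x (uList.map fun b => cj p.1 p.2.1 (yImage (cj p.2.2.1 p.2.2.2 b)))) = true := by
  decide +kernel

theorem seven_ok :
    (([2765, 12982] : List ℕ).all fun g => Nat.beq (evW [g] (List.replicate 7 0)) 0) = true ∧
    MA0.mdl.mul (MA0.mdl.mul 12982 2765) 2765 = 17455 ∧
    MA0.mdl.mul 17455 4 = MA0.mdl.mul 5 17455 := by decide +kernel

theorem kick_ok : (1, 4, [0, 3, 0, 3, 0, 3]) ∈ yW ∧ (6, 132, [3, 0, 3, 3]) ∈ overList ∧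
    (4, 132, [3, 3, 1, 3]) ∈ yU ∧ (1, 6, [0, 3, 1, 3, 3, 0, 3, 1, 3, 3]) ∈ yU ∧
    (6, 7, [2, 3, 2, 3, 2, 3]) ∈ stepList := by decide +kernel

end CfsgLib.Sporadic.HeldUnique.LinKill
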