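import Cfsg.Agent.Lib.Sporadic.HeldUnique.Model

/-!
# The centraliser as a set of codes

When the hypotheses of a model hold and the centraliser has order `21504`, the values of the codes
enumerate it, and the multiplication of the model is that of the group.
-/

set_option autoImplicit false
set_option maxRecDepth 100000
set_option linter.style.haveILetI false

namespace CfsgLib.Sporadic.HeldUnique

open CosetCert

variable {G : Type*} [Group G] {Q : Subgroup G} {z : G} {v : ℕ → G}

namespace Frame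

theorem qe_eq_one (h : Frame Q z v) (hz : z ≠ 1) {c : ℕ} (hc : c < 128) (e : qe v z c = 1) :
    c = 0 := by
  have hdec : ∀ c < 128, c = 0 ∨ c = 1 ∨ ∃ i < 6,
      qmul (2 ^ (i + 1)) c = qmul (qmul c (2 ^ (i + 1))) 1 := by decide +kernel
  rcases hdec c hc with h0 | rfl | ⟨i, hi, he⟩
  · exact h0
  · rw [qe_z_code] at e; exact absurd e hz
  · have hp : 2 ^ (i + 1) < 128 :=
      lt_of_lt_of_le (Nat.pow_lt_pow_right (by norm_num) (by omega : i + 1 < 7)) (by norm_num)
    have := congrArg (qe v z) he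
    rw [← h.qe_mul _ hp _ hc, ← h.qe_mul _ (qmul_lt _ hc _ hp) _ (by norm_num), ← h.qe_mul _ hc _ hp,
      e, qe_z_code, mul_one, one_mul, left_eq_mul] at this
    exact absurd this hz

theorem qe_inj (h : Frame Q z v) (hz : z ≠ 1) {a b : ℕ} (ha : a < 128) (hb : b < 128)
    (e : qe v z a = qe v z b) : a = b := by
  have hdec : ∀ a < 128, qinv a < 128 ∧ qmul (qinv a) a = 0 ∧
      ∀ b < 128, qmul (qinv a) b = 0 → a = b := by decide +kernel
  obtain ⟨hi, h0, huniq⟩ := hdec a ha
  refine huniq b hb (h.qe_eq_one hz (qmul_lt _ hi _ hb) ?_)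
  rw [← h.qe_mul _ hi _ hb, ← e, h.qe_mul _ hi _ ha, h0, qe_one]

theorem qe_surj [Finite G] (h : Frame Q z v) (hz : z ≠ 1) (hQ : Nat.card Q = 128) {g : G}
    (hg : g ∈ Q) : ∃ a < 128, qe v z a = g := by
  obtain ⟨a, ha⟩ := ((Nat.bijective_iff_injective_and_card
    (fun a : Fin 128 => (⟨qe v z a, h.qe_mem a⟩ : Q))).2
      ⟨fun a b e => Fin.ext (h.qe_inj hz a.isLt b.isLt (congrArg Subtype.val e)),
        by rw [Nat.card_fin, hQ]⟩).2 ⟨g, hg⟩
  exact ⟨a, a.isLt, congrArg Subtype.val ha⟩

end Frame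

namespace Mdl

/-- The action of a word modulo the centre, packed. -/
noncomputable def key (D : Mdl) (l : ℕ) : ℕ :=
  ((List.range 6).map fun i => (D.actOf l (2 ^ (i + 1)) / 2) * 64 ^ i).sum

/-- A checked model. -/
structure Good (D : Mdl) : Prop where
  ok : D.OK
  cert : ∃ (C : Cert) (top : ℕ), C.Valid ∧ (List.range C.nr).map (certWord C) = D.rels ∧
    (C.nr = C.words.length ∧ C.nl = 11 ∧
      ∀ i < 11, C.inv i = [0, 1, 2, 3, 4, 5, 6, 8, 7, 10, 9].getD i 0) ∧ D.edgesOK C top = true
  keys : ((List.range 168).map D.key).Nodup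
  fix_z : D.gtab 7 1 = 1 ∧ D.gtab 9 1 = 1

/-- The hypotheses under which a model describes the centraliser. -/
structure Loc (D : Mdl) (Q : Subgroup G) (z : G) (v : ℕ → G) (x y : G) : Prop
    extends Rels D Q z v x y where
  z_ne : z ≠ 1
  card_Q : Nat.card Q = 128
  card_C : Nat.card (Subgroup.centralizer ({z} : Set G)) = 21504

variable {D : Mdl} {x y : G}

theorem val_eq (D : Mdl) (v : ℕ → G) (z x y : G) {a l : ℕ} (ha : a < 128) :
    D.val v z x y (a + 128 * l) = qe v z a * wp (letters v z x y) (D.lw.getD l []) := by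
  have h1 : (a + 128 * l) % 128 = a := by omega
  have h2 : (a + 128 * l) / 128 = l := by omega
  rw [val, h1, h2]

theorem act_lt' (hD : D.OK) {l a : ℕ} (hl : l < 168) (ha : a < 128) : D.actOf l a < 128 :=
  Nat.blt_eq.mp (of_allBelow (of_allBelow hD.act_lt l hl) a ha)

theorem word_mul (h : Rels D Q z v x y) (hD : D.Good) : ∀ j < 168, ∀ l < 168,
    wp (letters v z x y) (D.lw.getD l []) * wp (letters v z x y) (D.lw.getD j []) =
      qe v z (D.kapOf l j) * wp (letters v z x y) (D.lw.getD (D.lmOf l j) []) ∧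
    D.kapOf l j < 128 ∧ D.lmOf l j < 168 := by
  obtain ⟨C, top, hV, hC, hs, he⟩ := hD.cert
  intro j
  induction j using Nat.strong_induction_on with
  | _ j ih =>
    intro hj l hl
    rcases Nat.eq_zero_or_pos j with rfl | hpos
    · have := of_allBelow hD.ok.kap_zero l hl
      simp only [Bool.and_eq_true, Nat.beq_eq] at this
      rw [this.1, this.2, hD.ok.lw_zero.1]
      simp [wp, Frame.qe_one, hl]
    · have hp := of_allBelow hD.ok.par_ok j hj
      have hk := of_allBelow (of_allBelow hD.ok.kap_ok l hl) j hj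
      simp only [Bool.or_eq_true, Nat.beq_eq, Bool.and_eq_true, Nat.blt_eq, beq_iff_eq] at hp hk
      obtain ⟨⟨hlt, hg⟩, hw⟩ := hp.resolve_left (by omega)
      obtain ⟨⟨⟨hlm, hlm'⟩, hk'⟩, hkap⟩ := hk.resolve_left (by omega)
      obtain ⟨ih1, ih2, ih3⟩ := ih _ hlt (hlt.trans hj) l hl
      refine ⟨?_, hk', hlm'⟩
      have hst : (D.step (D.par.getD j (0, 0)).2 (D.lmOf l (D.par.getD j (0, 0)).1)).1 < 128 := by
        have := of_allBelow hD.ok.step_lt _ ih3
        simp only [Bool.and_eq_true, Nat.blt_eq] at this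
        rcases hg with e | e <;> rw [e]
        exacts [this.1.1.1, this.1.2]
      rw [hw, wp_append, wp, wp, mul_one, ← mul_assoc, ih1, mul_assoc,
        h.edge hD.ok hV hC hs he hg ih3, ← mul_assoc, h.frame.qe_mul _ ih2 _ hst, ← hkap, ← hlm]

theorem mul_spec (h : Rels D Q z v x y) (hD : D.Good) {i j : ℕ} (hi : i < 21504) (hj : j < 21504) :
    D.val v z x y i * D.val v z x y j = D.val v z x y (D.mul i j) ∧ D.mul i j < 21504 := by
  have hl : i / 128 < 168 := by omega
  have hl' : j / 128 < 168 := by omega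
  have ha : i % 128 < 128 := Nat.mod_lt _ (by norm_num)
  have hb : j % 128 < 128 := Nat.mod_lt _ (by norm_num)
  obtain ⟨e, hk, hm⟩ := word_mul h hD _ hl' _ hl
  have hact := act_lt' hD.ok hl hb
  have hq1 := qmul_lt _ ha _ hact
  have hq := qmul_lt _ hq1 _ hk
  have hmul : D.mul i j = qmul (qmul (i % 128) (D.actOf (i / 128) (j % 128)))
      (D.kapOf (i / 128) (j / 128)) + 128 * D.lmOf (i / 128) (j / 128) := Nat.add_comm _ _
  refine ⟨?_, by omega⟩
  rw [hmul, val_eq _ _ _ _ _ hq, val, val, mul_assoc, ← mul_assoc _ (qe v z (j % 128)),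
    h.conj_word hD.ok _ hl _ hb, mul_assoc (qe v z (D.actOf _ _)), e, ← h.frame.qe_mul _ hq1 _ hk,
    ← h.frame.qe_mul _ ha _ hact]
  simp only [mul_assoc]

theorem val_zero (D : Mdl) (hD : D.OK) (v : ℕ → G) (z x y : G) : D.val v z x y 0 = 1 := by
  rw [val]; simp only [Nat.zero_mod, Nat.zero_div, hD.lw_zero.1]; simp [wp, Frame.qe_one]

theorem val_z (D : Mdl) (hD : D.OK) (v : ℕ → G) (z x y : G) : D.val v z x y 1 = z := by
  rw [val]; simp only [show 1 % 128 = 1 from rfl, show 1 / 128 = 0 from rfl, hD.lw_zero.1]; simp [wp, Frame.qe_z_code]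

theorem letters_comm (h : Rels D Q z v x y) (hD : D.Good) :
    ∀ i, letters v z x y i * z = z * letters v z x y i := by
  have hg : ∀ g, g = 7 ∨ g = 9 → letters v z x y g * z = z * letters v z x y g := fun g hg => by
    have := h.conj_gen hg (show 0 < 7 by norm_num)
    rw [pow_zero] at this
    rcases hg with rfl | rfl
    · rwa [hD.fix_z.1, Frame.qe_z_code] at this
    · rwa [hD.fix_z.2, Frame.qe_z_code] at this
  have hx := hg 7 (Or.inl rfl)
  have hy := hg 9 (Or.inr rfl)
  intro i
  rw [letters]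
  split_ifs
  · exact h.frame.qletters_z_comm i
  · simpa [letters] using hx
  · have : x * z = z * x := by simpa [letters] using hx
    exact (Commute.inv_left this)
  · simpa [letters] using hy
  · have : y * z = z * y := by simpa [letters] using hy
    exact (Commute.inv_left this)
  · simp

theorem val_mem (h : Rels D Q z v x y) (hD : D.Good) (i : ℕ) :
    D.val v z x y i ∈ Subgroup.centralizer ({z} : Set G) :=
  Subgroup.mul_mem _ (Subgroup.mem_centralizer_singleton_iff.2 (h.frame.qe_z _))
    (wp_mem _ fun j _ => Subgroup.mem_centralizer_singleton_iff.2 (letters_comm h hD j))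

theorem val_inj (h : Rels D Q z v x y) (hz : z ≠ 1) (hD : D.Good) {i j : ℕ} (hi : i < 21504)
    (hj : j < 21504) (e : D.val v z x y i = D.val v z x y j) : i = j := by
  have hl : i / 128 < 168 := by omega
  have hl' : j / 128 < 168 := by omega
  have ha : i % 128 < 128 := Nat.mod_lt _ (by norm_num)
  have ha' : j % 128 < 128 := Nat.mod_lt _ (by norm_num)
  have hcc : ∀ a < 128, qinv a < 128 ∧ qmul a (qinv a) = 0 ∧ qmul (qinv a) a = 0 ∧
      ∀ c < 128, qmul (qmul a c) (qinv a) / 2 = c / 2 := by decide +kernel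
  -- the action of a code on a coded element
  have key : ∀ a l : ℕ, a < 128 → l < 168 → ∀ b < 128,
      qe v z a * wp (letters v z x y) (D.lw.getD l []) * qe v z b =
        qe v z (qmul (qmul a (D.actOf l b)) (qinv a)) *
          (qe v z a * wp (letters v z x y) (D.lw.getD l [])) := by
    intro a l ha hl b hb
    have hc := act_lt' hD.ok hl hb
    rw [mul_assoc, h.conj_word hD.ok l hl b hb, ← mul_assoc, ← mul_assoc,
      ← h.frame.qe_mul _ (qmul_lt _ ha _ hc) _ (hcc a ha).1, mul_assoc (qe v z (qmul a _)),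
      h.frame.qe_mul _ (hcc a ha).1 _ ha, (hcc a ha).2.2.1, Frame.qe_one, mul_one,
      ← h.frame.qe_mul _ ha _ hc]
  have hlw : i / 128 = j / 128 := by
    have hkeys : D.key (i / 128) = D.key (j / 128) := by
      refine congrArg List.sum (List.map_congr_left fun k hk => ?_)
      have hb : 2 ^ (k + 1) < 128 := lt_of_lt_of_le
        (Nat.pow_lt_pow_right (by norm_num) (by have := List.mem_range.1 hk; omega : k + 1 < 7))
        (by norm_num)
      have hc := act_lt' hD.ok hl hb
      have hc' := act_lt' hD.ok hl' hb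
      have h1 := key _ _ ha hl _ hb
      have h2 := key _ _ ha' hl' _ hb
      rw [val, val] at e
      rw [← e, h1, mul_left_inj] at h2
      have h3 := h.frame.qe_inj hz (qmul_lt _ (qmul_lt _ ha _ hc) _ (hcc _ ha).1)
        (qmul_lt _ (qmul_lt _ ha' _ hc') _ (hcc _ ha').1) h2
      congr 1
      rw [← (hcc _ ha).2.2.2 _ hc, h3, (hcc _ ha').2.2.2 _ hc']
    exact List.inj_on_of_nodup_map hD.keys (List.mem_range.2 hl) (List.mem_range.2 hl') hkeys
  have : i % 128 = j % 128 := by
    rw [val, val, hlw, mul_left_inj] at e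
    exact h.frame.qe_inj hz ha ha' e
  omega

namespace Loc

theorem mul (h : Loc D Q z v x y) (hD : D.Good) {i j : ℕ} (hi : i < 21504) (hj : j < 21504) :
    D.val v z x y i * D.val v z x y j = D.val v z x y (D.mul i j) :=
  (mul_spec h.toRels hD hi hj).1

theorem inj (h : Loc D Q z v x y) (hD : D.Good) {i j : ℕ} (hi : i < 21504) (hj : j < 21504)
    (e : D.val v z x y i = D.val v z x y j) : i = j :=
  val_inj h.toRels h.z_ne hD hi hj e

theorem cover [Finite G] (h : Loc D Q z v x y) (hD : D.Good) {g : G} (hg : g * z = z * g) :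
    ∃ i < 21504, D.val v z x y i = g := by
  obtain ⟨i, hi⟩ := ((Nat.bijective_iff_injective_and_card
    (fun i : Fin 21504 => (⟨D.val v z x y i, val_mem h.toRels hD i⟩ :
      Subgroup.centralizer ({z} : Set G)))).2
      ⟨fun i j e => Fin.ext (h.inj hD i.isLt j.isLt (congrArg Subtype.val e)),
        by rw [Nat.card_fin, h.card_C]⟩).2 ⟨g, Subgroup.mem_centralizer_singleton_iff.2 hg⟩
  exact ⟨i, i.isLt, congrArg Subtype.val hi⟩

end Loc

end Mdl

end CfsgLib.Sporadic.HeldUnique
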