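import Cfsg.Agent.Lib.Sporadic.HeldUnique.FusionCore
import Cfsg.Agent.Lib.Sporadic.HeldUnique.Mate

/-!
# An element of order three normalising the centraliser of a four-group

`MTab` records, for a code `s` of an involution of the model, the centraliser `P` of `s`, its
elements of order three, the involutions inverting one of them, and relations of `P`.  If some
element exchanges `z` and `z * s` and fixes `s`, these data give an element of cube one whose action
on `P` is one of the listed candidates.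
-/

set_option autoImplicit false
set_option linter.style.haveILetI false
set_option linter.unusedSectionVars false

namespace CfsgLib.Sporadic.HeldUnique.Fusion

open CosetCert

/-- The data for one four-group `{1, z, s, zs}` of a model. -/
structure MTab where
  /-- the involution -/
  s : ℕ
  /-- the product with `z` -/
  zs : ℕ
  /-- an element exchanging `s` and `zs` -/
  a : ℕ
  /-- an element of order three -/
  x0 : ℕ
  /-- the codes commuting with `s` -/
  plist : List ℕ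
  /-- the conjugates of `s` and conjugators -/
  orb : List (ℕ × ℕ)
  /-- the elements of order three and conjugators to `x0` -/
  t3 : List (ℕ × ℕ)
  /-- the chosen involutions inverting `x0` -/
  rs : List ℕ
  /-- the involutions inverting `x0`, a conjugator and the index of the chosen one -/
  flips : List (ℕ × ℕ × ℕ)
  /-- for each chosen one, `v`, its image, and the index of `rs 0 * v` -/
  sols : List (ℕ × ℕ × ℕ)
  /-- three further generators -/
  gens : List ℕ
  /-- for each chosen one, the candidates for the image of a generator -/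
  ls : List (List ℕ)
  /-- the relations by number of generators used -/
  rels : List (List (List ℕ))
  /-- the surviving actions -/
  cands : List (List (ℕ × ℕ))

variable (D : Mdl) (T : MTab)

/-- Code of a product of letters. -/
noncomputable def evalW (env w : List ℕ) : ℕ := w.foldl (fun r k => D.mul r (env.getD k 0)) 0

/-- A generator. -/
def MTab.gen (i : ℕ) : ℕ := T.gens.getD i 0

/-- A chosen involution. -/
def MTab.r (i : ℕ) : ℕ := T.rs.getD i 0

/-- The properties asked of the image of a generator. -/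
noncomputable def genProp (x0 r h : ℕ) : Bool :=
  comm D h r && Nat.beq (D.mul h h) 0 &&
    Nat.beq (evalW D [D.mul h (D.mul (D.mul x0 h) (D.mul x0 x0))] (List.replicate 8 0)) 0

/-- The relations of level `n` hold. -/
noncomputable def relsHold (env : List ℕ) (n : ℕ) : Bool :=
  (T.rels.getD n []).all fun w => Nat.beq (evalW D env w) 0

/-- The search for the images of the generators leaves only the candidates. -/
noncomputable def MTab.searchOK (j : ℕ) : Bool :=
  (T.ls.getD j []).all fun h1 => !relsHold D T [T.s, T.zs, T.x0, T.r j, h1] 0 ||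
    (T.ls.getD j []).all fun h2 => !relsHold D T [T.s, T.zs, T.x0, T.r j, h1, h2] 1 ||
      (T.ls.getD j []).all fun h3 => !relsHold D T [T.s, T.zs, T.x0, T.r j, h1, h2, h3] 2 ||
        T.cands.contains
          [(T.gen 0, h1), (T.gen 1, h2), (T.gen 2, h3), (T.x0, T.x0), (T.r j, T.r j)]

/-- The data are right. -/
structure MTab.OK : Prop where
  basic : T.s < 21504 ∧ T.zs < 21504 ∧ T.a < 21504 ∧ T.x0 < 21504 ∧ D.mul 1 T.s = T.zs ∧
    D.mul T.a T.zs = D.mul T.s T.a ∧ D.mul T.a T.s = D.mul T.zs T.a ∧ D.mul T.s T.zs = 1 ∧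
    T.x0 ∈ T.plist ∧ T.x0 ≠ 0 ∧ D.mul (D.mul T.x0 T.x0) T.x0 = 0 ∧ T.rs.length = 4 ∧
    T.s ≠ 1 ∧ T.zs ≠ 1 ∧ T.s ≠ T.zs ∧ T.plist.length * T.orb.length = 21504
  plist_ok : T.plist.all (fun i => Nat.blt i 21504 && comm D i T.s) = true
  plist_nodup : T.plist.Nodup
  orb_ok : T.orb.all (fun e => Nat.blt e.1 21504 && Nat.blt e.2 21504 &&
    Nat.beq (D.mul e.2 e.1) (D.mul T.s e.2)) = true
  orb_nodup : (T.orb.map Prod.fst).Nodup
  t3_ok : T.t3.all (fun e => Nat.blt e.2 21504 && comm D e.2 T.s &&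
    Nat.beq (D.mul e.2 e.1) (D.mul T.x0 e.2)) = true
  t3_all : T.plist.all (fun i => Nat.beq i 0 || !Nat.beq (D.mul (D.mul i i) i) 0 ||
    (T.t3.map Prod.fst).contains i) = true
  flips_ok : T.flips.all (fun e => Nat.blt e.2.2 4 && Nat.blt e.2.1 21504 && comm D e.2.1 T.s &&
    comm D e.2.1 T.x0 && Nat.beq (D.mul e.2.1 e.1) (D.mul (T.r e.2.2) e.2.1)) = true
  flips_all : T.plist.all (fun i => Nat.beq i 0 || !Nat.beq (D.mul i i) 0 ||
    !Nat.beq (D.mul (D.mul T.x0 i) T.x0) i || (T.flips.map Prod.fst).contains i) = true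
  r_ok : allBelow (fun j => T.plist.contains (T.r j) && !Nat.beq (T.r j) 0 &&
    Nat.beq (D.mul (T.r j) (T.r j)) 0 &&
    Nat.beq (D.mul (D.mul T.x0 (T.r j)) T.x0) (T.r j)) 4 = true
  sols_ok : allBelow (fun j => [(0, 0), (1, T.s), (T.s, T.zs), (T.zs, 1)].contains
      ((T.sols.getD j (0, 0, 0)).1, (T.sols.getD j (0, 0, 0)).2.1) &&
    Nat.blt (T.sols.getD j (0, 0, 0)).2.2 4 &&
    Nat.beq (D.mul (T.r 0) (T.sols.getD j (0, 0, 0)).1) (T.r (T.sols.getD j (0, 0, 0)).2.2) &&
    Nat.beq (D.mul (T.r j) (T.sols.getD j (0, 0, 0)).2.1) (T.r (T.sols.getD j (0, 0, 0)).2.2)) 4 = true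
  fixed : allBelow (fun j => T.plist.all fun i => !comm D i T.x0 || !comm D i (T.r j) ||
    [0, 1, T.s, T.zs].contains i) 4 = true
  gens_ok : allBelow (fun j => allBelow (fun i => T.plist.contains (T.gen i) &&
    genProp D T.x0 (T.r j) (T.gen i)) 3) 4 = true
  ls_all : allBelow (fun j => T.plist.all fun i =>
    !genProp D T.x0 (T.r j) i || (T.ls.getD j []).contains i) 4 = true
  rels_ok : allBelow (fun j => relsHold D T [1, T.s, T.x0, T.r j, T.gen 0] 0 &&
    relsHold D T [1, T.s, T.x0, T.r j, T.gen 0, T.gen 1] 1 &&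
    relsHold D T [1, T.s, T.x0, T.r j, T.gen 0, T.gen 1, T.gen 2] 2) 4 = true
  search : allBelow (fun j => T.searchOK D j) 4 = true

variable {D T}
variable {G : Type*} [Group G] [Finite G] {Q : Subgroup G} {z : G} {v : ℕ → G} {x y : G}
variable (h : Mdl.Loc D Q z v x y) (hD : D.Good)
include h hD

local notation "val'" => Mdl.val D v z x y

theorem val_zero' : val' 0 = 1 := Mdl.val_zero D hD.ok v z x y

theorem val_one' : val' 1 = z := Mdl.val_z D hD.ok v z x y

/-- A conjugation given on letters carries codes of words to codes of words. -/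
theorem evalW_map (Y : G) {env env' : List ℕ} (hlt : ∀ k, env.getD k 0 < 21504)
    (hlt' : ∀ k, env'.getD k 0 < 21504)
    (hmap : ∀ k, Y * val' (env.getD k 0) * Y⁻¹ = val' (env'.getD k 0)) (w : List ℕ) :
    evalW D env w < 21504 ∧ evalW D env' w < 21504 ∧
      Y * val' (evalW D env w) * Y⁻¹ = val' (evalW D env' w) := by
  suffices hs : ∀ (w : List ℕ) (a b : ℕ), a < 21504 → b < 21504 → Y * val' a * Y⁻¹ = val' b →
      w.foldl (fun r k => D.mul r (env.getD k 0)) a < 21504 ∧
      w.foldl (fun r k => D.mul r (env'.getD k 0)) b < 21504 ∧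
      Y * val' (w.foldl (fun r k => D.mul r (env.getD k 0)) a) * Y⁻¹ =
        val' (w.foldl (fun r k => D.mul r (env'.getD k 0)) b) from
    hs w 0 0 (by norm_num) (by norm_num) (by rw [val_zero' h hD, mul_one, mul_inv_cancel])
  intro w
  induction w with
  | nil => exact fun a b ha hb e => ⟨ha, hb, e⟩
  | cons k t ih =>
    intro a b ha hb e
    simp only [List.foldl_cons]
    refine ih _ _ (Mdl.mul_spec h.toRels hD ha (hlt k)).2 (Mdl.mul_spec h.toRels hD hb (hlt' k)).2 ?_
    rw [← h.mul hD ha (hlt k), ← h.mul hD hb (hlt' k), ← e, ← hmap k]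
    group

/-- Products of equal codes agree. -/
theorem mul_eq_of_beq {i j i' j' : ℕ} (hi : i < 21504) (hj : j < 21504) (hi' : i' < 21504)
    (hj' : j' < 21504) (e : D.mul i j = D.mul i' j') : val' i * val' j = val' i' * val' j' := by
  rw [h.mul hD hi hj, h.mul hD hi' hj', e]

variable (hT : T.OK D)
include hT

theorem plist_lt {i : ℕ} (hi : i ∈ T.plist) : i < 21504 := by
  have := List.all_eq_true.1 hT.plist_ok i hi
  simp only [Bool.and_eq_true, Nat.blt_eq] at this
  exact this.1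

theorem plist_comm {i : ℕ} (hi : i ∈ T.plist) : val' i * val' T.s = val' T.s * val' i := by
  have := List.all_eq_true.1 hT.plist_ok i hi
  simp only [Bool.and_eq_true, Nat.blt_eq] at this
  exact (comm_iff h hD this.1 hT.basic.1).1 this.2

theorem cover_plist {g : G} (hz : g * z = z * g) (hs : g * val' T.s = val' T.s * g) :
    ∃ i ∈ T.plist, val' i = g := by
  classical
  let P := {g : G // g * z = z * g ∧ g * val' T.s = val' T.s * g}
  let f : Fin T.plist.length → P := fun i =>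
    ⟨val' T.plist[i], val_comm h hD, plist_comm h hD hT (T.plist.getElem_mem i.2)⟩
  have hf : Function.Injective f := fun a b e => hT.plist_nodup.injective_get
    (h.inj hD (plist_lt h hD hT (T.plist.getElem_mem a.2)) (plist_lt h hD hT (T.plist.getElem_mem b.2))
      (congrArg Subtype.val e))
  have horb : ∀ i : Fin T.orb.length, T.orb[i].1 < 21504 ∧ T.orb[i].2 < 21504 ∧
      val' T.orb[i].2 * val' T.orb[i].1 = val' T.s * val' T.orb[i].2 := fun i => by
    have := List.all_eq_true.1 hT.orb_ok _ (T.orb.getElem_mem i.2)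
    simp only [Bool.and_eq_true, Nat.blt_eq, Nat.beq_eq] at this
    exact ⟨this.1.1, this.1.2, mul_eq_of_beq h hD this.1.2 this.1.1 hT.basic.1 this.1.2 this.2⟩
  let F : Fin T.orb.length × P → Subgroup.centralizer ({z} : Set G) := fun q =>
    ⟨(val' T.orb[q.1].2)⁻¹ * q.2.1, Subgroup.mul_mem _ (Subgroup.inv_mem _
      (Mdl.val_mem h.toRels hD _)) (Subgroup.mem_centralizer_singleton_iff.2 q.2.2.1)⟩
  have hF : Function.Injective F := by
    rintro ⟨i, p⟩ ⟨j, q⟩ e
    have e' : (val' T.orb[i].2)⁻¹ * p.1 = (val' T.orb[j].2)⁻¹ * q.1 := congrArg Subtype.val e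
    have key : ∀ (i : Fin T.orb.length) (p : P),
        (val' T.orb[i].2)⁻¹ * p.1 * val' T.s * ((val' T.orb[i].2)⁻¹ * p.1)⁻¹ = val' T.orb[i].1 := by
      intro i p
      rw [show (val' T.orb[i].2)⁻¹ * p.1 * val' T.s * ((val' T.orb[i].2)⁻¹ * p.1)⁻¹ =
        (val' T.orb[i].2)⁻¹ * (p.1 * val' T.s) * p.1⁻¹ * val' T.orb[i].2 by group, p.2.2,
        show (val' T.orb[i].2)⁻¹ * (val' T.s * p.1) * p.1⁻¹ * val' T.orb[i].2 =
          (val' T.orb[i].2)⁻¹ * (val' T.s * val' T.orb[i].2) by group, ← (horb i).2.2,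
        inv_mul_cancel_left]
    have h1 := key i p
    rw [e', key j q] at h1
    have hij : i = j := by
      have h2 := h.inj hD (horb j).1 (horb i).1 h1
      have := hT.orb_nodup.injective_get (a₁ := ⟨i, by simp⟩) (a₂ := ⟨j, by simp⟩) (by simpa using h2.symm)
      exact Fin.ext (by simpa using congrArg Fin.val this)
    subst hij
    exact Prod.ext rfl (Subtype.ext (mul_left_cancel e'))
  have h1 := Nat.card_le_card_of_injective F hF
  rw [Nat.card_prod, Nat.card_fin, h.card_C, ← hT.basic.2.2.2.2.2.2.2.2.2.2.2.2.2.2.2,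
    mul_comm T.plist.length] at h1
  have hpos : 0 < T.orb.length := Nat.pos_of_ne_zero fun e => by
    have := hT.basic.2.2.2.2.2.2.2.2.2.2.2.2.2.2.2
    rw [e, mul_zero] at this
    omega
  have h2 : Nat.card P ≤ T.plist.length := Nat.le_of_mul_le_mul_left h1 hpos
  have hcard : Nat.card (Fin T.plist.length) = Nat.card P := le_antisymm
    (Nat.card_le_card_of_injective f hf) (by rwa [Nat.card_fin])
  obtain ⟨i, hi⟩ := ((Nat.bijective_iff_injective_and_card f).2 ⟨hf, hcard⟩).2 ⟨g, hz, hs⟩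
  exact ⟨_, T.plist.getElem_mem i.2, congrArg Subtype.val hi⟩

/-- A candidate action is realised by an element of cube one. -/
theorem exists_mate {b : G} (hbz : b * z * b⁻¹ = z * val' T.s)
    (hbs : b * val' T.s * b⁻¹ = val' T.s) : ∃ ps ∈ T.cands, ∃ Y, Mate D v z x y Y ps := by
  obtain ⟨hs, hzs, ha, hx0, ezs, eazs, eas, eszs, hx0m, hx00, ex3, hrl, hs1, hzs1, hszs, -⟩ := hT.basic
  set S := val' T.s with hS
  set U := val' T.zs with hU
  set X := val' T.x0 with hX
  have h1 : (1 : ℕ) < 21504 := by norm_num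
  have hzS : z * S = U := by
    have := h.mul hD h1 hs
    rwa [val_one' h hD, ezs] at this
  have hSU : S * U = z := by
    have := h.mul hD hs hzs
    rwa [eszs, val_one' h hD] at this
  -- an element permuting `z, s, zs` cyclically
  set A := val' T.a with hA
  have hAU : A * U * A⁻¹ = S := by
    rw [mul_inv_eq_iff_eq_mul]; exact mul_eq_of_beq h hD ha hzs hs ha eazs
  have hAS : A * S * A⁻¹ = U := by
    rw [mul_inv_eq_iff_eq_mul]; exact mul_eq_of_beq h hD ha hs hzs ha eas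
  set y1 := A * b with hy1
  have hcyc1 : y1 * z * y1⁻¹ = S ∧ y1 * S * y1⁻¹ = U := by
    constructor
    · rw [hy1, show A * b * z * (A * b)⁻¹ = A * (b * z * b⁻¹) * A⁻¹ by group, hbz, hzS, hAU]
    · rw [hy1, show A * b * S * (A * b)⁻¹ = A * (b * S * b⁻¹) * A⁻¹ by group, hbs, hAS]
  -- conjugates of `P` stay in `P`
  have hmap : ∀ Y : G, Y * z * Y⁻¹ = S → Y * S * Y⁻¹ = U → ∀ i < 21504,
      val' i * S = S * val' i → ∃ k ∈ T.plist, val' k = Y * val' i * Y⁻¹ := by
    intro Y e1 e2 i hi hc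
    have c1 : Y * val' i * Y⁻¹ * S = S * (Y * val' i * Y⁻¹) := by
      have := congrArg (fun g => Y * g * Y⁻¹) (val_comm h hD : val' i * z = z * val' i)
      simpa only [← e1, mul_assoc, inv_mul_cancel_left, mul_inv_rev] using this
    have c2 : Y * val' i * Y⁻¹ * U = U * (Y * val' i * Y⁻¹) := by
      have := congrArg (fun g => Y * g * Y⁻¹) hc
      simpa only [← e2, mul_assoc, inv_mul_cancel_left, mul_inv_rev] using this
    refine cover_plist h hD hT ?_ c1
    generalize Y * val' i * Y⁻¹ = g at c1 c2 ⊢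
    calc g * z = g * (S * U) := by rw [hSU]
      _ = S * U * g := by rw [← mul_assoc, c1, mul_assoc, c2, mul_assoc]
      _ = z * g := by rw [hSU]
  have hplc : ∀ i ∈ T.plist, val' i * S = S * val' i := fun i hi => plist_comm h hD hT hi
  -- fix the element of order three
  have hX3 : X * X * X = 1 := by
    rw [hX, h.mul hD hx0 hx0, h.mul hD (Mdl.mul_spec h.toRels hD hx0 hx0).2 hx0, ex3, val_zero' h hD]
  obtain ⟨i, him, hi⟩ := hmap y1 hcyc1.1 hcyc1.2 T.x0 hx0 (hplc _ hx0m)
  have hilt := plist_lt h hD hT him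
  have hi3 : D.mul (D.mul i i) i = 0 := by
    have hm := (Mdl.mul_spec h.toRels hD hilt hilt).2
    refine h.inj hD (Mdl.mul_spec h.toRels hD hm hilt).2 (by norm_num) ?_
    rw [← h.mul hD hm hilt, ← h.mul hD hilt hilt, hi, val_zero' h hD,
      show y1 * X * y1⁻¹ * (y1 * X * y1⁻¹) * (y1 * X * y1⁻¹) = y1 * (X * X * X) * y1⁻¹ by group,
      hX3, mul_one, mul_inv_cancel]
  have hi0 : i ≠ 0 := fun e => hx00 (h.inj hD hx0 (by norm_num) (by
    rw [e, val_zero' h hD] at hi
    rw [val_zero' h hD]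
    exact conj_eq_one_iff.1 hi.symm))
  have ht := List.all_eq_true.1 hT.t3_all i him
  simp only [Bool.or_eq_true, Nat.beq_eq, Bool.not_eq_true', ← Bool.not_eq_true,
    List.contains_iff_mem] at ht
  obtain ⟨⟨i', p⟩, hp, rfl⟩ := List.mem_map.1 ((ht.resolve_left (by simp [hi0, hi3])))
  have hp' := List.all_eq_true.1 hT.t3_ok _ hp
  simp only [Bool.and_eq_true, Nat.blt_eq, Nat.beq_eq] at hp'
  obtain ⟨⟨hplt, hpc⟩, hpe⟩ := hp'
  have hpS := (comm_iff h hD hplt hs).1 hpc
  have hfix : ∀ (c : ℕ) (Y : G), c < 21504 → val' c * S = S * val' c → Y * z * Y⁻¹ = S →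
      Y * S * Y⁻¹ = U →
      (val' c * Y) * z * (val' c * Y)⁻¹ = S ∧ (val' c * Y) * S * (val' c * Y)⁻¹ = U := by
    intro c Y hc hcS e1 e2
    constructor
    · rw [show val' c * Y * z * (val' c * Y)⁻¹ = val' c * (Y * z * Y⁻¹) * (val' c)⁻¹ by group, e1,
        hcS, mul_inv_cancel_right]
    · rw [show val' c * Y * S * (val' c * Y)⁻¹ = val' c * (Y * S * Y⁻¹) * (val' c)⁻¹ by group, e2,
        ← hzS, ← mul_assoc, val_comm h hD, mul_assoc z, hcS, ← mul_assoc, mul_inv_cancel_right]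
  set y2 := val' p * y1 with hy2
  have hcyc2 := hfix p y1 hplt hpS hcyc1.1 hcyc1.2
  have hy2X : y2 * X * y2⁻¹ = X := by
    rw [hy2, show val' p * y1 * X * (val' p * y1)⁻¹ = val' p * (y1 * X * y1⁻¹) * (val' p)⁻¹ by group,
      ← hi, mul_inv_eq_iff_eq_mul]
    exact mul_eq_of_beq h hD hplt hilt hx0 hplt hpe
  -- fix an involution inverting it
  have hr : ∀ j < 4, T.r j ∈ T.plist ∧ T.r j ≠ 0 ∧ val' (T.r j) * val' (T.r j) = 1 ∧
      X * val' (T.r j) * X = val' (T.r j) := by
    intro j hj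
    have := of_allBelow hT.r_ok j hj
    simp only [Bool.and_eq_true, Nat.beq_eq, List.contains_iff_mem, Bool.not_eq_true',
      ← Bool.not_eq_true] at this
    obtain ⟨⟨⟨m1, m2⟩, m3⟩, m4⟩ := this
    have hl := plist_lt h hD hT m1
    refine ⟨m1, m2, by rw [h.mul hD hl hl, m3, val_zero' h hD], ?_⟩
    rw [hX, h.mul hD hx0 hl, h.mul hD (Mdl.mul_spec h.toRels hD hx0 hl).2 hx0, m4]
  obtain ⟨q, hqm, hq⟩ := hmap y2 hcyc2.1 hcyc2.2 (T.r 0) (plist_lt h hD hT (hr 0 (by norm_num)).1)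
    (hplc _ (hr 0 (by norm_num)).1)
  obtain ⟨-, hr00, hr02, hr0X⟩ := hr 0 (by norm_num)
  have hqlt := plist_lt h hD hT hqm
  have hq0 : q ≠ 0 := fun e => hr00 (h.inj hD (plist_lt h hD hT (hr 0 (by norm_num)).1) (by norm_num)
    (by
      rw [e, val_zero' h hD] at hq
      rw [val_zero' h hD]
      exact conj_eq_one_iff.1 hq.symm))
  have hq2 : D.mul q q = 0 := by
    refine h.inj hD (Mdl.mul_spec h.toRels hD hqlt hqlt).2 (by norm_num) ?_
    rw [← h.mul hD hqlt hqlt, hq, val_zero' h hD,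
      show y2 * val' (T.r 0) * y2⁻¹ * (y2 * val' (T.r 0) * y2⁻¹) =
        y2 * (val' (T.r 0) * val' (T.r 0)) * y2⁻¹ by group, hr02, mul_one, mul_inv_cancel]
  have hqX : D.mul (D.mul T.x0 q) T.x0 = q := by
    have hm := (Mdl.mul_spec h.toRels hD hx0 hqlt).2
    refine h.inj hD (Mdl.mul_spec h.toRels hD hm hx0).2 hqlt ?_
    rw [← h.mul hD hm hx0, ← h.mul hD hx0 hqlt, hq, ← hX]
    conv_lhs => rw [← hy2X]
    rw [show y2 * X * y2⁻¹ * (y2 * val' (T.r 0) * y2⁻¹) * (y2 * X * y2⁻¹) =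
      y2 * (X * val' (T.r 0) * X) * y2⁻¹ by group, hr0X]
  have hfl := List.all_eq_true.1 hT.flips_all q hqm
  simp only [Bool.or_eq_true, Nat.beq_eq, Bool.not_eq_true', ← Bool.not_eq_true,
    List.contains_iff_mem] at hfl
  obtain ⟨⟨q', c, j⟩, hm, rfl⟩ := List.mem_map.1 (hfl.resolve_left (by simp [hq0, hq2, hqX]))
  have hm' := List.all_eq_true.1 hT.flips_ok _ hm
  simp only [Bool.and_eq_true, Nat.blt_eq, Nat.beq_eq] at hm'
  obtain ⟨⟨⟨⟨hj, hc⟩, hcs⟩, hcx⟩, hce⟩ := hm'
  set Y := val' c * y2 with hY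
  have hcyc := hfix c y2 hc ((comm_iff h hD hc hs).1 hcs) hcyc2.1 hcyc2.2
  have hYX : Y * X * Y⁻¹ = X := by
    rw [hY, show val' c * y2 * X * (val' c * y2)⁻¹ = val' c * (y2 * X * y2⁻¹) * (val' c)⁻¹ by group,
      hy2X, (comm_iff h hD hc hx0).1 hcx, mul_inv_cancel_right]
  have hYr0 : Y * val' (T.r 0) * Y⁻¹ = val' (T.r j) := by
    rw [hY, show val' c * y2 * val' (T.r 0) * (val' c * y2)⁻¹ =
      val' c * (y2 * val' (T.r 0) * y2⁻¹) * (val' c)⁻¹ by group, ← hq, mul_inv_eq_iff_eq_mul]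
    exact mul_eq_of_beq h hD hc hqlt (plist_lt h hD hT (hr j hj).1) hc hce
  have hYU : Y * U * Y⁻¹ = z := by
    rw [← hzS, show Y * (z * S) * Y⁻¹ = Y * z * Y⁻¹ * (Y * S * Y⁻¹) by group, hcyc.1, hcyc.2, hSU]
  have hsol := of_allBelow hT.sols_ok j hj
  simp only [Bool.and_eq_true, Nat.beq_eq, Nat.blt_eq, List.contains_iff_mem] at hsol
  obtain ⟨⟨⟨hv, hk⟩, hk1⟩, hk2⟩ := hsol
  set sv := T.sols.getD j (0, 0, 0)
  set k := sv.2.2
  have hphi : sv.1 < 21504 ∧ sv.2.1 < 21504 ∧ Y * val' sv.1 * Y⁻¹ = val' sv.2.1 := by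
    simp only [List.mem_cons, List.not_mem_nil, or_false, Prod.mk.injEq] at hv
    rcases hv with ⟨e1, e2⟩ | ⟨e1, e2⟩ | ⟨e1, e2⟩ | ⟨e1, e2⟩ <;> rw [e1, e2]
    · exact ⟨by norm_num, by norm_num, by rw [val_zero' h hD, mul_one, mul_inv_cancel]⟩
    · exact ⟨h1, hs, by rw [val_one' h hD]; exact hcyc.1⟩
    · exact ⟨hs, hzs, hcyc.2⟩
    · exact ⟨hzs, h1, by rw [val_one' h hD]; exact hYU⟩
  have hYr : Y * val' (T.r k) * Y⁻¹ = val' (T.r k) := by
    have l0 := plist_lt h hD hT (hr 0 (by norm_num)).1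
    conv_lhs => rw [← hk1, ← h.mul hD l0 hphi.1]
    rw [show Y * (val' (T.r 0) * val' sv.1) * Y⁻¹ =
      Y * val' (T.r 0) * Y⁻¹ * (Y * val' sv.1 * Y⁻¹) by group, hYr0, hphi.2.2,
      h.mul hD (plist_lt h hD hT (hr j hj).1) hphi.2.1, hk2]
  have hrk := plist_lt h hD hT (hr k hk).1
  -- its cube centralises enough
  have hcube : Y * Y * Y = 1 := by
    set W := Y * Y * Y with hW
    have hcz : W * z * W⁻¹ = z := by
      rw [hW, show Y * Y * Y * z * (Y * Y * Y)⁻¹ = Y * (Y * (Y * z * Y⁻¹) * Y⁻¹) * Y⁻¹ by group,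
        hcyc.1, hcyc.2, hYU]
    have hcS : W * S * W⁻¹ = S := by
      rw [hW, show Y * Y * Y * S * (Y * Y * Y)⁻¹ = Y * (Y * (Y * S * Y⁻¹) * Y⁻¹) * Y⁻¹ by group,
        hcyc.2, hYU, hcyc.1]
    have hWfix : ∀ g, Y * g * Y⁻¹ = g → W * g = g * W := fun g hg => by
      have h2 : Commute Y g := mul_inv_eq_iff_eq_mul.1 hg
      exact ((h2.mul_left h2).mul_left h2).eq
    obtain ⟨w, hwm, hw⟩ := cover_plist h hD hT (mul_inv_eq_iff_eq_mul.1 hcz)
      (mul_inv_eq_iff_eq_mul.1 hcS)
    have hwlt := plist_lt h hD hT hwm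
    have := List.all_eq_true.1 (of_allBelow hT.fixed k hk) w hwm
    rw [(comm_iff h hD hwlt hx0).2 (by rw [hw]; exact hWfix _ hYX),
      (comm_iff h hD hwlt hrk).2 (by rw [hw]; exact hWfix _ hYr)] at this
    simp only [Bool.not_true, Bool.false_or, List.contains_iff_mem, List.mem_cons,
      List.not_mem_nil, or_false] at this
    have hYw : Y * val' w * Y⁻¹ = val' w := by rw [hw, hW]; group
    rcases this with e | e | e | e
    · rw [← hw, e, val_zero' h hD]
    · exfalso
      rw [e, val_one' h hD, hcyc.1] at hYw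
      exact hs1 (h.inj hD hs h1 (hYw.trans (val_one' h hD).symm))
    · exfalso
      rw [e, ← hS, hcyc.2] at hYw
      exact hszs (h.inj hD hs hzs hYw.symm)
    · exfalso
      rw [e, ← hU, hYU] at hYw
      exact hzs1 (h.inj hD hzs h1 (hYw.symm.trans (val_one' h hD).symm))
  -- the images of the generators
  have himg : ∀ i < 3, T.gen i < 21504 ∧
      ∃ g ∈ T.ls.getD k [], g < 21504 ∧ Y * val' (T.gen i) * Y⁻¹ = val' g := by
    intro i hi
    have hgi := of_allBelow (of_allBelow hT.gens_ok k hk) i hi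
    simp only [genProp, Bool.and_eq_true, Nat.beq_eq, List.contains_iff_mem] at hgi
    obtain ⟨hgm, ⟨⟨hg1, hg2⟩, hg3⟩⟩ := hgi
    have hglt := plist_lt h hD hT hgm
    obtain ⟨g, hgl, hg⟩ := hmap Y hcyc.1 hcyc.2 _ hglt (hplc _ hgm)
    have hlt := plist_lt h hD hT hgl
    refine ⟨hglt, g, ?_, hlt, hg.symm⟩
    have hall := List.all_eq_true.1 (of_allBelow hT.ls_all k hk) g hgl
    simp only [Bool.or_eq_true, Bool.not_eq_true', List.contains_iff_mem, ← Bool.not_eq_true] at hall
    refine hall.resolve_left (not_not.2 ?_)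
    simp only [genProp, Bool.and_eq_true, Nat.beq_eq]
    set ψ := MulAut.conj Y with hψ
    have eg : ψ (val' (T.gen i)) = val' g := hg.symm
    have eX : ψ X = X := hYX
    have er : ψ (val' (T.r k)) = val' (T.r k) := hYr
    refine ⟨⟨(comm_iff h hD hlt hrk).2 ?_, ?_⟩, ?_⟩
    · rw [← eg, ← er, ← map_mul, ← map_mul, (comm_iff h hD hglt hrk).1 hg1]
    · refine h.inj hD (Mdl.mul_spec h.toRels hD hlt hlt).2 (by norm_num) ?_
      rw [← h.mul hD hlt hlt, ← eg, ← map_mul, h.mul hD hglt hglt, hg2, val_zero' h hD, map_one]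
    · have hel : ∀ u, u < 21504 → D.mul u (D.mul (D.mul T.x0 u) (D.mul T.x0 T.x0)) < 21504 ∧
          val' (D.mul u (D.mul (D.mul T.x0 u) (D.mul T.x0 T.x0))) = val' u * (X * val' u * (X * X)) := by
        intro u hu
        have a1 := (Mdl.mul_spec h.toRels hD hx0 hu).2
        have a2 := (Mdl.mul_spec h.toRels hD hx0 hx0).2
        have a3 := (Mdl.mul_spec h.toRels hD a1 a2).2
        refine ⟨(Mdl.mul_spec h.toRels hD hu a3).2, ?_⟩
        rw [hX, h.mul hD hx0 hu, h.mul hD hx0 hx0, h.mul hD a1 a2, h.mul hD hu a3]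
      obtain ⟨b1, b2⟩ := hel _ hglt
      obtain ⟨c1, c2⟩ := hel _ hlt
      have hlt1 : ∀ (u : ℕ), u < 21504 → ∀ n, [u].getD n 0 < 21504 := by
        intro u hu n
        rcases n with - | n <;> simp [hu]
      obtain ⟨-, l2, e⟩ := evalW_map h hD Y (hlt1 _ b1) (hlt1 _ c1) (fun n => by
        rcases n with - | n
        · show ψ (val' _) = val' _
          simp only [List.getD_cons_zero]
          rw [b2, c2, map_mul, map_mul, map_mul, map_mul, eX, eg]
        · simp [val_zero' h hD]) (List.replicate 8 0)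
      rw [hg3, val_zero' h hD, mul_one, mul_inv_cancel] at e
      exact h.inj hD l2 (by norm_num) (e.symm.trans (val_zero' h hD).symm)
  obtain ⟨hl1, g1, m1, l1, e1⟩ := himg 0 (by norm_num)
  obtain ⟨hl2, g2, m2, l2, e2⟩ := himg 1 (by norm_num)
  obtain ⟨hl3, g3, m3, l3, e3⟩ := himg 2 (by norm_num)
  have ez : Y * val' 1 * Y⁻¹ = S := by rw [val_one' h hD]; exact hcyc.1
  have hok := of_allBelow hT.rels_ok k hk
  simp only [Bool.and_eq_true] at hok
  have htrans : ∀ (n : ℕ) (env env' : List ℕ), relsHold D T env n = true →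
      (∀ p, env.getD p 0 < 21504 ∧ env'.getD p 0 < 21504 ∧
        Y * val' (env.getD p 0) * Y⁻¹ = val' (env'.getD p 0)) → relsHold D T env' n = true := by
    intro n env env' hh hp
    simp only [relsHold, List.all_eq_true, Nat.beq_eq] at hh ⊢
    intro w hw
    obtain ⟨-, q2, q3⟩ := evalW_map h hD Y (fun p => (hp p).1) (fun p => (hp p).2.1)
      (fun p => (hp p).2.2) w
    rw [hh w hw, val_zero' h hD, mul_one, mul_inv_cancel] at q3
    exact h.inj hD q2 (by norm_num) (q3.symm.trans (val_zero' h hD).symm)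
  have hz0 : (0 : ℕ) < 21504 ∧ (0 : ℕ) < 21504 ∧ Y * val' 0 * Y⁻¹ = val' 0 :=
    ⟨by norm_num, by norm_num, by rw [val_zero' h hD, mul_one, mul_inv_cancel]⟩
  have r0 : relsHold D T [T.s, T.zs, T.x0, T.r k, g1] 0 = true :=
    htrans 0 _ _ hok.1.1 fun p => by
      rcases p with _ | _ | _ | _ | _ | p <;> simp only [List.getD_cons_zero, List.getD_cons_succ,
        List.getD_nil]
      exacts [⟨h1, hs, ez⟩, ⟨hs, hzs, hcyc.2⟩, ⟨hx0, hx0, hYX⟩, ⟨hrk, hrk, hYr⟩, ⟨hl1, l1, e1⟩, hz0]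
  have r1 : relsHold D T [T.s, T.zs, T.x0, T.r k, g1, g2] 1 = true :=
    htrans 1 _ _ hok.1.2 fun p => by
      rcases p with _ | _ | _ | _ | _ | _ | p <;> simp only [List.getD_cons_zero, List.getD_cons_succ,
        List.getD_nil]
      exacts [⟨h1, hs, ez⟩, ⟨hs, hzs, hcyc.2⟩, ⟨hx0, hx0, hYX⟩, ⟨hrk, hrk, hYr⟩, ⟨hl1, l1, e1⟩,
        ⟨hl2, l2, e2⟩, hz0]
  have r2 : relsHold D T [T.s, T.zs, T.x0, T.r k, g1, g2, g3] 2 = true :=
    htrans 2 _ _ hok.2 fun p => by
      rcases p with _ | _ | _ | _ | _ | _ | _ | p <;> simp only [List.getD_cons_zero,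
        List.getD_cons_succ, List.getD_nil]
      exacts [⟨h1, hs, ez⟩, ⟨hs, hzs, hcyc.2⟩, ⟨hx0, hx0, hYX⟩, ⟨hrk, hrk, hYr⟩, ⟨hl1, l1, e1⟩,
        ⟨hl2, l2, e2⟩, ⟨hl3, l3, e3⟩, hz0]
  have hsearch := of_allBelow hT.search k hk
  simp only [MTab.searchOK, List.all_eq_true, Bool.or_eq_true, Bool.not_eq_true',
    List.contains_iff_mem] at hsearch
  have k1 := (hsearch g1 m1).resolve_left (by rw [r0]; simp)
  have k2 := (k1 g2 m2).resolve_left (by rw [r1]; simp)
  have k3 := (k2 g3 m3).resolve_left (by rw [r2]; simp)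
  refine ⟨_, k3, Y, hcube, ?_⟩
  intro e he
  simp only [List.mem_cons, List.not_mem_nil, or_false] at he
  rcases he with rfl | rfl | rfl | rfl | rfl
  exacts [e1, e2, e3, hYX, hYr]

end CfsgLib.Sporadic.HeldUnique.Fusion
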