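import Cfsg.Agent.Lib.Sporadic.HeldUnique.Models
import Cfsg.Agent.Lib.Sporadic.HeldUnique.FusionDataA0
import Cfsg.Agent.Lib.Sporadic.HeldUnique.MateDataTwo
import Cfsg.Agent.Lib.Sporadic.HeldUnique.MateDataFive

/-!
# Existence of a mate

In model A0 an element carrying `z` to the representative `s` of a class of size 14 gives one
exchanging `z` and `z * s` and fixing `s`, hence an element of cube one acting on `C(z, s)` as one
of the sixteen candidates.
-/

set_option autoImplicit false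
set_option maxRecDepth 100000
set_option linter.unusedSectionVars false

namespace CfsgLib.Sporadic.HeldUnique.Fusion

open CosetCert

variable {G : Type*} [Group G] [Finite G] {Q : Subgroup G} {z : G} {v : ℕ → G} {x y : G}

/-- An element exchanging `z` and `z * w` and fixing `w`. -/
theorem exists_swap (h : Mdl.Loc MA0.mdl Q z v x y) {k : ℕ} (hk : k = 2 ∨ k = 3)
    (hs : IsConj z (MA0.mdl.val v z x y (FA0.tab.rep k))) :
    ∃ b : G, b * z * b⁻¹ = z * MA0.mdl.val v z x y (FA0.tab.rep k) ∧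
      b * MA0.mdl.val v z x y (FA0.tab.rep k) * b⁻¹ = MA0.mdl.val v z x y (FA0.tab.rep k) := by
  have hD := MA0.good
  have hT := FA0.tab_ok
  have hkK : k < FA0.tab.K := by rcases hk with rfl | rfl <;> decide +kernel
  obtain ⟨hr, hr2, -⟩ := rep_spec hT hkK
  set w := MA0.mdl.val v z x y (FA0.tab.rep k) with hw
  have hw2 : w * w = 1 := by rw [hw, h.mul hD hr hr, hr2, Mdl.val_zero _ hD.ok]
  have hwz : w * z = z * w := val_comm h hD
  obtain ⟨g, hgw⟩ := isConj_iff.1 hs.symm
  set u := g * z * g⁻¹ with hu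
  have hwne : w ≠ z := fun e => by
    have h1 := h.inj hD hr (j := 1) (by norm_num) (e.trans (val_one h hD hT).symm)
    rcases hk with rfl | rfl <;> revert h1 <;> decide +kernel
  have huz : u * z = z * u := by
    calc u * z = g * z * g⁻¹ * (g * w * g⁻¹) := by rw [hgw]
      _ = g * (z * w) * g⁻¹ := by group
      _ = g * (w * z) * g⁻¹ := by rw [hwz]
      _ = g * w * g⁻¹ * (g * z * g⁻¹) := by group
      _ = z * u := by rw [hgw]
  have hu2 : u * u = 1 := by
    rw [hu, show g * z * g⁻¹ * (g * z * g⁻¹) = g * (z * z) * g⁻¹ by group, h.frame.z_sq, mul_one,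
      mul_inv_cancel]
  obtain ⟨e, he, heu⟩ := exists_ent_of h hD hT huz hu2 fun e => h.z_ne (conj_eq_one_iff.1 e)
  obtain ⟨-, -, -, hj, -, -⟩ := mem_ents hT he
  have hconj := (ent_spec h hD hT he).2.2
  rw [heu] at hconj
  set c := MA0.mdl.val v z x y e.2.2 with hc
  set j := e.2.1 with hjd
  have hcz : c * z = z * c := val_comm h hD
  have hj0 : j ≠ 0 := fun e0 => by
    rw [e0, hT.reps_ok.1, val_one h hD hT, mul_inv_eq_iff_eq_mul, ← hcz] at hconj
    have h1 : u = z := mul_left_cancel hconj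
    apply hwne
    rw [hu] at h1
    exact (mul_left_cancel (mul_right_cancel (h1.trans hgw.symm))).symm
  set r := MA0.mdl.val v z x y (FA0.tab.rep j) with hr'
  -- the conjugation carries `(w, z)` to `(z, r)`
  set ψ := MulAut.conj (c * g) with hψ
  have hψw : ψ w = z := by
    rw [hψ, MulAut.conj_apply, show c * g * w * (c * g)⁻¹ = c * (g * w * g⁻¹) * c⁻¹ by group, hgw,
      hcz, mul_inv_cancel_right]
  have hψz : ψ z = r := by
    rw [hψ, MulAut.conj_apply, show c * g * z * (c * g)⁻¹ = c * (g * z * g⁻¹) * c⁻¹ by group]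
    exact hconj
  have hP : ∀ q, (q * z = z * q ∧ q * w = w * q) ↔ (ψ q * z = z * ψ q ∧ ψ q * r = r * ψ q) := by
    intro q
    rw [← ψ.injective.eq_iff (a := q * z), ← ψ.injective.eq_iff (a := q * w), map_mul, map_mul,
      map_mul, map_mul, hψz, hψw, and_comm]
  obtain ⟨k1, k2⟩ := sig_card h hD hT hkK (by omega)
  obtain ⟨j1, j2⟩ := sig_card h hD hT hj hj0
  have e1 : (FA0.tab.sig.getD k (0, 0)).1 = (FA0.tab.sig.getD j (0, 0)).2 := by
    rw [← k1, ← j2]
    refine Nat.card_congr (ψ.toEquiv.subtypeEquiv fun q => and_congr (hP q) ?_)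
    show q * q = z ↔ ψ q * ψ q = r
    rw [← hψz, ← map_mul, ψ.injective.eq_iff]
  have e2 : (FA0.tab.sig.getD k (0, 0)).2 = (FA0.tab.sig.getD j (0, 0)).1 := by
    rw [← k2, ← j1]
    refine Nat.card_congr (ψ.toEquiv.subtypeEquiv fun q => and_congr (hP q) ?_)
    show q * q = w ↔ ψ q * ψ q = z
    rw [← hψw, ← map_mul, ψ.injective.eq_iff]
  have hj23 : j = 2 ∨ j = 3 := by
    have hall : allBelow (fun j => Nat.beq j 0 || Nat.beq j 2 || Nat.beq j 3 ||
        !(Nat.beq (FA0.tab.sig.getD j (0, 0)).1 48 && Nat.beq (FA0.tab.sig.getD j (0, 0)).2 48))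
        FA0.tab.K = true := by decide +kernel
    have := of_allBelow hall j hj
    rw [← e1, ← e2] at this
    have h48 : (FA0.tab.sig.getD k (0, 0)).1 = 48 ∧ (FA0.tab.sig.getD k (0, 0)).2 = 48 := by
      rcases hk with rfl | rfl <;> decide +kernel
    rw [h48.1, h48.2] at this
    simp at this
    omega
  -- an element of `C(z)` carrying `u` to `z * u`
  obtain ⟨a, ha, hae⟩ : ∃ a < 21504, MA0.mdl.val v z x y a * r * (MA0.mdl.val v z x y a)⁻¹ =
      z * r := by
    have hall : MA0.mdl.mul 32 (FA0.tab.rep 2) = MA0.mdl.mul (MA0.mdl.mul 1 (FA0.tab.rep 2)) 32 ∧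
        MA0.mdl.mul 16 (FA0.tab.rep 3) = MA0.mdl.mul (MA0.mdl.mul 1 (FA0.tab.rep 3)) 16 := by
      decide +kernel
    have key : ∀ a < 21504, MA0.mdl.mul a (FA0.tab.rep j) =
        MA0.mdl.mul (MA0.mdl.mul 1 (FA0.tab.rep j)) a →
        MA0.mdl.val v z x y a * r * (MA0.mdl.val v z x y a)⁻¹ = z * r := by
      intro a ha hh
      have hrl := rep_lt hT hj
      have hm := (Mdl.mul_spec h.toRels hD (show 1 < 21504 by norm_num) hrl).2
      have h1 := h.mul hD (show 1 < 21504 by norm_num) hrl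
      rw [val_one h hD hT] at h1
      rw [mul_inv_eq_iff_eq_mul, hr', h1, h.mul hD ha hrl, h.mul hD hm ha, hh]
    rcases hj23 with e0 | e0
    · exact ⟨32, by norm_num, key 32 (by norm_num) (by rw [e0]; exact hall.1)⟩
    · exact ⟨16, by norm_num, key 16 (by norm_num) (by rw [e0]; exact hall.2)⟩
  set A := MA0.mdl.val v z x y a with hA
  have hAz : A * z = z * A := val_comm h hD
  set m := c * g with hm
  have m1 : m * w * m⁻¹ = z := hψw
  have m2 : m * z * m⁻¹ = r := hψz
  refine ⟨m⁻¹ * A * m, ?_, ?_⟩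
  · calc m⁻¹ * A * m * z * (m⁻¹ * A * m)⁻¹ = m⁻¹ * (A * (m * z * m⁻¹) * A⁻¹) * m := by group
      _ = m⁻¹ * (m * w * m⁻¹ * (m * z * m⁻¹)) * m := by rw [m2, hae, m1]
      _ = w * z := by group
      _ = z * w := hwz
  · calc m⁻¹ * A * m * w * (m⁻¹ * A * m)⁻¹ = m⁻¹ * (A * (m * w * m⁻¹) * A⁻¹) * m := by group
      _ = m⁻¹ * (m * w * m⁻¹) * m := by rw [m1, hAz, mul_inv_cancel_right]
      _ = w := by group

/-- A candidate for the first class of four-groups is realised. -/
theorem exists_cand_two (h : Mdl.Loc MA0.mdl Q z v x y)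
    (hs : IsConj z (MA0.mdl.val v z x y 4)) :
    ∃ ps ∈ candTwo, ∃ Y, Mate MA0.mdl v z x y Y ps := by
  obtain ⟨b, h1, h2⟩ := exists_swap h (k := 2) (Or.inl rfl) hs
  exact exists_mate h MA0.good MTwo.tab_ok h1 h2

/-- A candidate for the second class of four-groups is realised. -/
theorem exists_cand_five (h : Mdl.Loc MA0.mdl Q z v x y)
    (hs : IsConj z (MA0.mdl.val v z x y 6)) :
    ∃ ps ∈ candFive, ∃ Y, Mate MA0.mdl v z x y Y ps := by
  obtain ⟨b, h1, h2⟩ := exists_swap h (k := 3) (Or.inr rfl) hs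
  exact exists_mate h MA0.good MFive.tab_ok h1 h2

end CfsgLib.Sporadic.HeldUnique.Fusion
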