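import Cfsg.Agent.Lib.Sporadic.HeldUnique.BadData
import Cfsg.Agent.Lib.Sporadic.HeldUnique.Cands
import Cfsg.Agent.Lib.Sporadic.HeldUnique.Models

/-!
# A candidate mate is of Held type or of linear type
-/

set_option autoImplicit false
set_option maxRecDepth 100000
set_option Elab.async false

namespace CfsgLib.Sporadic.HeldUnique

/-- A candidate is one of the two good ones or is refuted by its witness. -/
noncomputable def sortCheck (a b : List (ℕ × ℕ)) (e : List (ℕ × ℕ) × Wit) : Bool :=
  e.1 == a || e.1 == b || refutes MA0.mdl e.1 e.2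

theorem two_check : (candTwo.zip witTwo).all (sortCheck heTwo linThree) = true := by decide +kernel

theorem five_check : (candFive.zip witFive).all (sortCheck heFive linFour) = true := by decide +kernel

theorem len_check : witTwo.length = candTwo.length ∧ witFive.length = candFive.length := by
  decide +kernel

variable {G : Type*} [Group G] [Finite G] {Q : Subgroup G} {z x y : G} {v : ℕ → G}

theorem kind_of (h : Mdl.Loc MA0.mdl Q z v x y) {cand : List (List (ℕ × ℕ))} {wit : List Wit}
    {a b : List (ℕ × ℕ)} (hc : (cand.zip wit).all (sortCheck a b) = true)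
    (hl : wit.length = cand.length) {ps : List (ℕ × ℕ)} (hm : ps ∈ cand) {Y : G}
    (hY : Mate MA0.mdl v z x y Y ps) : ps = a ∨ ps = b := by
  obtain ⟨i, hi, rfl⟩ := List.getElem_of_mem hm
  have hmem : (cand[i], wit[i]'(hl ▸ hi)) ∈ cand.zip wit :=
    List.mem_iff_getElem.2 ⟨i, by simp [List.length_zip, hl, hi], by simp⟩
  have := List.all_eq_true.1 hc _ hmem
  simp only [sortCheck, Bool.or_eq_true, beq_iff_eq] at this
  rcases this with (e | e) | e
  · exact Or.inl e
  · exact Or.inr e
  · exact (refutes_false h MA0.good hY e).elim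

/-- **The kinds for the first class.** -/
theorem kind_two (h : Mdl.Loc MA0.mdl Q z v x y) {ps : List (ℕ × ℕ)} (hm : ps ∈ candTwo) {Y : G}
    (hY : Mate MA0.mdl v z x y Y ps) : ps = heTwo ∨ ps = linThree :=
  kind_of h two_check len_check.1 hm hY

/-- **The kinds for the second class.** -/
theorem kind_five (h : Mdl.Loc MA0.mdl Q z v x y) {ps : List (ℕ × ℕ)} (hm : ps ∈ candFive) {Y : G}
    (hY : Mate MA0.mdl v z x y Y ps) : ps = heFive ∨ ps = linFour :=
  kind_of h five_check len_check.2 hm hY

end CfsgLib.Sporadic.HeldUnique
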