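import Cfsg.Agent.Lib.Sporadic.HeldUnique.Coord
import Cfsg.Agent.Lib.Sporadic.CosetCertBelow

/-!
# Computable models of an extension of `2^(1+6)` by a group of order 168

An element is coded as `a + 128 * l`, standing for the product of the coded element `a` of the
extraspecial group and the `l`-th word in two further letters `7` and `9`.
-/

set_option autoImplicit false
set_option maxRecDepth 100000

namespace CfsgLib.Sporadic.HeldUnique

open CosetCert

/-- The data of a model. -/
structure Mdl where
  /-- action of the letter 7 on the codes, 8 bits each -/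
  ax : ℕ
  /-- action of the letter 9 on the codes, 8 bits each -/
  ay : ℕ
  /-- values of `x²`, `y³`, `(xy)⁷`, `(xyXY)⁴` -/
  kers : List ℕ
  /-- parent and last letter of each word -/
  par : List (ℕ × ℕ)
  /-- the words -/
  lw : List (List ℕ)
  /-- multiplication by the letter 7 -/
  sx : List (ℕ × ℕ)
  /-- multiplication by the letter 9 -/
  sy : List (ℕ × ℕ)
  /-- actions of the words -/
  act : Tr
  /-- kernel parts of the products of two words -/
  kap : Tr
  /-- word parts of the products of two words -/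
  lm : Tr

/-- An entry of a packed row. -/
def byte (row i : ℕ) : ℕ := Nat.mod (Nat.shiftRight row (Nat.mul 8 i)) 256

namespace Mdl

variable (D : Mdl)

/-- Action of one letter. -/
def gtab (g a : ℕ) : ℕ := byte (bif Nat.beq g 7 then D.ax else D.ay) a

/-- Action of a word. -/
noncomputable def actOf (l a : ℕ) : ℕ := byte (D.act.get 1024 l) a

/-- Kernel part of a product of words. -/
noncomputable def kapOf (l j : ℕ) : ℕ := byte (D.kap.get 1344 l) j

/-- Word part of a product of words. -/
noncomputable def lmOf (l j : ℕ) : ℕ := byte (D.lm.get 1344 l) j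

/-- Multiplication of a word by a letter. -/
def step (g l : ℕ) : ℕ × ℕ := (bif Nat.beq g 7 then D.sx else D.sy).getD l (0, 0)

/-- The product of two codes. -/
noncomputable def mul (i j : ℕ) : ℕ :=
  Nat.add (Nat.mul 128 (D.lmOf (Nat.div i 128) (Nat.div j 128)))
    (qmul (qmul (Nat.mod i 128) (D.actOf (Nat.div i 128) (Nat.mod j 128)))
      (D.kapOf (Nat.div i 128) (Nat.div j 128)))

/-- The inverse of a list of letters. -/
def invWord (w : List ℕ) : List ℕ :=
  w.reverse.map fun x => [0, 1, 2, 3, 4, 5, 6, 8, 7, 10, 9].getD x 0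

/-- The relators. -/
def rels : List (List ℕ) :=
  ((List.range 7).map fun i => [i, i]) ++
  ((List.range 7).flatMap fun i => ((List.range 7).filter fun j => decide (i < j)).map fun j =>
    if j = 6 ∨ j ≠ i + 3 then [i, j, i, j] else [i, j, i, j, 6]) ++
  ((List.range 7).flatMap fun i =>
    [[7, i, 8] ++ invWord (qword (D.gtab 7 (if i < 6 then 2 ^ (i + 1) else 1))),
     [9, i, 10] ++ invWord (qword (D.gtab 9 (if i < 6 then 2 ^ (i + 1) else 1)))]) ++
  [[7, 7] ++ invWord (qword (D.kers.getD 0 0)), [9, 9, 9] ++ invWord (qword (D.kers.getD 1 0)),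
   (List.replicate 7 [7, 9]).flatten ++ invWord (qword (D.kers.getD 2 0)),
   (List.replicate 4 [7, 9, 8, 10]).flatten ++ invWord (qword (D.kers.getD 3 0))]

/-- The consistency of the tables. -/
structure OK : Prop where
  g_lt : allBelow (fun a => Nat.blt (D.gtab 7 a) 128 && Nat.blt (D.gtab 9 a) 128) 128 = true
  g_hom : allBelow (fun i => allBelow (fun a =>
    Nat.beq (D.gtab 7 (qmul (2 ^ i) a)) (qmul (D.gtab 7 (2 ^ i)) (D.gtab 7 a)) &&
    Nat.beq (D.gtab 9 (qmul (2 ^ i) a)) (qmul (D.gtab 9 (2 ^ i)) (D.gtab 9 a))) 128) 7 = true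
  g_zero : D.gtab 7 0 = 0 ∧ D.gtab 9 0 = 0
  par_ok : allBelow (fun l => Nat.beq l 0 || (Nat.blt (D.par.getD l (0, 0)).1 l &&
    (Nat.beq (D.par.getD l (0, 0)).2 7 || Nat.beq (D.par.getD l (0, 0)).2 9) &&
    D.lw.getD l [] == D.lw.getD (D.par.getD l (0, 0)).1 [] ++ [(D.par.getD l (0, 0)).2])) 168 = true
  lw_zero : D.lw.getD 0 [] = [] ∧ D.lw.length = 168 ∧ ∀ w ∈ D.lw, ∀ i ∈ w, i < 11
  step_lt : allBelow (fun l => Nat.blt (D.step 7 l).1 128 && Nat.blt (D.step 7 l).2 168 &&
    Nat.blt (D.step 9 l).1 128 && Nat.blt (D.step 9 l).2 168) 168 = true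
  act_zero : allBelow (fun a => Nat.beq (D.actOf 0 a) a) 128 = true
  act_ok : allBelow (fun l => Nat.beq l 0 || allBelow (fun a => Nat.beq (D.actOf l a)
    (D.actOf (D.par.getD l (0, 0)).1 (D.gtab (D.par.getD l (0, 0)).2 a))) 128) 168 = true
  act_lt : allBelow (fun l => allBelow (fun a => Nat.blt (D.actOf l a) 128) 128) 168 = true
  kap_zero : allBelow (fun l => Nat.beq (D.kapOf l 0) 0 && Nat.beq (D.lmOf l 0) l) 168 = true
  kap_ok : allBelow (fun l => allBelow (fun j => Nat.beq j 0 ||
    (Nat.beq (D.lmOf l j) (D.step (D.par.getD j (0, 0)).2 (D.lmOf l (D.par.getD j (0, 0)).1)).2 &&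
      Nat.blt (D.lmOf l j) 168 && Nat.blt (D.kapOf l j) 128 &&
      Nat.beq (D.kapOf l j) (qmul (D.kapOf l (D.par.getD j (0, 0)).1)
        (D.step (D.par.getD j (0, 0)).2 (D.lmOf l (D.par.getD j (0, 0)).1)).1))) 168) 168 = true

/-- The word proving one edge. -/
def edgeWord (g l : ℕ) : List ℕ :=
  D.lw.getD l [] ++ [g] ++ invWord (qword (D.step g l).1 ++ D.lw.getD (D.step g l).2 [])

/-- Each edge is a tree edge or is proved by the certificate. -/
noncomputable def edgesOK (C : Cert) (top : ℕ) : Bool :=
  allBelow (fun l => [7, 9].all fun g =>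
    (D.lw.getD (D.step g l).2 [] == D.lw.getD l [] ++ [g] && Nat.beq (D.step g l).1 0) ||
    ((D.edgeWord g l).all (fun x => Nat.blt x 11) &&
      Nat.beq (C.walk top 0 (D.edgeWord g l)) (Nat.succ (C.root top C.fuel 0)))) 168

variable {D} {G : Type*} [Group G] {Q : Subgroup G} {z : G} {v : ℕ → G}

/-- The eleven letters. -/
def letters (v : ℕ → G) (z x y : G) (i : ℕ) : G :=
  if i < 7 then qletters v z i else if i = 7 then x else if i = 8 then x⁻¹ else if i = 9 then y
  else if i = 10 then y⁻¹ else 1

/-- The element of a code. -/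
def val (D : Mdl) (v : ℕ → G) (z x y : G) (i : ℕ) : G :=
  qe v z (i % 128) * wp (letters v z x y) (D.lw.getD (i / 128) [])

theorem wp_qword (v : ℕ → G) (z x y : G) (a : ℕ) : wp (letters v z x y) (qword a) = qe v z a := by
  rw [qe]
  refine wp_congr _ fun i hi => ?_
  have : i < 7 := by
    simp only [qword, List.mem_append, List.mem_filter, List.mem_range] at hi
    rcases hi with hi | hi
    · omega
    · split at hi
      · simp only [List.mem_singleton] at hi; omega
      · simp at hi
  rw [letters, if_pos this]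

theorem letters_inv (hF : Frame Q z v) (x y : G) : ∀ i < 11,
    letters v z x y ([0, 1, 2, 3, 4, 5, 6, 8, 7, 10, 9].getD i 0) = (letters v z x y i)⁻¹ := by
  have hq : ∀ i < 7, qletters v z i = (qletters v z i)⁻¹ := fun i hi => by
    refine (inv_eq_of_mul_eq_one_right ?_).symm
    rw [qletters]
    split_ifs with h
    exacts [hF.sq i h, hF.z_sq]
  intro i hi
  interval_cases i <;> simp [letters] <;> exact hq _ (by norm_num)

theorem wp_invWord (hF : Frame Q z v) (x y : G) : ∀ w : List ℕ, (∀ i ∈ w, i < 11) →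
    wp (letters v z x y) (invWord w) = (wp (letters v z x y) w)⁻¹ := by
  intro w
  induction w with
  | nil => intro _; simp [invWord, wp]
  | cons i t ih =>
    intro hw
    have : invWord (i :: t) = invWord t ++ [[0, 1, 2, 3, 4, 5, 6, 8, 7, 10, 9].getD i 0] := by
      simp [invWord]
    rw [this, wp_append, ih fun j hj => hw j (List.mem_cons_of_mem _ hj), wp, wp, wp, mul_one,
      letters_inv hF x y i (hw i List.mem_cons_self), mul_inv_rev]

theorem qword_lt (a : ℕ) : ∀ i ∈ qword a, i < 11 := fun i hi => by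
  simp only [qword, List.mem_append, List.mem_filter, List.mem_range] at hi
  rcases hi with hi | hi
  · omega
  · split at hi <;> simp_all

/-- The hypotheses on the two further elements. -/
structure Rels (D : Mdl) (Q : Subgroup G) (z : G) (v : ℕ → G) (x y : G) : Prop where
  frame : Frame Q z v
  rel : ∀ r ∈ D.rels, wp (letters v z x y) r = 1

namespace Rels

variable {x y : G}

theorem conj_gen (h : Rels D Q z v x y) {g : ℕ} (hg : g = 7 ∨ g = 9) {i : ℕ} (hi : i < 7) :
    letters v z x y g * qe v z (2 ^ i) =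
      qe v z (D.gtab g (2 ^ i)) * letters v z x y g := by
  obtain ⟨k, hk, hki⟩ : ∃ k < 7, (if k < 6 then 2 ^ (k + 1) else 1) = 2 ^ i := by
    revert i; decide
  have hmem : [g, k, if g = 7 then 8 else 10] ++ invWord (qword (D.gtab g (2 ^ i))) ∈ D.rels := by
    simp only [rels, List.mem_append, List.mem_flatMap, List.mem_range]
    refine Or.inl (Or.inr ⟨k, hk, ?_⟩)
    rcases hg with rfl | rfl <;> simp [hki]
  have e := h.rel _ hmem
  rw [wp_append, wp_invWord h.frame x y _ (qword_lt _), wp_qword, mul_inv_eq_one] at e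
  have hlk : letters v z x y k = qe v z (2 ^ i) := by
    rw [← hki, letters, if_pos hk]
    split_ifs with h6
    · rw [Frame.qe_two_pow v z h6, qletters, if_pos h6]
    · rw [Frame.qe_z_code, qletters, if_neg h6]
  have hinv : letters v z x y (if g = 7 then 8 else 10) = (letters v z x y g)⁻¹ := by
    rcases hg with rfl | rfl <;> simp [letters]
  simp only [wp, mul_one, hlk, hinv] at e
  rw [← e]
  group

theorem conj_code (h : Rels D Q z v x y) (hD : D.OK) {g : ℕ} (hg : g = 7 ∨ g = 9) :
    ∀ a < 128, letters v z x y g * qe v z a = qe v z (D.gtab g a) * letters v z x y g := by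
  have hlt : ∀ a < 128, D.gtab g a < 128 := fun a ha => by
    have := of_allBelow hD.g_lt a ha
    simp only [Bool.and_eq_true, Nat.blt_eq] at this
    rcases hg with rfl | rfl
    exacts [this.1, this.2]
  have hdec : ∀ a < 128, a = 0 ∨ ∃ i < 7, qmul (2 ^ i) a < a ∧ qmul (2 ^ i) (qmul (2 ^ i) a) = a := by
    decide +kernel
  intro a
  induction a using Nat.strong_induction_on with
  | _ a ih =>
    intro ha
    rcases hdec a ha with rfl | ⟨i, hi, hla, e⟩
    · have : D.gtab g 0 = 0 := by rcases hg with rfl | rfl; exacts [hD.g_zero.1, hD.g_zero.2]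
      rw [this, Frame.qe_one, mul_one, one_mul]
    · have hb : qmul (2 ^ i) a < 128 := hla.trans ha
      have hp : 2 ^ i < 128 := lt_of_lt_of_le (Nat.pow_lt_pow_right (by norm_num) hi) (by norm_num)
      have hom := of_allBelow (of_allBelow hD.g_hom i hi) _ hb
      simp only [Bool.and_eq_true, Nat.beq_eq] at hom
      have hom' : D.gtab g (qmul (2 ^ i) (qmul (2 ^ i) a)) =
          qmul (D.gtab g (2 ^ i)) (D.gtab g (qmul (2 ^ i) a)) := by
        rcases hg with rfl | rfl
        exacts [hom.1, hom.2]
      rw [e] at hom'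
      conv_lhs => rw [← e, ← h.frame.qe_mul _ hp _ hb, ← mul_assoc, h.conj_gen hg hi, mul_assoc,
        ih _ hla hb, ← mul_assoc, h.frame.qe_mul _ (hlt _ hp) _ (hlt _ hb), ← hom']

theorem conj_word (h : Rels D Q z v x y) (hD : D.OK) : ∀ l < 168, ∀ a < 128,
    wp (letters v z x y) (D.lw.getD l []) * qe v z a =
      qe v z (D.actOf l a) * wp (letters v z x y) (D.lw.getD l []) := by
  intro l
  induction l using Nat.strong_induction_on with
  | _ l ih =>
    intro hl a ha
    rcases Nat.eq_zero_or_pos l with rfl | hpos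
    · have := of_allBelow hD.act_zero a ha
      rw [Nat.eq_of_beq_eq_true this, hD.lw_zero.1]
      simp [wp]
    · have hp := of_allBelow hD.par_ok l hl
      have hact := of_allBelow hD.act_ok l hl
      simp only [Bool.or_eq_true, Nat.beq_eq, Bool.and_eq_true, Nat.blt_eq, beq_iff_eq] at hp hact
      obtain ⟨⟨hlt, hg⟩, hw⟩ := hp.resolve_left (by omega)
      have hg' := of_allBelow (hact.resolve_left (by omega)) a ha
      have hgl : D.gtab (D.par.getD l (0, 0)).2 a < 128 := by
        have := of_allBelow hD.g_lt a ha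
        simp only [Bool.and_eq_true, Nat.blt_eq] at this
        rcases hg with e | e <;> rw [e]
        exacts [this.1, this.2]
      rw [hw, wp_append, wp, wp, mul_one, mul_assoc, h.conj_code hD hg a ha, ← mul_assoc,
        ih _ hlt (hlt.trans hl) _ hgl, mul_assoc, Nat.eq_of_beq_eq_true hg']

theorem edge (h : Rels D Q z v x y) (hD : D.OK) {C : Cert} {top : ℕ} (hV : C.Valid)
    (hC : (List.range C.nr).map (certWord C) = D.rels)
    (hs : C.nr = C.words.length ∧ C.nl = 11 ∧
      ∀ i < 11, C.inv i = [0, 1, 2, 3, 4, 5, 6, 8, 7, 10, 9].getD i 0)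
    (he : D.edgesOK C top = true) {g : ℕ} (hg : g = 7 ∨ g = 9) {l : ℕ} (hl : l < 168) :
    wp (letters v z x y) (D.lw.getD l []) * letters v z x y g =
      qe v z (D.step g l).1 * wp (letters v z x y) (D.lw.getD (D.step g l).2 []) := by
  have := of_allBelow he l hl
  simp only [List.all_cons, List.all_nil, Bool.and_true, Bool.and_eq_true] at this
  have hcase : ((D.lw.getD (D.step g l).2 [] == D.lw.getD l [] ++ [g] && Nat.beq (D.step g l).1 0) ||
    ((D.edgeWord g l).all (fun i => Nat.blt i 11) &&
      Nat.beq (C.walk top 0 (D.edgeWord g l)) (Nat.succ (C.root top C.fuel 0)))) = true := by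
    rcases hg with rfl | rfl
    exacts [this.1, this.2]
  simp only [Bool.or_eq_true, Bool.and_eq_true, beq_iff_eq, Nat.beq_eq, List.all_eq_true,
    Nat.blt_eq] at hcase
  rcases hcase with ⟨e1, e2⟩ | ⟨hw, hwalk⟩
  · rw [e1, e2, Frame.qe_one, one_mul, wp_append, wp, wp, mul_one]
  · have e := wp_eq_one hV hs.1 (letters v z x y)
      (fun i hi => by rw [hs.2.1] at hi; rw [hs.2.2 i hi, letters_inv h.frame x y i hi])
      (fun i hi => h.rel _ (hC ▸ List.mem_map_of_mem (List.mem_range.2 hi)))
      (fun i hi => by rw [hs.2.1]; exact hw i hi) hwalk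
    have hlt : ∀ i ∈ qword (D.step g l).1 ++ D.lw.getD (D.step g l).2 [], i < 11 := fun i hi => by
      have hi' : i ∈ qword (D.step g l).1 ++ D.lw.getD (D.step g l).2 [] := hi
      rcases List.mem_append.1 hi' with h1 | h1
      · exact qword_lt _ i h1
      · rw [List.getD_eq_getElem?_getD] at h1
        cases hk : D.lw[(D.step g l).2]? with
        | none => rw [hk] at h1; simp at h1
        | some w => rw [hk] at h1; exact hD.lw_zero.2.2 w (List.mem_of_getElem? hk) i h1
    rw [edgeWord, wp_append, wp_append, wp_invWord h.frame x y _ hlt, wp_append, wp_qword, mul_inv_eq_one,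
      wp, wp, mul_one] at e
    exact e

end Rels

end Mdl

end CfsgLib.Sporadic.HeldUnique
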