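import Cfsg.Agent.Lib.Sporadic.CosetCertGroup

/-!
# Relations from partial coset certificates

A certificate whose slots check proves every relation whose walk from the first node returns,
whether or not the table closes (take the number of cosets to be zero).
-/

set_option autoImplicit false

namespace CfsgLib.Sporadic.HeldUnique

open CosetCert

variable {G : Type*} [Group G]

/-- The product of the letters of a word, in reading order. -/
def wp (L : ℕ → G) : List ℕ → G
  | [] => 1
  | x :: t => L x * wp L t

theorem wp_append (L : ℕ → G) (u v : List ℕ) : wp L (u ++ v) = wp L u * wp L v := by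
  induction u with
  | nil => simp [wp]
  | cons x t ih => simp [wp, ih, mul_assoc]

theorem wp_congr {L L' : ℕ → G} : ∀ w : List ℕ, (∀ x ∈ w, L x = L' x) → wp L w = wp L' w := by
  intro w
  induction w with
  | nil => intro _; rfl
  | cons x t ih =>
    intro h
    rw [wp, wp, h x List.mem_cons_self, ih fun y hy => h y (List.mem_cons_of_mem _ hy)]

theorem wp_mem {L : ℕ → G} {H : Subgroup G} : ∀ w : List ℕ, (∀ x ∈ w, L x ∈ H) → wp L w ∈ H := by
  intro w
  induction w with
  | nil => intro _; exact H.one_mem
  | cons x t ih =>
    intro h
    exact H.mul_mem (h x List.mem_cons_self) (ih fun y hy => h y (List.mem_cons_of_mem _ hy))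

theorem map_wp {H : Type*} [Group H] (f : G →* H) (L : ℕ → G) :
    ∀ w, f (wp L w) = wp (fun x => f (L x)) w := by
  intro w
  induction w with
  | nil => simp [wp]
  | cons x t ih => simp [wp, ih]

/-- The letters of a word of a certificate. -/
noncomputable def certWord (C : Cert) (i : ℕ) : List ℕ :=
  (List.range (C.word i).1).map fun j => Cert.letterAt (C.word i).1 (C.word i).2 0 j

/-- The letters, inverted, for use as a left action. -/
def actLetter (C : Cert) (L : ℕ → G) (x : ℕ) : G := if x < C.nl then (L x)⁻¹ else 1

theorem appProd_actLetter (C : Cert) (L : ℕ → G) : ∀ w : List ℕ, (∀ x ∈ w, x < C.nl) →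
    appProd (actLetter C L) w = (wp L w)⁻¹ := by
  intro w
  induction w with
  | nil => intro _; simp [appProd, wp]
  | cons x t ih =>
    intro h
    rw [appProd, wp, ih fun y hy => h y (List.mem_cons_of_mem _ hy), actLetter,
      if_pos (h x List.mem_cons_self), mul_inv_rev]

theorem prod_eq_appProd {C : Cert} {X : Type*} [MulAction G X] (I : C.Interp G X) (n bits : ℕ) :
    ∀ j, I.prod n bits 0 j = appProd I.g ((List.range j).map fun k => Cert.letterAt n bits 0 k) := by
  intro j
  induction j with
  | zero => rfl
  | succ j ih =>
    rw [List.range_succ, List.map_append, appProd_append, ← ih]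
    simp [appProd, Cert.Interp.prod]

/-- A relation read off a certificate whose relators hold. -/
theorem wp_eq_one {C : Cert} (hV : C.Valid) (hnr : C.nr = C.words.length) (L : ℕ → G)
    (hinv : ∀ x < C.nl, L (C.inv x) = (L x)⁻¹)
    (hrel : ∀ i < C.nr, wp L (certWord C i) = 1) {w : List ℕ} (hw : ∀ x ∈ w, x < C.nl) {top : ℕ}
    (hwalk : C.walk top 0 w = C.root top C.fuel 0 + 1) : wp L w = 1 := by
  let I : C.Interp G G :=
    { g := actLetter C L
      base := 1
      g_nl := if_neg (lt_irrefl _)
      g_inv := fun x hx => by
        simp only [actLetter, if_pos (hV.inv_lt x hx), if_pos hx, hinv x hx] }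
  have hR : I.Respects := fun i hi => by
    have h1 : I.prod (C.word i).1 (C.word i).2 0 (C.word i).1 = 1 := by
      rw [prod_eq_appProd]
      show appProd (actLetter C L) (certWord C i) = 1
      rw [appProd_actLetter C L _ (fun x hx => by
        obtain ⟨j, -, rfl⟩ := List.mem_map.1 hx
        exact hV.letter_lt i hi 0 j), hrel i (hnr ▸ hi), inv_one]
    exact ⟨fun _ => h1, by rw [h1, one_smul]⟩
  have hS := Cert.slotsBelow hV hR top
  have key : ∀ (w : List ℕ), (∀ x ∈ w, x < C.nl) → ∀ u s, C.walk top u w = s + 1 →
      appProd I.g w • I.node u = I.node s := by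
    intro w
    induction w with
    | nil =>
      intro _ u s h
      have h' : u = s := Nat.succ_injective h
      rw [h']
      exact one_smul _ _
    | cons x t ih =>
      intro hw u s h
      change Nat.rec (motive := fun _ => ℕ) 0 (fun a _ => C.walk top a t) (C.look top u x) = s + 1 at h
      rcases hl : C.look top u x with _ | a
      · rw [hl] at h; exact absurd h (by simp)
      · rw [hl] at h
        rw [appProd, mul_smul, hS.look_spec (hw x List.mem_cons_self).le hl]
        exact ih (fun y hy => hw y (List.mem_cons_of_mem _ hy)) a s h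
  have h := key w hw 0 _ hwalk
  rw [hS.root_spec, I.node_zero] at h
  have h2 : appProd (actLetter C L) w * 1 = 1 := h
  rwa [mul_one, appProd_actLetter C L w hw, inv_eq_one] at h2

end CfsgLib.Sporadic.HeldUnique
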